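/-
Elements of prime order of the derived orthogonal groups in characteristic two fixing a non-singular point.
-/
import Cfsg.Agent.Lib.Classical.QuadPOmega
import Cfsg.Agent.Lib.KnownSimple.POAut.FormClass
import Cfsg.Agent.Lib.KnownSimple.POAut.Inndiag
import Cfsg.Agent.Lib.Classical.SylowTwo.Main
import Cfsg.Prelude.Def_GeometricClasses
import Mathlib.FieldTheory.Finite.Extension

set_option autoImplicit false

namespace CfsgLib.Classical.Elusive

open Matrix Cfsg

universe u

variable {F : Type u} [Field F] [Fintype F] {ι : Type} [Fintype ι] [DecidableEq ι]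

theorem exists_nonzero_value (Q : QuadraticForm F (ι → F)) (hQ : PolarNondeg Q) [Nonempty ι] :
    ∃ v, Q v ≠ 0 := by
  classical
  by_contra hc
  push Not at hc
  obtain ⟨i⟩ := ‹Nonempty ι›
  have h0 : (Pi.single i 1 : ι → F) = 0 := hQ _ fun w => by simp [QuadraticMap.polar, hc]
  simpa using congrFun h0 i

theorem scalar_eq_one [CharP F 2] {Q : QuadraticForm F (ι → F)} (hQ : PolarNondeg Q) [Nonempty ι] {z : F}
    (h : ∀ v, Q (z • v) = Q v) : z = 1 := by
  obtain ⟨v, hv⟩ := exists_nonzero_value Q hQ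
  have h' := h v
  rw [quad_smul] at h'
  have hz : z * z = 1 := by
    refine mul_right_cancel₀ hv ?_
    rw [h', one_mul]
  rcases mul_self_eq_one_iff.mp hz with h1 | h1
  · exact h1
  · rw [h1, CharTwo.neg_eq]

/-- The statement about points, in matrices and in automorphisms. -/
theorem fixes_iff [CharP F 2] (Q : QuadraticForm F (ι → F)) (hQ : PolarNondeg Q) [Nonempty ι] (r : ℕ) :
    (∀ x : GL ι F, x ∈ Cfsg.Geo.omegaGL ⇑Q →
      (∃ z : F, ((x ^ r : GL ι F) : Matrix ι ι F) = z • (1 : Matrix ι ι F)) →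
      (∀ z : F, (x : Matrix ι ι F) ≠ z • (1 : Matrix ι ι F)) →
      ∃ W : Submodule F (ι → F), (Module.finrank F W = 1 ∧ ∃ v ∈ W, Q v ≠ 0) ∧
        W.map (Matrix.toLin' (x : Matrix ι ι F)) ≤ W) ↔
    (∀ g : qAut Q, g ∈ commutator (qAut Q) → g ^ r = 1 → g ≠ 1 → ∃ v, Q v ≠ 0 ∧ g.1 v = v) := by
  have happ : ∀ (g : isometryGroup F ⇑Q) (v : ι → F),
      (isoEquiv Q g).1 v = ((g : GL ι F) : Matrix ι ι F) *ᵥ v := fun g v => rfl
  constructor
  · intro h g hg hgr hg1
    obtain ⟨g', rfl⟩ := (isoEquiv Q).surjective g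
    have hmem : (g' : GL ι F) ∈ Cfsg.Geo.omegaGL ⇑Q :=
      Subgroup.mem_map_of_mem (isometryGroup F ⇑Q).subtype ((mem_Omega_iff Q).mpr hg)
    have hpow : g' ^ r = 1 := by
      apply (isoEquiv Q).injective
      rw [map_pow, hgr, map_one]
    obtain ⟨W, ⟨hW1, v, hvW, hv⟩, hWx⟩ := h g' hmem ⟨1, by
      rw [← Subgroup.coe_pow, hpow]; simp⟩ fun z hz => hg1 (by
      have hz' : ∀ v, (isoEquiv Q g').1 v = z • v := fun v => by rw [happ, hz, smul_mulVec, one_mulVec]
      obtain rfl : z = 1 := scalar_eq_one hQ fun v => by rw [← hz', qAut_map]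
      exact qAut_ext fun v => by rw [hz', one_smul]; rfl)
    have hv0 : v ≠ 0 := by rintro rfl; simp at hv
    obtain ⟨c, hc⟩ := exists_smul_eq_of_finrank_eq_one hW1 (x := ⟨v, hvW⟩)
      (by simpa [Subtype.ext_iff] using hv0) ⟨_, hWx ⟨v, hvW, rfl⟩⟩
    have hc' : c • v = (isoEquiv Q g').1 v := by
      rw [happ]; simpa [Subtype.ext_iff] using hc
    refine ⟨v, hv, ?_⟩
    have h' := qAut_map (isoEquiv Q g') v
    rw [← hc', quad_smul] at h'
    have hcc : c * c = 1 := mul_right_cancel₀ hv (by rw [h', one_mul])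
    rcases mul_self_eq_one_iff.mp hcc with h1 | h1
    · rw [← hc', h1, one_smul]
    · rw [← hc', h1, CharTwo.neg_eq, one_smul]
  · intro h x hx ⟨z, hz⟩ hx1
    obtain ⟨g, hg, rfl⟩ := hx
    set G := isoEquiv Q g
    have hGz : ∀ v, (G ^ r).1 v = z • v := fun v => by
      rw [← map_pow, happ, Subgroup.coe_pow]
      erw [hz]
      rw [smul_mulVec, one_mulVec]
    have hz1 : z = 1 := scalar_eq_one hQ fun v => by rw [← hGz, qAut_map]
    obtain ⟨v, hv, hgv⟩ := h G ((mem_Omega_iff Q).mp hg)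
      (qAut_ext fun v => by rw [hGz, hz1, one_smul]; rfl) fun hG => hx1 1 (by
        have : g = 1 := (isoEquiv Q).injective (hG.trans (map_one _).symm)
        subst this; simp)
    have hv0 : v ≠ 0 := by rintro rfl; simp at hv
    refine ⟨Submodule.span F {v}, ⟨finrank_span_singleton hv0, v, Submodule.mem_span_singleton_self v, hv⟩, ?_⟩
    rw [Submodule.map_le_iff_le_comap, Submodule.span_singleton_le_iff_mem, Submodule.mem_comap,
      Matrix.toLin'_apply]
    rw [happ] at hgv
    erw [hgv]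
    exact Submodule.mem_span_singleton_self v

theorem card_nonsing (Q : QuadraticForm F (ι → F)) :
    Nat.card {v : ι → F // Q v ≠ 0} =
      Nat.card {W : Submodule F (ι → F) // Module.finrank F W = 1 ∧ ∃ v ∈ W, Q v ≠ 0} *
        (Fintype.card F - 1) := by
  classical
  rw [← Fintype.card_units, ← Nat.card_eq_fintype_card (α := Fˣ), ← Nat.card_prod]
  symm
  refine Nat.card_eq_of_bijective (fun p => ⟨(p.2 : F) • p.1.2.2.choose, by
    rw [quad_smul]
    exact mul_ne_zero (mul_ne_zero p.2.ne_zero p.2.ne_zero) p.1.2.2.choose_spec.2⟩) ⟨?_, ?_⟩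
  · rintro ⟨W, t⟩ ⟨W', t'⟩ h
    simp only [Subtype.mk.injEq] at h
    set v := W.2.2.choose
    set v' := W'.2.2.choose
    have hv : v ≠ 0 := fun h0 => W.2.2.choose_spec.2 (by rw [show W.2.2.choose = 0 from h0, map_zero])
    have hv' : v' ≠ 0 := fun h0 => W'.2.2.choose_spec.2 (by rw [show W'.2.2.choose = 0 from h0, map_zero])
    haveI := Module.finite_of_finite (R := F) (M := ι → F)
    have key : ∀ (U : {W : Submodule F (ι → F) // Module.finrank F W = 1 ∧ ∃ v ∈ W, Q v ≠ 0}) (u : ι → F),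
        u ∈ U.1 → u ≠ 0 → U.1 = Submodule.span F {u} := fun U u hu hu0 => by
      refine (Submodule.eq_of_le_of_finrank_eq ?_ ?_).symm
      · rwa [Submodule.span_singleton_le_iff_mem]
      · rw [finrank_span_singleton hu0, U.2.1]
    have e : W = W' := by
      apply Subtype.ext
      rw [key W v W.2.2.choose_spec.1 hv, key W' v' W'.2.2.choose_spec.1 hv',
        ← Submodule.span_singleton_smul_eq t.isUnit, h, Submodule.span_singleton_smul_eq t'.isUnit]
    subst e
    exact Prod.ext rfl (Units.ext (smul_left_injective F hv h))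
  · rintro ⟨v, hv⟩
    have hv0 : v ≠ 0 := by rintro rfl; simp at hv
    let W : {W : Submodule F (ι → F) // Module.finrank F W = 1 ∧ ∃ v ∈ W, Q v ≠ 0} :=
      ⟨Submodule.span F {v}, finrank_span_singleton hv0, v, Submodule.mem_span_singleton_self v, hv⟩
    obtain ⟨c, hc⟩ := Submodule.mem_span_singleton.mp W.2.2.choose_spec.1
    have hc0 : c ≠ 0 := fun h0 => W.2.2.choose_spec.2 (by rw [← hc, h0, zero_smul, map_zero])
    refine ⟨(W, (Units.mk0 c hc0)⁻¹), Subtype.ext ?_⟩
    show ((Units.mk0 c hc0)⁻¹ : Fˣ) • W.2.2.choose = v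
    rw [← hc, inv_smul_eq_iff]
    rfl

theorem count_mul (Q : QuadraticForm F (ι → F)) :
    (Nat.card {W : Submodule F (ι → F) // Module.finrank F W = 1 ∧ ∃ v ∈ W, Q v ≠ 0} : ℤ) *
      ((Fintype.card F : ℤ) - 1) = (Fintype.card F : ℤ) ^ Fintype.card ι - zeros Q := by
  classical
  have h1 := card_nonsing Q
  have h2 : zeros Q + Nat.card {v : ι → F // Q v ≠ 0} = Fintype.card F ^ Fintype.card ι := by
    rw [zeros, ← Nat.card_sum, Nat.card_congr (Equiv.sumCompl _), Nat.card_fun,
      Nat.card_eq_fintype_card, Nat.card_eq_fintype_card]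
  rw [← Nat.cast_pow, ← h2, h1, Nat.cast_add, add_sub_cancel_left, Nat.cast_mul,
    Nat.cast_sub (Fintype.card_pos (α := F)), Nat.cast_one]

variable [CharP F 2]

theorem mem_commutator_iff_even (Q : QuadraticForm F (ι → F)) (hQ : PolarNondeg Q)
    (hn : 5 ≤ Fintype.card ι) (g : qAut Q) : g ∈ commutator (qAut Q) ↔ Even (qRank Q g) := by
  have hfr : Module.finrank F (ι → F) = Fintype.card ι := Module.finrank_pi F
  have hex : Fintype.card F ≠ 2 ∨ Module.finrank F (ι → F) ≠ 4 := Or.inr (by omega)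
  obtain ⟨D, hD, hD1⟩ := exists_parity_hom Q hQ (reflGroup_eq_top Q hQ hex)
  have hle : commutator (qAut Q) ≤ D.ker := Abelianization.commutator_subset_ker D
  haveI : Nonempty ι := Fintype.card_pos_iff.mp (by omega)
  obtain ⟨v, hv⟩ := exists_nonzero_value Q hQ
  have hsurj : Function.Surjective D := by
    intro y
    rcases (by decide : ∀ z : ZMod 2, z = 0 ∨ z = 1) (Multiplicative.toAdd y) with h | h
    · exact ⟨1, by rw [map_one, ← ofAdd_toAdd y, h]; rfl⟩
    · exact ⟨qRefl Q hv, by rw [hD1, ← h, ofAdd_toAdd]⟩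
  have hker : D.ker = commutator (qAut Q) := by
    haveI := finite_qAut Q
    have hi : D.ker.index = 2 := by
      rw [Subgroup.index_ker, MonoidHom.range_eq_top.mpr hsurj, Subgroup.card_top]
      simp
    refine (Subgroup.eq_of_le_of_card_ge hle ?_).symm
    have h1 := Subgroup.card_mul_index D.ker
    have h2 := Subgroup.card_mul_index (commutator (qAut Q))
    rw [hi] at h1
    rw [index_commutator_two Q hQ (by omega) hex] at h2
    omega
  rw [← hker, MonoidHom.mem_ker, hD, ← ofAdd_zero, Multiplicative.ofAdd.injective.eq_iff,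
    ZMod.natCast_eq_zero_iff, even_iff_two_dvd]

theorem mem_commutator_of_odd_pow (Q : QuadraticForm F (ι → F)) (hQ : PolarNondeg Q)
    (hn : 5 ≤ Fintype.card ι) {r : ℕ} (hr : Odd r) {g : qAut Q} (hg : g ^ r = 1) :
    g ∈ commutator (qAut Q) := by
  have hidx := index_commutator_two Q hQ (by rw [Module.finrank_pi]; omega)
    (Or.inr (by rw [Module.finrank_pi]; omega))
  obtain ⟨k, rfl⟩ := hr
  have h2 : (g ^ 2) ^ k ∈ commutator (qAut Q) := Subgroup.pow_mem _
    ((Subgroup.sq_mem_of_index_two hidx) g) _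
  rw [← pow_mul] at h2
  rw [pow_succ] at hg
  rw [eq_inv_of_mul_eq_one_right hg]
  exact inv_mem h2

/-- Involutions of even rank fix a non-singular vector unless there is a singular half. -/
theorem exists_fixed_of_involution (Q : QuadraticForm F (ι → F)) (hQ : PolarNondeg Q) {d : ℕ}
    (hn : Fintype.card ι = 2 * d) (hd : 3 ≤ d)
    (hbad : Odd d ∨ ∀ U : Submodule F (ι → F), Module.finrank F U = d → (∀ u ∈ U, Q u = 0) → False)
    {g : qAut Q} (hg : g ∈ commutator (qAut Q)) (hg2 : g ^ 2 = 1) : ∃ v, Q v ≠ 0 ∧ g.1 v = v := by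
  by_contra hc
  push Not at hc
  have hfr : Module.finrank F (ι → F) = Fintype.card ι := Module.finrank_pi F
  haveI : Module.Finite F (ι → F) := Module.Finite.pi
  set L := g.1.toLinearMap - LinearMap.id with hL
  have hLx : ∀ x, L x = g.1 x - x := fun x => rfl
  set U := LinearMap.ker L
  have hU : ∀ u ∈ U, Q u = 0 := fun u hu => by
    by_contra h
    exact hc u h (sub_eq_zero.mp ((hLx u).symm.trans (LinearMap.mem_ker.mp hu)))
  have hrange : LinearMap.range L ≤ U := by
    rintro _ ⟨x, rfl⟩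
    rw [LinearMap.mem_ker, hLx, hLx, map_sub]
    have : g.1 (g.1 x) = x := by rw [← qAut_mul_apply, ← sq, hg2]; rfl
    rw [this, show x - g.1 x = g.1 x - x by
      rw [← neg_sub (g.1 x) x]; funext i; simp only [Pi.neg_apply, CharTwo.neg_eq], sub_self]
  have h1 := LinearMap.finrank_range_add_finrank_ker L
  have h2 := Submodule.finrank_mono hrange
  have h3 : Module.finrank F U ≤ d := by
    have hle : U ≤ LinearMap.BilinForm.orthogonal (QuadraticMap.polarBilin Q) U := by
      intro u hu w hw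
      show QuadraticMap.polar Q w u = 0
      simp [QuadraticMap.polar, hU _ (add_mem hw hu), hU _ hw, hU _ hu]
    have := Submodule.finrank_mono hle
    rw [LinearMap.BilinForm.finrank_orthogonal (PolarNondeg.nondegenerate hQ), hfr] at this
    omega
  have hUe : Module.finrank F U = Module.finrank F (LinearMap.ker L) := rfl
  rcases hbad with hod | hno
  · have he := (mem_commutator_iff_even Q hQ (by omega) g).mp hg
    unfold qRank at he
    rw [← hL, show Module.finrank F (LinearMap.range L) = d by omega] at he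
    exact (Nat.not_even_iff_odd.mpr hod) he
  · exact hno U (by omega) hU

omit [CharP F 2] in
theorem exists_order_elt {L : Type*} [Field L] [Fintype L] {r : ℕ} [Fact r.Prime]
    (h : r ∣ Fintype.card L - 1) : ∃ ζ : L, ζ ≠ 1 ∧ ζ ^ r = 1 := by
  classical
  obtain ⟨u, hu⟩ := exists_prime_orderOf_dvd_card r (G := Lˣ) (by rwa [Fintype.card_units])
  refine ⟨u, fun h1 => ?_, ?_⟩
  · rw [Units.val_eq_one] at h1
    rw [h1, orderOf_one] at hu
    exact (Fact.out : r.Prime).one_lt.ne hu
  · rw [← Units.val_pow_eq_pow_val, ← hu, pow_orderOf_eq_one, Units.val_one]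

/-- The maps `(u, v) ↦ (M u, M' v)`. -/
noncomputable def pairLin {d : ℕ} (M M' : Matrix (Fin d) (Fin d) F) :
    (Fin d ⊕ Fin d → F) →ₗ[F] (Fin d ⊕ Fin d → F) :=
  (Matrix.fromBlocks M 0 0 M').mulVecLin

omit [CharP F 2] in
theorem witness_plus_odd (p : ℕ) [Fact p.Prime] [CharP F p] {d r : ℕ} [NeZero d] [Fact r.Prime]
    (h : r ∣ Fintype.card F ^ d - 1) :
    ∃ g : qAut (qPlus d F), g ^ r = 1 ∧ g ≠ 1 ∧ ∀ v, g.1 v = v → v = 0 := by
  classical
  let L := FiniteField.Extension F p d
  haveI : Fintype L := Fintype.ofFinite L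
  have hL : Fintype.card L = Fintype.card F ^ d := by
    rw [Fintype.card_eq_nat_card, FiniteField.natCard_extension, Fintype.card_eq_nat_card]
  obtain ⟨ζ, hζ1, hζ⟩ := exists_order_elt (L := L) (r := r) (hL ▸ h)
  have hζ0 : ζ ≠ 0 := by rintro rfl; rw [zero_pow (Fact.out : r.Prime).ne_zero] at hζ; exact zero_ne_one hζ
  let b : Module.Basis (Fin d) F L := Module.finBasisOfFinrankEq F L (FiniteField.finrank_extension F p d)
  let M := Algebra.leftMulMatrix b ζ
  let M' := (Algebra.leftMulMatrix b ζ⁻¹)ᵀ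
  have hfix : ∀ (N : L) (u : Fin d → F), N ≠ 1 → (Algebra.leftMulMatrix b N *ᵥ u = u ∨
      (Algebra.leftMulMatrix b N)ᵀ *ᵥ u = u) → u = 0 := by
    intro N u hN hu
    have hdet : (Algebra.leftMulMatrix b (N - 1)).det ≠ 0 :=
      ((Matrix.isUnit_iff_isUnit_det _).mp ((isUnit_iff_ne_zero.mpr (sub_ne_zero.mpr hN)).map
        (Algebra.leftMulMatrix b))).ne_zero
    rcases hu with hu | hu
    · refine Matrix.eq_zero_of_mulVec_eq_zero hdet ?_
      rw [map_sub, map_one, sub_mulVec, one_mulVec, hu, sub_self]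
    · refine Matrix.eq_zero_of_mulVec_eq_zero (M := (Algebra.leftMulMatrix b (N - 1))ᵀ)
        (by rwa [det_transpose]) ?_
      rw [map_sub, map_one, transpose_sub, transpose_one, sub_mulVec, one_mulVec, hu, sub_self]
  have hMM : M'ᵀ * M = 1 := by
    rw [transpose_transpose, ← map_mul, inv_mul_cancel₀ hζ0, map_one]
  have hQ : ∀ v, qPlus d F (pairLin M M' v) = qPlus d F v := fun v => by
    have key : ∀ v : Fin d ⊕ Fin d → F, qPlus d F v = (v ∘ Sum.inr) ⬝ᵥ (v ∘ Sum.inl) := fun v => by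
      rw [coe_qPlus]; simp [Cfsg.quadFormPlus, dotProduct, mul_comm]
    rw [key, key, pairLin, Matrix.mulVecLin_apply, fromBlocks_mulVec]
    simp only [Sum.elim_comp_inl, Sum.elim_comp_inr, zero_mulVec, add_zero, zero_add]
    rw [← vecMul_transpose, ← dotProduct_mulVec, mulVec_mulVec, hMM, one_mulVec]
  have hMpow : ∀ n (N N' : Matrix (Fin d) (Fin d) F),
      (Matrix.fromBlocks N 0 0 N') ^ n = Matrix.fromBlocks (N ^ n) 0 0 (N' ^ n) := by
    intro n N N'
    induction n with
    | zero => simp [fromBlocks_one]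
    | succ n ih => rw [pow_succ, ih, fromBlocks_multiply]; simp [pow_succ]
  have hr : (Matrix.fromBlocks M 0 0 M') ^ r = 1 := by
    rw [hMpow, show M ^ r = 1 by rw [← map_pow, hζ, map_one], show M' ^ r = 1 by
      rw [← transpose_pow, ← map_pow, inv_pow, hζ, inv_one, map_one, transpose_one], fromBlocks_one]
  have hinj : Function.Injective (pairLin M M') := by
    intro x y hxy
    have hdet : IsUnit (Matrix.fromBlocks M 0 0 M').det :=
      (Matrix.isUnit_iff_isUnit_det _).mp (IsUnit.of_pow_eq_one hr (Fact.out : r.Prime).ne_zero)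
    exact Matrix.mulVec_injective_iff_isUnit.mpr ((Matrix.isUnit_iff_isUnit_det _).mpr hdet) hxy
  let g : qAut (qPlus d F) := ⟨LinearEquiv.ofBijective (pairLin M M')
    ⟨hinj, LinearMap.injective_iff_surjective.mp hinj⟩, hQ⟩
  have happ : ∀ v, g.1 v = (Matrix.fromBlocks M 0 0 M') *ᵥ v := fun v => rfl
  have hpow : ∀ n v, (g ^ n).1 v = ((Matrix.fromBlocks M 0 0 M') ^ n) *ᵥ v := by
    intro n
    induction n with
    | zero => intro v; simp
    | succ n ih => intro v; rw [pow_succ', qAut_mul_apply, ih, happ, mulVec_mulVec, ← pow_succ']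
  have hfp : ∀ v, g.1 v = v → v = 0 := by
    intro v hv
    rw [happ, fromBlocks_mulVec] at hv
    have e1 : M *ᵥ (v ∘ Sum.inl) = v ∘ Sum.inl := by
      funext i; simpa [zero_mulVec] using congrFun hv (Sum.inl i)
    have e2 : M' *ᵥ (v ∘ Sum.inr) = v ∘ Sum.inr := by
      funext i; simpa [zero_mulVec] using congrFun hv (Sum.inr i)
    have h1 := hfix ζ _ hζ1 (Or.inl e1)
    have h2 := hfix ζ⁻¹ _ (inv_ne_one.mpr hζ1) (Or.inr e2)
    funext i
    rcases i with i | i
    · exact congrFun h1 i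
    · exact congrFun h2 i
  refine ⟨g, qAut_ext fun v => by rw [hpow, hr, one_mulVec]; rfl, fun hg => ?_, hfp⟩
  have hd : 0 < d := Nat.pos_of_ne_zero (NeZero.ne d)
  have := congrFun (hfp (Pi.single (Sum.inl ⟨0, hd⟩) 1) (by rw [hg]; rfl)) (Sum.inl ⟨0, hd⟩)
  simp at this

theorem witness_plus_two {d : ℕ} (hd : 3 ≤ d) (he : Even d) :
    ∃ g : qAut (qPlus d F), g ∈ commutator (qAut (qPlus d F)) ∧ g ^ 2 = 1 ∧ g ≠ 1 ∧
      ∀ v, g.1 v = v → qPlus d F v = 0 := by
  classical
  obtain ⟨c, rfl⟩ := he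
  -- pair `i` with `rev i`
  let N : (Fin (c + c) → F) →ₗ[F] (Fin (c + c) → F) := LinearMap.funLeft F F Fin.rev
  have hN : ∀ v : Fin (c + c) → F, N v ⬝ᵥ v = 0 := fun v => by
    simp only [dotProduct, N, LinearMap.funLeft_apply]
    refine Finset.sum_involution (fun i _ => Fin.rev i) ?_ ?_ (fun _ _ => Finset.mem_univ _)
      (fun i _ => Fin.rev_rev i)
    · intro i _
      rw [Fin.rev_rev, mul_comm (v i)]
      exact CharTwo.add_self_eq_zero _
    · intro i _ _ h
      rw [Fin.ext_iff, Fin.val_rev] at h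
      omega
  let T : (Fin (c + c) ⊕ Fin (c + c) → F) →ₗ[F] (Fin (c + c) ⊕ Fin (c + c) → F) :=
    LinearMap.pi (Sum.elim (fun i => LinearMap.proj (Sum.inl i) +
      (LinearMap.proj i).comp (N.comp (LinearMap.funLeft F F Sum.inr)))
      (fun i => LinearMap.proj (Sum.inr i)))
  have hTl : ∀ v i, T v (Sum.inl i) = v (Sum.inl i) + N (v ∘ Sum.inr) i := fun v i => rfl
  have hTr : ∀ v i, T v (Sum.inr i) = v (Sum.inr i) := fun v i => rfl
  have hTT : ∀ v, T (T v) = v := fun v => by
    funext j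
    rcases j with i | i
    · rw [hTl, hTl, show T v ∘ Sum.inr = v ∘ Sum.inr from funext fun j => hTr v j, add_assoc,
        CharTwo.add_self_eq_zero (N (v ∘ Sum.inr) i), add_zero]
    · rw [hTr, hTr]
  have hQ : ∀ v, qPlus (c + c) F (T v) = qPlus (c + c) F v := fun v => by
    simp only [coe_qPlus, Cfsg.quadFormPlus, hTl, hTr, add_mul, Finset.sum_add_distrib]
    rw [show ∑ i, N (v ∘ Sum.inr) i * v (Sum.inr i) = 0 from hN (v ∘ Sum.inr), add_zero]
  let g : qAut (qPlus (c + c) F) := ⟨LinearEquiv.ofInvolutive T hTT, hQ⟩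
  have happ : ∀ v, g.1 v = T v := fun v => rfl
  have hg2 : g ^ 2 = 1 := qAut_ext fun v => by rw [sq, qAut_mul_apply, happ, happ, hTT]; rfl
  have hfix : ∀ v, g.1 v = v → ∀ i, v (Sum.inr i) = 0 := fun v hv i => by
    have h := congrFun hv (Sum.inl (Fin.rev i))
    rw [happ, hTl, add_eq_left] at h
    simpa [N, LinearMap.funLeft_apply] using h
  refine ⟨g, (mem_commutator_iff_even _ (polarNondeg_qPlus _) (by simp; omega) g).mpr ?_, hg2,
    fun hg => ?_, fun v hv => ?_⟩
  · have hr : LinearMap.range (g.1.toLinearMap - LinearMap.id) =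
        LinearMap.range (LinearMap.pi (Sum.elim (fun i : Fin (c + c) => LinearMap.proj i) fun _ => 0) :
          (Fin (c + c) → F) →ₗ[F] (Fin (c + c) ⊕ Fin (c + c) → F)) := by
      ext w
      constructor
      · rintro ⟨v, rfl⟩
        refine ⟨N (v ∘ Sum.inr), funext fun j => ?_⟩
        rcases j with i | i
        · show _ = T v (Sum.inl i) - v (Sum.inl i)
          rw [hTl, add_sub_cancel_left]; rfl
        · show _ = T v (Sum.inr i) - v (Sum.inr i)
          rw [hTr, sub_self]; rfl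
      · rintro ⟨u, rfl⟩
        refine ⟨Sum.elim 0 (u ∘ Fin.rev), funext fun j => ?_⟩
        rcases j with i | i
        · show T _ (Sum.inl i) - _ = _
          rw [hTl]
          simp [N, LinearMap.funLeft_apply]
        · show T _ (Sum.inr i) - _ = _
          rw [hTr]; exact sub_self _
    unfold qRank
    rw [hr, LinearMap.finrank_range_of_inj (fun u u' h => funext fun i => congrFun h (Sum.inl i)),
      Module.finrank_pi, Fintype.card_fin]
    exact ⟨c, rfl⟩
  · have := hfix (Pi.single (Sum.inr ⟨0, by omega⟩) 1) (by rw [hg]; rfl) ⟨0, by omega⟩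
    simp at this
  · rw [coe_qPlus]
    simp only [Cfsg.quadFormPlus, hfix v hv, mul_zero, Finset.sum_const_zero]

theorem witness_minus_odd {a b : F} (hab : BinAniso a b) {M r : ℕ} [Fact r.Prime] (hr2 : r ≠ 2)
    (hdiv : r ∣ Fintype.card F ^ (M + 1) + 1) :
    ∃ g : qAut (qExt M (qBin a b)), g ^ r = 1 ∧ g ≠ 1 ∧ ∀ v, g.1 v = v → v = 0 := by
  classical
  set q := Fintype.card F
  haveI : Fact (Nat.Prime 2) := ⟨Nat.prime_two⟩
  haveI : NeZero (2 * (M + 1)) := ⟨by omega⟩
  let L := FiniteField.Extension F 2 (2 * (M + 1))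
  haveI : Fintype L := Fintype.ofFinite L
  have hq1 : 1 < q := Fintype.one_lt_card
  have hL : Fintype.card L = q ^ (2 * (M + 1)) := by
    rw [Fintype.card_eq_nat_card, FiniteField.natCard_extension, Nat.card_eq_fintype_card]
  obtain ⟨ζ, hζ1, hζ⟩ := exists_order_elt (L := L) (r := r) (hdiv.trans ⟨q ^ (M + 1) - 1, by
    rw [hL, show q ^ (2 * (M + 1)) = q ^ (M + 1) * q ^ (M + 1) by rw [← pow_add]; ring_nf, ← Nat.sq_sub_sq]
    simp [sq]⟩)
  have hζ0 : ζ ≠ 0 := by rintro rfl; rw [zero_pow (Fact.out : r.Prime).ne_zero] at hζ; exact zero_ne_one hζ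
  have hfr : Module.finrank F L = 2 * (M + 1) := FiniteField.finrank_extension F 2 _
  let σ : L ≃ₐ[F] L := FiniteField.Extension.frob F 2 (2 * (M + 1)) ^ (M + 1)
  have hσ : ∀ x, σ x = x ^ q ^ (M + 1) := fun x => by
    rw [show σ x = (FiniteField.Extension.frob F 2 (2 * (M + 1)) ^ (M + 1)) x from rfl,
      FiniteField.Extension.frob_iterate_apply, Nat.card_eq_fintype_card]
  have hσσ : ∀ x, σ (σ x) = x := fun x => by
    rw [hσ, hσ, ← pow_mul, ← pow_add, ← two_mul, ← hL, FiniteField.pow_card]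
  obtain ⟨x₀, hx₀⟩ : ∃ x : L, x + σ x ≠ 0 := by
    by_contra hc
    push Not at hc
    haveI : CharP L 2 := charP_of_injective_algebraMap (algebraMap F L).injective 2
    have hfix : ∀ x : L, x ^ q ^ (M + 1) = x := fun x => by
      have := hc x
      rw [hσ] at this
      exact (CharTwo.add_eq_zero.mp this).symm
    obtain ⟨u, hu⟩ := IsCyclic.exists_generator (α := Lˣ)
    have h1 : u ^ (q ^ (M + 1) - 1) = 1 := by
      have hu' := hfix (u : L)
      rw [← Nat.sub_add_cancel (Nat.one_le_pow (M + 1) q (by omega)), pow_succ] at hu'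
      exact Units.ext (by
        rw [Units.val_pow_eq_pow_val, Units.val_one]
        exact mul_right_cancel₀ u.ne_zero (hu'.trans (one_mul _).symm))
    have h2 := Nat.le_of_dvd (Nat.sub_pos_of_lt (Nat.one_lt_pow (by omega) hq1))
      (orderOf_dvd_of_pow_eq_one h1)
    rw [orderOf_eq_card_of_forall_mem_zpowers hu, Nat.card_eq_fintype_card, Fintype.card_units, hL] at h2
    have : q ^ (M + 1) < q ^ (2 * (M + 1)) := Nat.pow_lt_pow_right hq1 (by omega)
    have : 1 ≤ q ^ (M + 1) := Nat.one_le_pow _ _ (by omega)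
    generalize q ^ (2 * (M + 1)) = A at *
    generalize q ^ (M + 1) = B at *
    omega
  set e := x₀ + σ x₀ with he
  set c := x₀ / e with hc
  have hcc : c + σ c = 1 := by
    have hσe : σ e = e := by rw [he, map_add, hσσ, add_comm]
    rw [hc, map_div₀, hσe, ← add_div, ← he, div_self hx₀]
  let B : LinearMap.BilinMap F L F := LinearMap.mk₂ F
    (fun u v => Algebra.trace F L (c * u * σ v))
    (fun u u' v => by simp [mul_add, add_mul])
    (fun t u v => by rw [mul_smul_comm, smul_mul_assoc, map_smul])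
    (fun u v v' => by simp [map_add, mul_add])
    (fun t u v => by rw [map_smul, mul_smul_comm, map_smul])
  let Q' : QuadraticForm F L := LinearMap.BilinMap.toQuadraticMap B
  have hQ' : ∀ v, Q' v = Algebra.trace F L (c * v * σ v) := fun v => rfl
  have hpol : ∀ u v, QuadraticMap.polar Q' u v = Algebra.trace F L (u * σ v) := fun u v => by
    have e1 : Algebra.trace F L (c * v * σ u) = Algebra.trace F L (σ c * σ v * u) := by
      conv_lhs => rw [← Algebra.trace_eq_of_algEquiv σ (c * v * σ u), map_mul σ, map_mul σ, hσσ]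
    simp only [QuadraticMap.polar, hQ', map_add, mul_add, add_mul]
    rw [e1]
    rw [show u * σ v = (c + σ c) * (u * σ v) by rw [hcc, one_mul], add_mul, map_add,
      show σ c * σ v * u = σ c * (u * σ v) by ring, show c * u * σ v = c * (u * σ v) by ring]
    ring
  have hnd : PolarNondeg Q' := fun u hu => by
    refine (traceForm_nondegenerate F L).1 u fun w => ?_
    rw [Algebra.traceForm_apply, ← hσσ w, ← hpol]
    exact hu _
  have hζσ : σ ζ * ζ = 1 := by
    rw [hσ, ← pow_succ]
    obtain ⟨t, ht⟩ := hdiv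
    rw [ht, pow_mul, hζ, one_pow]
  have hmul : ∀ v, Q' (ζ * v) = Q' v := fun v => by
    rw [hQ', hQ', map_mul σ, show c * (ζ * v) * (σ ζ * σ v) = (σ ζ * ζ) * (c * v * σ v) by ring, hζσ, one_mul]
  let g : qAut Q' := ⟨LinearEquiv.ofLinearMap (LinearMap.mulLeft F ζ) (LinearMap.mulLeft F ζ⁻¹)
    (LinearMap.ext fun v => by simp [mul_inv_cancel_left₀ hζ0]) (LinearMap.ext fun v => by simp [inv_mul_cancel_left₀ hζ0]), hmul⟩
  have hgn : ∀ n v, (g ^ n).1 v = ζ ^ n * v := by
    intro n
    induction n with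
    | zero => intro v; simp
    | succ n ih =>
      intro v
      rw [pow_succ', qAut_mul_apply, ih, pow_succ', mul_assoc]
      rfl
  have hgr : g ^ r = 1 := qAut_ext fun v => by rw [hgn, hζ, one_mul]; rfl
  have hfp : ∀ v, g.1 v = v → v = 0 := fun v hv => by
    by_contra hv0
    exact hζ1 (mul_left_eq_self₀.mp (show ζ * v = v from hv) |>.resolve_right hv0)
  -- the form is of minus type
  rcases CfsgLib.POAut.similar_even M Q' hnd hfr with hplus | ⟨a', b', hab', hm⟩
  · exfalso
    obtain ⟨t, e', ht, he'⟩ := hplus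
    let φ := SylowTwo.qAutSimilar e' ht he'
    let Qp := qExt (M + 1) (0 : QuadraticForm F (Fin 0 → F))
    let X := {v // Qp v = 0 ∧ v ≠ 0}
    -- free action of `⟨g⟩`
    let π : Equiv.Perm X :=
      { toFun := fun v => ⟨(φ g).1 v.1, by rw [qAut_map]; exact v.2.1, fun h0 =>
          v.2.2 ((φ g).1.injective (h0.trans (map_zero _).symm))⟩
        invFun := fun v => ⟨(φ g).1.symm v.1, by
          rw [← qAut_map (φ g), LinearEquiv.apply_symm_apply]; exact v.2.1, fun h0 => v.2.2 (by
            have := congrArg (φ g).1 h0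
            simpa using this)⟩
        left_inv := fun v => Subtype.ext ((φ g).1.symm_apply_apply _)
        right_inv := fun v => Subtype.ext ((φ g).1.apply_symm_apply _) }
    have hπn : ∀ n (v : X), ((π ^ n) v).1 = ((φ g) ^ n).1 v.1 := by
      intro n
      induction n with
      | zero => intro v; rfl
      | succ n ih =>
        intro v
        rw [pow_succ', pow_succ', Equiv.Perm.mul_apply, qAut_mul_apply]
        show (φ g).1 ((π ^ n) v).1 = _
        rw [ih]
    have hπ : π ^ r = 1 := Equiv.ext fun v => Subtype.ext (by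
      rw [hπn, ← map_pow, hgr, map_one]; rfl)
    haveI : Fintype X := Fintype.ofFinite X
    have hsupp : π.support = Finset.univ := by
      refine Finset.eq_univ_of_forall fun v => Equiv.Perm.mem_support.mpr fun h => v.2.2 ?_
      have h' : (φ g).1 v.1 = v.1 := congrArg Subtype.val h
      have h'' : e' (g.1 (e'.symm v.1)) = v.1 := h'
      have := hfp _ (e'.injective (h''.trans (e'.apply_symm_apply v.1).symm))
      simpa using this
    have hdvd : r ∣ Fintype.card X := by
      have := Equiv.Perm.card_compl_support_modEq (p := r) (n := 1) (σ := π) (by rwa [pow_one])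
      rw [hsupp, Finset.compl_univ, Finset.card_empty] at this
      exact (Nat.modEq_zero_iff_dvd).mp this.symm
    have hX : zeros Qp = Fintype.card X + 1 := by
      rw [zeros, Fintype.card_eq_nat_card,
        ← Nat.card_congr (Equiv.sumCompl fun v : {v // Qp v = 0} => v.1 ≠ 0), Nat.card_sum,
        Nat.card_congr (Equiv.subtypeSubtypeEquivSubtypeInter (fun v => Qp v = 0) fun v => v ≠ 0)]
      congr 1
      rw [Nat.card_eq_one_iff_unique]
      exact ⟨⟨fun x y => Subtype.ext (Subtype.ext ((not_not.mp x.2).trans (not_not.mp y.2).symm))⟩,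
        ⟨⟨⟨0, map_zero _⟩, not_not.mpr rfl⟩⟩⟩
    have hz := zeros_plus (F := F) M
    rw [show zeros (qExt (M + 1) (0 : QuadraticForm F (Fin 0 → F))) = Fintype.card X + 1 from hX] at hz
    push_cast at hz
    have h1 : (r : ℤ) ∣ (Fintype.card X : ℤ) := Int.natCast_dvd_natCast.mpr hdvd
    have h2 : (r : ℤ) ∣ (q : ℤ) ^ (M + 1) + 1 := by exact_mod_cast hdiv
    have hrp : Prime (r : ℤ) := Nat.prime_iff_prime_int.mp Fact.out
    have h3 : (r : ℤ) ∣ ((q : ℤ) ^ (M + 1) - 1) * ((q : ℤ) ^ M + 1) := by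
      convert h1 using 1
      linear_combination -hz
    have hnd2 : ¬ (r : ℤ) ∣ 2 := fun h => by
      have := Nat.le_of_dvd (by norm_num) (show r ∣ 2 by exact_mod_cast h)
      have := (Fact.out : r.Prime).two_le
      omega
    rcases hrp.dvd_or_dvd h3 with h4 | h4
    · exact hnd2 (by have := dvd_sub h2 h4; simpa using this)
    · have h5 : (r : ℤ) ∣ (q : ℤ) ^ M * ((q : ℤ) - 1) := by
        have := dvd_sub h2 h4
        rwa [show (q : ℤ) ^ M * ((q : ℤ) - 1) = (q : ℤ) ^ (M + 1) + 1 - ((q : ℤ) ^ M + 1) by ring]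
      have h6 : (r : ℤ) ∣ (q : ℤ) - 1 := (hrp.dvd_or_dvd h5).resolve_left fun h => by
        have hq := hrp.dvd_of_dvd_pow h
        have : (r : ℤ) ∣ 1 := by
          have := dvd_sub h2 (dvd_pow hq (Nat.succ_ne_zero M))
          simpa using this
        exact hrp.not_dvd_one this
      have h7 : (r : ℤ) ∣ (q : ℤ) ^ (M + 1) - 1 := h6.trans (sub_one_dvd_pow_sub_one _ _)
      exact hnd2 (by have := dvd_sub h2 h7; simpa using this)
  · obtain ⟨t, e', ht, he'⟩ := hm.trans (CfsgLib.POAut.similar_qExt_qBin M hab' hab)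
    let φ := SylowTwo.qAutSimilar e' ht he'
    refine ⟨φ g, by rw [← map_pow, hgr, map_one], fun h => ?_, fun v hv => ?_⟩
    · have h1 : g = 1 := φ.injective (h.trans (map_one φ).symm)
      exact one_ne_zero (hfp 1 (by rw [h1]; rfl))
    · have h' : e' (g.1 (e'.symm v)) = v := hv
      have := hfp _ (e'.injective (h'.trans (e'.apply_symm_apply v).symm))
      simpa using this

theorem fixes_iff_plus {d r : ℕ} [Fact r.Prime] (hd : 4 ≤ d)
    (hrΩ : r ∣ Nat.card {W : Submodule F (Fin d ⊕ Fin d → F) //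
      Module.finrank F W = 1 ∧ ∃ v ∈ W, qPlus d F v ≠ 0}) :
    (∀ g : qAut (qPlus d F), g ∈ commutator _ → g ^ r = 1 → g ≠ 1 →
      ∃ v, qPlus d F v ≠ 0 ∧ g.1 v = v) ↔ (r = 2 ∧ Odd d) := by
  haveI : Fact (Nat.Prime 2) := ⟨Nat.prime_two⟩
  haveI : NeZero d := ⟨by omega⟩
  constructor
  · intro h
    rcases eq_or_ne r 2 with rfl | hr
    · refine ⟨rfl, Nat.not_even_iff_odd.mp fun he => ?_⟩
      obtain ⟨g, hg, hg2, hg1, hgv⟩ := witness_plus_two (F := F) (by omega) he
      obtain ⟨v, hv, hv'⟩ := h g hg hg2 hg1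
      exact hv (hgv v hv')
    · exfalso
      have hr' := (Fact.out : r.Prime).odd_of_ne_two hr
      obtain ⟨M, rfl⟩ : ∃ M, d = M + 1 := ⟨d - 1, by omega⟩
      have hc := count_mul (qPlus (M + 1) F)
      have hz : zeros (qPlus (M + 1) F) = zeros (qExt (M + 1) (0 : QuadraticForm F (Fin 0 → F))) := by
        symm
        unfold zeros
        exact Nat.card_congr ((plusLin (M + 1) F).toEquiv.subtypeEquiv fun v => by
          show _ ↔ qPlus (M + 1) F (plusLin (M + 1) F v) = 0
          rw [qPlus_plusLin])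
      rw [hz, zeros_plus, show Fintype.card (Fin (M + 1) ⊕ Fin (M + 1)) = 2 * (M + 1) by simp; omega] at hc
      set q := Fintype.card F with hq
      have hq1 : (q : ℤ) - 1 ≠ 0 := by
        have := Fintype.one_lt_card (α := F); omega
      have hcount : (Nat.card {W : Submodule F (Fin (M + 1) ⊕ Fin (M + 1) → F) //
          Module.finrank F W = 1 ∧ ∃ v ∈ W, qPlus (M + 1) F v ≠ 0} : ℤ) =
          (q : ℤ) ^ M * ((q : ℤ) ^ (M + 1) - 1) := by
        refine mul_right_cancel₀ hq1 (hc.trans ?_)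
        ring
      have h1 : (r : ℤ) ∣ (q : ℤ) ^ M * ((q : ℤ) ^ (M + 1) - 1) := hcount ▸ Int.natCast_dvd_natCast.mpr hrΩ
      have hrp : Prime (r : ℤ) := Nat.prime_iff_prime_int.mp Fact.out
      have hrq : ¬ (r : ℤ) ∣ (q : ℤ) ^ M := fun h => by
        have hq' := Int.natCast_dvd_natCast.mp (hrp.dvd_of_dvd_pow h)
        obtain ⟨n, hn, hcard⟩ := FiniteField.card F 2
        rw [hq, hcard] at hq'
        exact hr ((Nat.prime_dvd_prime_iff_eq Fact.out hn).mp ((Fact.out : r.Prime).dvd_of_dvd_pow hq'))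
      have h2 : (r : ℤ) ∣ (q : ℤ) ^ (M + 1) - 1 := (hrp.dvd_or_dvd h1).resolve_left hrq
      have h3 : r ∣ q ^ (M + 1) - 1 := by
        rw [← Int.natCast_dvd_natCast, Nat.cast_sub (Nat.one_le_pow _ _ Fintype.card_pos)]
        exact_mod_cast h2
      obtain ⟨g, hgr, hg1, hfp⟩ := witness_plus_odd (F := F) 2 h3
      obtain ⟨v, hv, hv'⟩ := h g (mem_commutator_of_odd_pow _ (polarNondeg_qPlus _) (by simp; omega)
        hr' hgr) hgr hg1
      exact hv (by rw [hfp v hv', map_zero])
  · rintro ⟨rfl, hd'⟩ g hg hg2 -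
    exact exists_fixed_of_involution _ (polarNondeg_qPlus _) (by simp; omega) (by omega) (Or.inl hd') hg hg2

theorem fixes_iff_minus {a b : F} (hab : BinAniso a b) {M r : ℕ} [Fact r.Prime] (hM : 3 ≤ M)
    (hrΩ : r ∣ Nat.card {W : Submodule F ((Fin M ⊕ Fin M) ⊕ Fin 2 → F) //
      Module.finrank F W = 1 ∧ ∃ v ∈ W, qExt M (qBin a b) v ≠ 0}) :
    (∀ g : qAut (qExt M (qBin a b)), g ∈ commutator _ → g ^ r = 1 → g ≠ 1 →
      ∃ v, qExt M (qBin a b) v ≠ 0 ∧ g.1 v = v) ↔ r = 2 := by
  haveI : Fact (Nat.Prime 2) := ⟨Nat.prime_two⟩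
  constructor
  · intro h
    by_contra hr
    have hr' := (Fact.out : r.Prime).odd_of_ne_two hr
    have hc := count_mul (qExt M (qBin a b))
    rw [zeros_minus hab, show Fintype.card ((Fin M ⊕ Fin M) ⊕ Fin 2) = 2 * (M + 1) by simp; omega] at hc
    set q := Fintype.card F with hq
    have hq1 : (q : ℤ) - 1 ≠ 0 := by
      have := Fintype.one_lt_card (α := F); omega
    have hcount : (Nat.card {W : Submodule F ((Fin M ⊕ Fin M) ⊕ Fin 2 → F) //
        Module.finrank F W = 1 ∧ ∃ v ∈ W, qExt M (qBin a b) v ≠ 0} : ℤ) =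
        (q : ℤ) ^ M * ((q : ℤ) ^ (M + 1) + 1) := by
      refine mul_right_cancel₀ hq1 (hc.trans ?_)
      ring
    have h1 : (r : ℤ) ∣ (q : ℤ) ^ M * ((q : ℤ) ^ (M + 1) + 1) := hcount ▸ Int.natCast_dvd_natCast.mpr hrΩ
    have hrp : Prime (r : ℤ) := Nat.prime_iff_prime_int.mp Fact.out
    have hrq : ¬ (r : ℤ) ∣ (q : ℤ) ^ M := fun h => by
      have hq' := Int.natCast_dvd_natCast.mp (hrp.dvd_of_dvd_pow h)
      obtain ⟨n, hn, hcard⟩ := FiniteField.card F 2
      rw [hq, hcard] at hq'
      exact hr ((Nat.prime_dvd_prime_iff_eq Fact.out hn).mp ((Fact.out : r.Prime).dvd_of_dvd_pow hq'))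
    have h3 : r ∣ q ^ (M + 1) + 1 := by
      have h2 := (hrp.dvd_or_dvd h1).resolve_left hrq
      exact_mod_cast h2
    obtain ⟨g, hgr, hg1, hfp⟩ := witness_minus_odd hab hr h3
    obtain ⟨v, hv, hv'⟩ := h g (mem_commutator_of_odd_pow _
      (polarNondeg_qExt (polarNondeg_qBin hab) M) (by simp; omega) hr' hgr) hgr hg1
    exact hv (by rw [hfp v hv', map_zero])
  · rintro rfl g hg hg2 -
    exact exists_fixed_of_involution _ (polarNondeg_qExt (polarNondeg_qBin hab) M) (by simp; omega) (by omega)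
      (Or.inr fun U hU hU0 => CfsgLib.POAut.qExt_no_max hab U ⟨hU, hU0⟩) hg hg2

end CfsgLib.Classical.Elusive
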