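/-
The layers of a nilpotent map attached to an isometry, and the parity of their dimensions.
-/
import Cfsg.Agent.Lib.Classical.AltBasis

set_option autoImplicit false

namespace CfsgLib.Classical.Elusive

variable {F V : Type*} [Field F] [AddCommGroup V] [Module F V]

/-- The layer `ker N ∩ N^s W`. -/
def lay (N : V →ₗ[F] V) (W : Submodule F V) (s : ℕ) : Submodule F V :=
  LinearMap.ker N ⊓ W.map (N ^ s)

/-- Its dimension. -/
noncomputable def layDim (N : V →ₗ[F] V) (W : Submodule F V) (s : ℕ) : ℕ := Module.finrank F (lay N W s)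

theorem pow_succ_apply (N : V →ₗ[F] V) (s : ℕ) (v : V) : (N ^ (s + 1)) v = N ((N ^ s) v) := by
  rw [pow_succ']; rfl

theorem pow_succ_apply' (N : V →ₗ[F] V) (s : ℕ) (v : V) : (N ^ (s + 1)) v = (N ^ s) (N v) := by
  rw [pow_succ]; rfl

theorem pow_add_apply (N : V →ₗ[F] V) (i j : ℕ) (v : V) : (N ^ (i + j)) v = (N ^ i) ((N ^ j) v) := by
  rw [pow_add]; rfl

theorem pow_mem {N : V →ₗ[F] V} {W : Submodule F V} (hW : ∀ w ∈ W, N w ∈ W) :
    ∀ (s : ℕ), ∀ w ∈ W, (N ^ s) w ∈ W
  | 0, w, hw => by simpa using hw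
  | s + 1, w, hw => by rw [pow_succ_apply]; exact hW _ (pow_mem hW s w hw)

theorem map_pow_succ_le {N : V →ₗ[F] V} {W : Submodule F V} (hW : ∀ w ∈ W, N w ∈ W) (s : ℕ) :
    W.map (N ^ (s + 1)) ≤ W.map (N ^ s) := by
  rintro _ ⟨w, hw, rfl⟩
  exact ⟨N w, hW w hw, (pow_succ_apply' N s w).symm⟩

theorem lay_succ_le {N : V →ₗ[F] V} {W : Submodule F V} (hW : ∀ w ∈ W, N w ∈ W) (s : ℕ) :
    lay N W (s + 1) ≤ lay N W s := inf_le_inf_left _ (map_pow_succ_le hW s)

variable [FiniteDimensional F V]

theorem finrank_map_add (f : V →ₗ[F] V) (R : Submodule F V) :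
    Module.finrank F (R.map f) + Module.finrank F (LinearMap.ker f ⊓ R : Submodule F V) = Module.finrank F R := by
  have h := LinearMap.finrank_range_add_finrank_ker (f.domRestrict R)
  rw [LinearMap.range_domRestrict, LinearMap.ker_domRestrict] at h
  rw [← h]
  congr 1
  rw [(Submodule.equivMapOfInjective _ R.injective_subtype _).finrank_eq, Submodule.map_comap_subtype, inf_comm]

theorem sum_lay (N : V →ₗ[F] V) (W : Submodule F V) :
    ∀ k, Module.finrank F (W.map (N ^ k)) + ∑ s ∈ Finset.range k, layDim N W s = Module.finrank F W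
  | 0 => by rw [pow_zero, Module.End.one_eq_id, Submodule.map_id]; simp
  | k + 1 => by
    have h := sum_lay N W k
    have h' := finrank_map_add N (W.map (N ^ k))
    rw [← Submodule.map_comp, show N.comp (N ^ k) = N ^ (k + 1) by rw [pow_succ']; rfl] at h'
    rw [Finset.sum_range_succ, layDim, lay]
    omega

theorem layDim_compl {N : V →ₗ[F] V} {W W' : Submodule F V} (hW : ∀ w ∈ W, N w ∈ W)
    (hW' : ∀ w ∈ W', N w ∈ W') (hc : IsCompl W W') (s : ℕ) :
    layDim N ⊤ s = layDim N W s + layDim N W' s := by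
  have hle : ∀ {R : Submodule F V}, (∀ w ∈ R, N w ∈ R) → lay N R s ≤ R := by
    rintro R hR _ ⟨-, w, hw, rfl⟩
    exact pow_mem hR s w hw
  have hsup : lay N ⊤ s = lay N W s ⊔ lay N W' s := by
    refine le_antisymm ?_ (sup_le (inf_le_inf_left _ (Submodule.map_mono le_top))
      (inf_le_inf_left _ (Submodule.map_mono le_top)))
    rintro _ ⟨hy, v, -, rfl⟩
    have hv : v ∈ W ⊔ W' := by rw [hc.sup_eq_top]; exact Submodule.mem_top
    obtain ⟨a, ha, b, hb, rfl⟩ := Submodule.mem_sup.mp hv
    have hy' : N ((N ^ s) a) + N ((N ^ s) b) = 0 := by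
      rw [← map_add, ← map_add]; exact hy
    have ha0 : N ((N ^ s) a) = 0 := Submodule.disjoint_def.mp hc.disjoint _
      (hW _ (pow_mem hW s a ha))
      (by rw [eq_neg_of_add_eq_zero_left hy']; exact neg_mem (hW' _ (pow_mem hW' s b hb)))
    rw [ha0, zero_add] at hy'
    rw [map_add]
    exact Submodule.add_mem_sup ⟨ha0, a, ha, rfl⟩ ⟨hy', b, hb, rfl⟩
  have hdis : lay N W s ⊓ lay N W' s = ⊥ :=
    le_bot_iff.mp ((inf_le_inf (hle hW) (hle hW')).trans hc.inf_eq_bot.le)
  have h := Submodule.finrank_sup_add_finrank_inf_eq (lay N W s) (lay N W' s)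
  rw [← hsup, hdis, finrank_bot, add_zero] at h
  exact h

omit [FiniteDimensional F V] in
theorem restrict_pow_apply {N : V →ₗ[F] V} {W : Submodule F V} (hW : ∀ w ∈ W, N w ∈ W) (s : ℕ) (w : W) :
    (((N.restrict hW) ^ s) w : V) = (N ^ s) (w : V) := by
  induction s with
  | zero => simp
  | succ s ih => rw [pow_succ_apply, pow_succ_apply, ← ih]; rfl

omit [FiniteDimensional F V] in
theorem layDim_restrict {N : V →ₗ[F] V} {W : Submodule F V} (hW : ∀ w ∈ W, N w ∈ W) (s : ℕ) :
    layDim (N.restrict hW) ⊤ s = layDim N W s := by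
  have e : (lay (N.restrict hW) ⊤ s).map W.subtype = lay N W s := by
    apply le_antisymm
    · rintro _ ⟨y, ⟨hy, w, -, rfl⟩, rfl⟩
      refine ⟨?_, w, w.2, (restrict_pow_apply hW s w).symm⟩
      exact congrArg Subtype.val hy
    · rintro _ ⟨hy, v, hv, rfl⟩
      refine ⟨((N.restrict hW) ^ s) ⟨v, hv⟩, ⟨Subtype.ext ?_, ⟨v, hv⟩, trivial, rfl⟩, restrict_pow_apply hW s ⟨v, hv⟩⟩
      show N ((((N.restrict hW) ^ s) ⟨v, hv⟩ : W) : V) = 0
      rw [restrict_pow_apply]
      exact hy
  rw [layDim, layDim, ← e]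
  exact (Submodule.equivMapOfInjective _ W.injective_subtype _).finrank_eq

section Isometry

variable (B : LinearMap.BilinForm F V) (hsym : ∀ u v, B u v = B v u) (hnd : B.Nondegenerate)
  (g : V ≃ₗ[F] V) (hg : ∀ u v, B (g u) (g v) = B u v)

/-- `g - 1`. -/
def dd : V →ₗ[F] V := g.toLinearMap - LinearMap.id

omit [FiniteDimensional F V] in
theorem dd_apply (v : V) : dd g v = g v - v := rfl

omit [FiniteDimensional F V] in
theorem symm_pow_comm (s : ℕ) (v : V) : g.symm ((dd g ^ s) v) = (dd g ^ s) (g.symm v) := by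
  induction s with
  | zero => simp
  | succ s ih =>
    rw [pow_succ_apply, pow_succ_apply, ← ih, dd_apply, dd_apply, map_sub, g.symm_apply_apply,
      g.apply_symm_apply]

include hg

omit [FiniteDimensional F V] in
theorem adjoint_pow : ∀ (s : ℕ) (u v : V),
    B ((dd g ^ s) u) v = (-1) ^ s * B u ((g.symm^[s]) ((dd g ^ s) v))
  | 0, u, v => by simp
  | s + 1, u, v => by
    have h1 : ∀ w, B (dd g ((dd g ^ s) u)) w = - B ((dd g ^ s) u) (g.symm (dd g w)) := fun w => by
      have h := hg ((dd g ^ s) u) (g.symm w)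
      rw [g.apply_symm_apply] at h
      rw [dd_apply g ((dd g ^ s) u), map_sub, LinearMap.sub_apply, h, dd_apply, map_sub, map_sub,
        g.symm_apply_apply, neg_sub]
    rw [pow_succ_apply, h1, adjoint_pow s, ← symm_pow_comm, pow_succ, Function.iterate_succ_apply,
      ← pow_succ_apply']
    ring

include hsym

omit [FiniteDimensional F V] in
theorem pow_orth {s : ℕ} {u : V} (hu : (dd g ^ s) u = 0) (w : V) : B u ((dd g ^ s) w) = 0 := by
  rw [hsym, adjoint_pow B g hg, hu]
  rw [show (g.symm^[s]) (0 : V) = 0 from Function.iterate_fixed (map_zero _) s, map_zero, mul_zero]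

include hnd

theorem orth_ker_pow (s : ℕ) {y : V} (h : ∀ v, (dd g ^ s) v = 0 → B y v = 0) :
    y ∈ LinearMap.range (dd g ^ s) := by
  have hle : LinearMap.range (dd g ^ s) ≤ B.orthogonal (LinearMap.ker (dd g ^ s)) := by
    rintro _ ⟨w, rfl⟩ v hv
    exact pow_orth B hsym g hg hv w
  have heq : LinearMap.range (dd g ^ s) = B.orthogonal (LinearMap.ker (dd g ^ s)) := by
    refine Submodule.eq_of_le_of_finrank_le hle ?_
    rw [LinearMap.BilinForm.finrank_orthogonal hnd]
    have := LinearMap.finrank_range_add_finrank_ker (dd g ^ s)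
    omega
  rw [heq]
  exact fun v hv => (hsym v y).trans (h v hv)

/-- Blocks of even size come in pairs. -/
theorem even_drop (h2 : (2 : F) ≠ 0) {s : ℕ} (hs : Odd s) :
    layDim (dd g) ⊤ (s + 1) ≤ layDim (dd g) ⊤ s ∧ Even (layDim (dd g) ⊤ s - layDim (dd g) ⊤ (s + 1)) := by
  classical
  set N := dd g with hN
  set Y := lay N ⊤ s
  set Z := lay N ⊤ (s + 1)
  have hZY : Z ≤ Y := lay_succ_le (fun _ _ => Submodule.mem_top) s
  refine ⟨Submodule.finrank_mono hZY, ?_⟩
  -- a linear choice of preimages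
  let f : LinearMap.ker (N ^ (s + 1)) →ₗ[F] Y :=
    ((N ^ s).domRestrict _).codRestrict Y fun v => ⟨by
      show N ((N ^ s) (v : V)) = 0
      rw [← pow_succ_apply]; exact v.2, v, trivial, rfl⟩
  have hf : ∀ v, (f v : V) = (N ^ s) (v : V) := fun v => rfl
  obtain ⟨pre, hpre⟩ := f.exists_rightInverse_of_surjective (LinearMap.range_eq_top.mpr fun y => by
    obtain ⟨hy, v, -, hv⟩ := y.2
    exact ⟨⟨v, by rw [LinearMap.mem_ker, pow_succ_apply, hv]; exact hy⟩, Subtype.ext hv⟩)
  have hpre' : ∀ y : Y, (N ^ s) (pre y : V) = y := fun y => by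
    rw [← hf]; exact congrArg Subtype.val (LinearMap.congr_fun hpre y)
  obtain ⟨C, hC⟩ := Submodule.exists_isCompl (Z.comap Y.subtype)
  let β : LinearMap.BilinForm F C :=
    (B.compl₁₂ (Y.subtype.comp C.subtype) ((Submodule.subtype _).comp (pre.comp C.subtype)))
  have hβ : ∀ c c' : C, β c c' = B ((c : Y) : V) (pre (c' : Y) : V) := fun _ _ => rfl
  have hfix : ∀ (n : ℕ) (y : V), y ∈ Y → (g.symm^[n]) y = y := fun n y hy =>
    Function.iterate_fixed (g.symm_apply_eq.mpr (sub_eq_zero.mp hy.1).symm) n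
  have halt : β.IsAlt := fun c => by
    rw [hβ]
    have h := adjoint_pow B g hg s (pre (c : Y) : V) (pre (c : Y) : V)
    rw [← hN, hpre', hfix s _ (c : Y).2, hsym (pre (c : Y) : V), hs.neg_one_pow] at h
    have h0 : (2 : F) * B ((c : Y) : V) (pre (c : Y) : V) = 0 := by linear_combination h
    exact (mul_eq_zero.mp h0).resolve_left h2
  have hnd' : ∀ c : C, (∀ c', β c c' = 0) → c = 0 := fun c hc => by
    have hmem : ((c : Y) : V) ∈ Z := by
      refine ⟨(c : Y).2.1, ?_⟩
      obtain ⟨w, hw⟩ := orth_ker_pow B hsym hnd g hg (s + 1) (y := ((c : Y) : V)) fun v hv => by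
        -- split `f v` along `Z ⊕ C`
        have hmem : f ⟨v, hv⟩ ∈ Z.comap Y.subtype ⊔ C := by rw [hC.sup_eq_top]; exact Submodule.mem_top
        obtain ⟨z, hz, c', hc', he⟩ := Submodule.mem_sup.mp hmem
        obtain ⟨-, z', -, hz'⟩ := hz
        have hker : (N ^ s) (v - (N z' + (pre (⟨c', hc'⟩ : C) : V))) = 0 := by
          rw [map_sub, map_add, hpre', ← pow_succ_apply', hz']
          have e := congrArg Subtype.val he
          rw [hf, Submodule.coe_add] at e
          rw [← e]
          exact sub_self _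
        obtain ⟨u, -, hu⟩ := (c : Y).2.2
        have h1 : B ((c : Y) : V) (v - (N z' + (pre (⟨c', hc'⟩ : C) : V))) = 0 := by
          rw [← hu, hsym]; exact pow_orth B hsym g hg hker u
        have h2' : B ((c : Y) : V) (N z') = 0 := by
          rw [show N z' = (N ^ 1) z' by rw [pow_one]]
          exact pow_orth B hsym g hg (by rw [pow_one]; exact (c : Y).2.1) z'
        rw [map_sub, map_add, h2', zero_add, sub_eq_zero] at h1
        exact h1.trans (hc ⟨c', hc'⟩)
      exact ⟨w, trivial, hw⟩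
    exact Subtype.ext (Submodule.disjoint_def.mp hC.disjoint _ hmem c.2)
  obtain ⟨m, hm, -⟩ := exists_symp_equiv β halt hnd'
  have h := Submodule.finrank_add_eq_of_isCompl hC
  rw [(Submodule.comapSubtypeEquivOfLe hZY).finrank_eq] at h
  exact ⟨m, by show Module.finrank F Y - Module.finrank F Z = m + m; omega⟩

/-- Without blocks of odd size there is an isotropic half. -/
theorem exists_half_isotropic {k : ℕ} (hk : LinearMap.range (dd g ^ k) = ⊥)
    (hC : ∀ j, layDim (dd g) ⊤ (2 * j) = layDim (dd g) ⊤ (2 * j + 1)) :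
    ∃ U : Submodule F V, (∀ u ∈ U, ∀ v ∈ U, B u v = 0) ∧ 2 * Module.finrank F U = Module.finrank F V := by
  set N := dd g with hN
  let T : ℕ → Submodule F V := fun i => LinearMap.ker (N ^ i) ⊓ LinearMap.range (N ^ i)
  let U : Submodule F V := ⨆ i, T i
  have hT : ∀ i j, ∀ a ∈ T i, ∀ b ∈ T j, B a b = 0 := by
    have key : ∀ i j, i ≤ j → ∀ a ∈ T i, ∀ b ∈ T j, B a b = 0 := by
      rintro i j hij a ⟨ha, -⟩ b ⟨-, w, rfl⟩
      refine pow_orth B hsym g hg ?_ w
      rw [← Nat.sub_add_cancel hij, pow_add_apply, LinearMap.mem_ker.mp ha, map_zero]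
    intro i j a ha b hb
    rcases le_total i j with h | h
    · exact key i j h a ha b hb
    · rw [hsym]; exact key j i h b hb a ha
  have hiso : ∀ u ∈ U, ∀ v ∈ U, B u v = 0 := by
    intro u hu v hv
    induction hu using Submodule.iSup_induction' with
    | mem i a ha =>
      induction hv using Submodule.iSup_induction' with
      | mem j b hb => exact hT i j a ha b hb
      | zero => rw [map_zero]
      | add x y _ _ hx hy => rw [map_add, hx, hy, add_zero]
    | zero => rw [map_zero, LinearMap.zero_apply]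
    | add x y _ _ hx hy => rw [map_add, LinearMap.add_apply, hx, hy, add_zero]
  refine ⟨U, hiso, ?_⟩
  have hup : 2 * Module.finrank F U ≤ Module.finrank F V := by
    have hle : U ≤ B.orthogonal U := fun v hv u hu => hiso u hu v hv
    have := Submodule.finrank_mono hle
    rw [LinearMap.BilinForm.finrank_orthogonal hnd] at this
    have := Submodule.finrank_le U
    omega
  have hlow : ∀ i, ∑ j ∈ Finset.range i, layDim N ⊤ (2 * j + 1) ≤
      Module.finrank F (U ⊓ LinearMap.ker (N ^ i) : Submodule F V) := by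
    intro i
    induction i with
    | zero => simp
    | succ i ih =>
      rw [Finset.sum_range_succ]
      have h := finrank_map_add (N ^ i) (U ⊓ LinearMap.ker (N ^ (i + 1)))
      have hker : LinearMap.ker (N ^ i) ⊓ (U ⊓ LinearMap.ker (N ^ (i + 1))) = U ⊓ LinearMap.ker (N ^ i) := by
        apply le_antisymm
        · exact le_inf (inf_le_right.trans inf_le_left) inf_le_left
        · rintro v ⟨hvU, hv⟩
          exact ⟨hv, hvU, by rw [SetLike.mem_coe, LinearMap.mem_ker, pow_succ_apply, LinearMap.mem_ker.mp hv, map_zero]⟩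
      rw [hker] at h
      have him : lay N ⊤ (2 * i + 1) ≤ (U ⊓ LinearMap.ker (N ^ (i + 1))).map (N ^ i) := by
        rintro _ ⟨hy, w, -, rfl⟩
        have hk' : (N ^ (i + 1)) ((N ^ (i + 1)) w) = 0 := by
          rw [← pow_add_apply, show i + 1 + (i + 1) = 2 * i + 1 + 1 by ring, pow_succ_apply]; exact hy
        refine ⟨(N ^ (i + 1)) w, ⟨le_iSup T (i + 1) ⟨hk', w, rfl⟩, hk'⟩, ?_⟩
        rw [← pow_add_apply, show i + (i + 1) = 2 * i + 1 by ring]
      have := Submodule.finrank_mono him
      unfold layDim at ih ⊢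
      omega
  have hz : Module.finrank F ((⊤ : Submodule F V).map (N ^ (2 * k))) = 0 := by
    rw [Submodule.map_top, show N ^ (2 * k) = N ^ k * N ^ k by rw [two_mul, pow_add]]
    rw [show LinearMap.range (N ^ k * N ^ k) = ⊥ from le_bot_iff.mp ((LinearMap.range_comp_le_range _ _).trans hk.le),
      finrank_bot]
  have htot := sum_lay N ⊤ (2 * k)
  rw [hz, zero_add, finrank_top] at htot
  have hsum : ∀ k, ∑ s ∈ Finset.range (2 * k), layDim N ⊤ s = 2 * ∑ j ∈ Finset.range k, layDim N ⊤ (2 * j + 1) := by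
    intro k
    induction k with
    | zero => simp
    | succ k ih =>
      rw [show 2 * (k + 1) = 2 * k + 1 + 1 by ring, Finset.sum_range_succ, Finset.sum_range_succ,
        Finset.sum_range_succ, ih, hC k]
      ring
  rw [hsum] at htot
  have := hlow k
  have := Submodule.finrank_mono (inf_le_left : U ⊓ LinearMap.ker (N ^ k) ≤ U)
  omega

end Isometry

end CfsgLib.Classical.Elusive
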