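/-
Self-adjoint square roots of a non-square on a quadratic space: the quadratic form over the extension field.
-/
import Cfsg.Agent.Lib.Classical.QuadSign
import Mathlib.Algebra.QuadraticAlgebra.Basic

set_option autoImplicit false

namespace CfsgLib.Classical.Elusive.OrthField

open CfsgLib.Classical CfsgLib.Classical.QuadSign QuadraticMap

universe u

variable {F : Type u} [Field F] {V : Type u} [AddCommGroup V] [Module F V]

/-- A self-adjoint square root of `ν`. -/
structure QStr (Q : QuadraticForm F V) (ν : F) where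
  /-- The map. -/
  j : Module.End F V
  sq : ∀ v, j (j v) = ν • v
  adj : ∀ u v, polar Q (j u) v = polar Q u (j v)

/-- The extension field. -/
abbrev LExt (ν : F) : Type u := QuadraticAlgebra F ν 0

variable {Q : QuadraticForm F V} {ν : F}

/-- The space over the extension field. -/
def JSp (_S : QStr Q ν) : Type u := V

variable (S : QStr Q ν)

instance instAddCommGroupJSp : AddCommGroup (JSp S) := inferInstanceAs (AddCommGroup V)

instance instModuleBaseJSp : Module F (JSp S) := inferInstanceAs (Module F V)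

/-- The identification. -/
def toV : JSp S ≃ₗ[F] V := LinearEquiv.refl F V

instance instSMulExtJSp : SMul (LExt ν) (JSp S) :=
  ⟨fun x v => (toV S).symm (x.re • toV S v + x.im • S.j (toV S v))⟩

theorem toV_smul (x : LExt ν) (v : JSp S) : toV S (x • v) = x.re • toV S v + x.im • S.j (toV S v) := rfl

instance instModuleExtJSp : Module (LExt ν) (JSp S) where
  one_smul v := (toV S).injective (by rw [toV_smul, QuadraticAlgebra.re_one, QuadraticAlgebra.im_one]; simp)
  mul_smul x y v := (toV S).injective (by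
    simp only [toV_smul, map_add, map_smul, S.sq, QuadraticAlgebra.re_mul, QuadraticAlgebra.im_mul]
    module)
  smul_zero x := (toV S).injective (by simp [toV_smul])
  smul_add x v w := (toV S).injective (by simp only [toV_smul, map_add]; module)
  add_smul x y v := (toV S).injective (by
    simp only [toV_smul, map_add, QuadraticAlgebra.re_add, QuadraticAlgebra.im_add]; module)
  zero_smul v := (toV S).injective (by simp [toV_smul])

instance instTowerJSp : IsScalarTower F (LExt ν) (JSp S) :=
  ⟨fun a x v => (toV S).injective (by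
    simp only [toV_smul, map_smul, QuadraticAlgebra.re_smul, QuadraticAlgebra.im_smul, smul_eq_mul]; module)⟩

instance instFiniteBaseJSp [FiniteDimensional F V] : FiniteDimensional F (JSp S) :=
  inferInstanceAs (FiniteDimensional F V)

instance instFiniteJSp [Finite V] : Finite (JSp S) := inferInstanceAs (Finite V)

variable [Fact (∀ r : F, r ^ 2 ≠ ν + 0 * r)]

instance instFiniteExtJSp [FiniteDimensional F V] : FiniteDimensional (LExt ν) (JSp S) :=
  Module.Finite.right F (LExt ν) (JSp S)

omit [Fact (∀ r : F, r ^ 2 ≠ ν + 0 * r)] in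
theorem fact_nonsq (h : ¬ IsSquare ν) : Fact (∀ r : F, r ^ 2 ≠ ν + 0 * r) :=
  ⟨fun r hr => h ⟨r, by rw [← pow_two, hr, zero_mul, add_zero]⟩⟩

omit [Fact (∀ r : F, r ^ 2 ≠ ν + 0 * r)] in
theorem finrank_lext : Module.finrank F (LExt ν) = 2 := by
  rw [Module.finrank_eq_card_basis (QuadraticAlgebra.basis (R := F) (a := ν) (b := 0)), Fintype.card_fin]

theorem finrank_jsp [FiniteDimensional F V] :
    2 * Module.finrank (LExt ν) (JSp S) = Module.finrank F V := by
  rw [← (toV S).finrank_eq, ← Module.finrank_mul_finrank F (LExt ν) (JSp S), finrank_lext]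

omit [Fact (∀ r : F, r ^ 2 ≠ ν + 0 * r)] in
theorem ne_zero_of_fact (h : Fact (∀ r : F, r ^ 2 ≠ ν + 0 * r)) : ν ≠ 0 := fun h0 => h.out 0 (by rw [h0]; simp)

/-- The bilinear form over the extension field. -/
noncomputable def lBil : LinearMap.BilinMap (LExt ν) (JSp S) (LExt ν) :=
  LinearMap.mk₂ (LExt ν)
    (fun u v => ⟨polar Q (toV S u) (toV S v) / 4, polar Q (S.j (toV S u)) (toV S v) / (4 * ν)⟩)
    (fun u u' v => by
      ext <;> simp only [map_add, polar_add_left, QuadraticAlgebra.re_add, QuadraticAlgebra.im_add] <;> ring)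
    (fun x u v => by
      have h0 := ne_zero_of_fact (ν := ν) inferInstance
      ext <;> simp only [toV_smul, map_add, map_smul, S.sq, polar_add_left, polar_smul_left, smul_eq_mul,
        QuadraticAlgebra.re_mul, QuadraticAlgebra.im_mul] <;> field_simp <;> ring)
    (fun u v v' => by
      ext <;> simp only [map_add, polar_add_right, QuadraticAlgebra.re_add, QuadraticAlgebra.im_add] <;> ring)
    (fun x u v => by
      have h0 := ne_zero_of_fact (ν := ν) inferInstance
      ext <;> simp only [toV_smul, map_add, map_smul, S.sq, polar_add_right, polar_smul_right, polar_smul_left, smul_eq_mul,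
        QuadraticAlgebra.re_mul, QuadraticAlgebra.im_mul, ← S.adj] <;> field_simp <;> ring)

/-- The quadratic form over the extension field. -/
noncomputable def lForm : QuadraticForm (LExt ν) (JSp S) := (lBil S).toQuadraticMap

theorem lForm_re (h2 : (2 : F) ≠ 0) (v : JSp S) : 2 * (lForm S v).re = Q (toV S v) := by
  show 2 * (polar Q (toV S v) (toV S v) / 4) = _
  rw [polar_self, nsmul_eq_mul, show (4 : F) = 2 * 2 by norm_num]
  push_cast
  field_simp

theorem lext_two (h2 : (2 : F) ≠ 0) : (2 : LExt ν) ≠ 0 := fun h => h2 (by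
  have h' := congrArg QuadraticAlgebra.re h
  rwa [show (2 : LExt ν) = algebraMap F (LExt ν) 2 from (map_ofNat _ 2).symm, QuadraticAlgebra.re_zero,
    QuadraticAlgebra.algebraMap_re] at h')

theorem lForm_nondeg (h2 : (2 : F) ≠ 0) (hQ : PolarNondeg Q) : PolarNondeg (lForm S) := fun v hv => by
  apply (toV S).injective
  rw [map_zero]
  refine hQ _ fun w => ?_
  have h := congrArg QuadraticAlgebra.re (hv ((toV S).symm w))
  rw [show polar (lForm S) v ((toV S).symm w) = lBil S v ((toV S).symm w) + lBil S ((toV S).symm w) v from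
    LinearMap.BilinMap.polar_toQuadraticMap (B := lBil S) v _] at h
  change polar Q (toV S v) w / 4 + polar Q w (toV S v) / 4 = 0 at h
  rw [polar_comm _ w, ← two_mul, show (4 : F) = 2 * 2 by norm_num, ← div_div] at h
  field_simp at h
  simpa using h

omit [Fact (∀ r : F, r ^ 2 ≠ ν + 0 * r)] in
theorem hasSign_smul [Fintype F] {W : Type u} [AddCommGroup W] [Module F W] {P : QuadraticForm F W} {k : ℕ} {ε : ℤ}
    {c : F} (hc : c ≠ 0) (h : HasSign P k ε) : HasSign (c • P) k ε := fun x => by
  classical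
  have hr : reps (c • P) x = reps P (c⁻¹ * x) := Nat.card_congr (Equiv.subtypeEquivRight fun v => by
    rw [QuadraticMap.smul_apply, smul_eq_mul, eq_inv_mul_iff_mul_eq₀ hc])
  have hd : dfun (c⁻¹ * x) = dfun x := by
    by_cases hx : x = 0
    · rw [hx, mul_zero]
    · rw [dfun, dfun, if_neg hx, if_neg (mul_ne_zero (inv_ne_zero hc) hx)]
  rw [hr, h, hd]

variable [Fintype F] [Fintype (LExt ν)]

theorem card_lext : Fintype.card (LExt ν) = Fintype.card F ^ 2 := by
  rw [Module.card_eq_pow_finrank (K := F) (V := LExt ν), finrank_lext]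

/-- Composition with the trace keeps the sign. -/
theorem hasSign_re (h2 : (2 : F) ≠ 0) {W : Type u} [AddCommGroup W] [Module (LExt ν) W]
    (P : QuadraticForm (LExt ν) W) {V' : Type u} [AddCommGroup V'] [Module F V'] (Q' : QuadraticForm F V')
    (e : V' ≃ W) (he : ∀ v, Q' v = 2 * (P (e v)).re) [Finite W] {k : ℕ} {ε : ℤ} (h : HasSign P k ε) :
    HasSign Q' (2 * k) ε := by
  classical
  intro c
  obtain ⟨q, hq⟩ : ∃ q, q = (Fintype.card F : ℤ) := ⟨_, rfl⟩
  have hq0 : q ≠ 0 := by rw [hq]; exact_mod_cast Fintype.card_ne_zero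
  let E : {v : V' // Q' v = c} ≃ Σ t : F, {w : W // P w = ⟨c / 2, t⟩} :=
    { toFun := fun v => ⟨(P (e v.1)).im, e v.1, by
        refine QuadraticAlgebra.ext ?_ rfl
        show (P (e v.1)).re = c / 2
        exact (eq_div_iff h2).2 (by rw [mul_comm, ← he]; exact v.2)⟩
      invFun := fun s => ⟨e.symm s.2.1, by rw [he, e.apply_symm_apply, s.2.2, mul_div_cancel₀ _ h2]⟩
      left_inv := fun v => Subtype.ext (e.symm_apply_apply _)
      right_inv := fun s => by
        refine Sigma.subtype_ext ?_ ?_
        · show (P (e (e.symm s.2.1))).im = s.1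
          rw [e.apply_symm_apply, s.2.2]
        · exact e.apply_symm_apply _ }
  have hd : ∑ t : F, dfun (⟨c / 2, t⟩ : LExt ν) = q * dfun c := by
    simp only [dfun, card_lext, Finset.sum_sub_distrib, Finset.sum_const, Finset.card_univ, nsmul_eq_mul, mul_one,
      Nat.cast_pow, ← hq]
    by_cases hc : c = 0
    · rw [if_pos hc, Finset.sum_eq_single (0 : F)]
      · rw [if_pos (by subst hc; ext <;> simp)]; ring
      · exact fun t _ ht => if_neg fun h => ht (congrArg QuadraticAlgebra.im h)
      · simp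
    · rw [if_neg hc, Finset.sum_eq_zero fun t _ => if_neg fun h => hc ?_]
      · ring
      · have h' := congrArg QuadraticAlgebra.re h
        change c / 2 = 0 at h'
        simpa [h2] using h'
  have hmain : q * (q * (reps Q' c : ℤ)) = q * (q ^ (2 * (2 * k)) + ε * q ^ (2 * k) * dfun c) := by
    rw [reps, Nat.card_congr E, Nat.card_sigma, Nat.cast_sum, Finset.mul_sum, Finset.mul_sum]
    have : ∀ t : F, q * (q * (Nat.card {w : W // P w = ⟨c / 2, t⟩} : ℤ)) =
        (q ^ 2) ^ (2 * k) + ε * (q ^ 2) ^ k * dfun (⟨c / 2, t⟩ : LExt ν) := fun t => by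
      have h1 := h ⟨c / 2, t⟩
      rw [card_lext, Nat.cast_pow, ← hq] at h1
      rw [← mul_assoc, ← pow_two]
      exact h1
    rw [Finset.sum_congr rfl fun t _ => this t, Finset.sum_add_distrib, ← Finset.mul_sum, hd, Finset.sum_const,
      Finset.card_univ, nsmul_eq_mul, ← hq]
    ring
  rw [← hq]
  exact mul_left_cancel₀ hq0 hmain

theorem isSquare_base (h2 : (2 : F) ≠ 0) (t : F) : IsSquare (algebraMap F (LExt ν) t) := by
  by_cases ht : t = 0
  · simp [ht]
  have hL : ringChar (LExt ν) ≠ 2 := fun h => lext_two (ν := ν) h2 (by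
    haveI : CharP (LExt ν) 2 := ringChar.of_eq h
    exact_mod_cast CharP.cast_eq_zero (LExt ν) 2)
  rw [FiniteField.isSquare_iff hL ((map_ne_zero _).2 ht), card_lext]
  have hodd : Fintype.card F % 2 = 1 := FiniteField.odd_card_of_char_ne_two fun h => h2 (by
    haveI : CharP F 2 := ringChar.of_eq h
    exact_mod_cast CharP.cast_eq_zero F 2)
  obtain ⟨m, hm⟩ : ∃ m, Fintype.card F = 2 * m + 1 := ⟨Fintype.card F / 2, by omega⟩
  rw [show Fintype.card F ^ 2 / 2 = (Fintype.card F - 1) * (m + 1) by
      rw [hm, show (2 * m + 1) ^ 2 = 2 * ((2 * m + 1 - 1) * (m + 1)) + 1 by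
        rw [Nat.add_sub_cancel]; ring]
      omega,
    pow_mul, ← map_pow, FiniteField.pow_card_sub_one_eq_one t ht, map_one, one_pow]

/-- The binary trace form of a scalar: its sign tells the square class. -/
theorem ratio_square (h2 : (2 : F) ≠ 0) {c c' : LExt ν} (hc : c ≠ 0) (hc' : c' ≠ 0) {ε : ℤ} (hε : ε = 1 ∨ ε = -1)
    (P P' : QuadraticForm F (Unit → LExt ν)) (hP : ∀ x, P x = 2 * (c * x () ^ 2).re)
    (hP' : ∀ x, P' x = 2 * (c' * x () ^ 2).re) (h : HasSign P 1 ε) (h' : HasSign P' 1 ε) : IsSquare (c' / c) := by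
  classical
  obtain ⟨w, hw⟩ : ∃ w : LExt ν, w = ⟨0, 1⟩ := ⟨_, rfl⟩
  have hw0 : w ≠ 0 := fun h0 => by
    have := congrArg QuadraticAlgebra.im h0
    rw [hw] at this
    exact one_ne_zero this
  have hne : ∀ {R : QuadraticForm F (Unit → LExt ν)} {a : LExt ν}, (∀ x, R x = 2 * (a * x () ^ 2).re) → a ≠ 0 →
      HasSign R 1 ε → (ε = 1 → ∃ t : F, t ≠ 0 ∧ IsSquare (algebraMap F (LExt ν) t * w / a)) ∧
        (ε = -1 → ¬ IsSquare (a * w)) := by
    intro R a hR ha hs
    have h0 := hs 0
    rw [dfun, if_pos rfl, pow_one] at h0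
    have hq2 : (2 : ℤ) ≤ Fintype.card F := by exact_mod_cast Fintype.one_lt_card
    refine ⟨fun he => ?_, fun he => ?_⟩
    · have hex : ∃ x, R x = 0 ∧ x ≠ 0 := by
        by_contra! hall
        have h1 : reps R 0 = 1 := Nat.card_eq_one_iff_unique.2
          ⟨⟨fun a b => Subtype.ext ((hall _ a.2).trans (hall _ b.2).symm)⟩, ⟨⟨0, map_zero R⟩⟩⟩
        rw [h1, he] at h0
        push_cast at h0
        nlinarith
      obtain ⟨x, hx, hx0⟩ := hex
      have hx' : x () ≠ 0 := fun h => hx0 (funext fun _ => h)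
      rw [hR] at hx
      have hre := (mul_eq_zero.1 hx).resolve_left h2
      have heq : algebraMap F (LExt ν) (a * x () ^ 2).im * w = a * x () ^ 2 := by
        ext <;> simp [hw, hre]
      refine ⟨(a * x () ^ 2).im, fun ht => ?_, x (), ?_⟩
      · exact mul_ne_zero ha (pow_ne_zero 2 hx') (QuadraticAlgebra.ext hre ht)
      · rw [heq, mul_div_cancel_left₀ _ ha, pow_two]
    · rintro ⟨s, hs'⟩
      have h1 : reps R 0 = 1 := by
        have : (Fintype.card F : ℤ) * (reps R 0 - 1) = 0 := by rw [mul_sub, h0, he]; ring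
        have h2' := (mul_eq_zero.1 this).resolve_left (by omega)
        omega
      haveI := (Nat.card_eq_one_iff_unique.1 h1).1
      have hzero : R (fun _ => s / a) = 0 := by
        rw [hR]
        show 2 * (a * (s / a) ^ 2).re = 0
        rw [show a * (s / a) ^ 2 = w by field_simp; linear_combination -hs', hw, mul_zero]
      have := congrFun (congrArg Subtype.val
        (Subsingleton.elim (⟨fun _ => s / a, hzero⟩ : {x // R x = 0}) ⟨0, map_zero R⟩)) ()
      change s / a = 0 at this
      rcases div_eq_zero_iff.1 this with h3 | h3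
      · rw [h3, mul_zero] at hs'
        exact mul_ne_zero ha hw0 hs'
      · exact ha h3
  obtain ⟨h1, h1'⟩ := hne hP hc h
  obtain ⟨h3, h3'⟩ := hne hP' hc' h'
  rcases hε with rfl | rfl
  · obtain ⟨t, ht, a, hta⟩ := h1 rfl
    obtain ⟨t', ht', b, htb⟩ := h3 rfl
    obtain ⟨s, hs⟩ := isSquare_base (ν := ν) h2 (t' / t)
    have ht0 : algebraMap F (LExt ν) t ≠ 0 := (map_ne_zero _).2 ht
    have ht0' : algebraMap F (LExt ν) t' ≠ 0 := (map_ne_zero _).2 ht'
    rw [map_div₀] at hs
    have ha0 : a ≠ 0 := fun h => by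
      rw [h, mul_zero, div_eq_zero_iff] at hta
      exact hta.elim (mul_ne_zero ht0 hw0) hc
    have hb0 : b ≠ 0 := fun h => by
      rw [h, mul_zero, div_eq_zero_iff] at htb
      exact htb.elim (mul_ne_zero ht0' hw0) hc'
    refine ⟨s * a / b, ?_⟩
    field_simp at hta htb hs ⊢
    grind
  · have hL : ringChar (LExt ν) ≠ 2 := fun h => lext_two (ν := ν) h2 (by
      haveI : CharP (LExt ν) 2 := ringChar.of_eq h
      exact_mod_cast CharP.cast_eq_zero (LExt ν) 2)
    have hd1 := mt (FiniteField.isSquare_iff hL (mul_ne_zero hc hw0)).2 (h1' rfl)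
    have hd2 := mt (FiniteField.isSquare_iff hL (mul_ne_zero hc' hw0)).2 (h3' rfl)
    rw [show c' / c = (c' * w) / (c * w) by field_simp, FiniteField.isSquare_iff hL
      (div_ne_zero (mul_ne_zero hc' hw0) (mul_ne_zero hc hw0)), div_pow,
      (FiniteField.pow_dichotomy hL (mul_ne_zero hc' hw0)).resolve_left hd2,
      (FiniteField.pow_dichotomy hL (mul_ne_zero hc hw0)).resolve_left hd1]
    norm_num

/-- The trace form of a form over the extension. -/
noncomputable def trForm {W : Type u} [AddCommGroup W] [Module (LExt ν) W] [Module F W] [IsScalarTower F (LExt ν) W]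
    (P : QuadraticForm (LExt ν) W) : QuadraticForm F W :=
  (QuadraticAlgebra.trace : LExt ν →ₗ[F] F).compQuadraticMap' P

theorem trForm_apply {W : Type u} [AddCommGroup W] [Module (LExt ν) W] [Module F W] [IsScalarTower F (LExt ν) W]
    (P : QuadraticForm (LExt ν) W) (w : W) : trForm P w = 2 * (P w).re := by
  show QuadraticAlgebra.trace (P w) = _
  rw [QuadraticAlgebra.trace_def, zero_mul, add_zero]

omit [Fintype (LExt ν)] in
theorem exists_same_form (h2 : (2 : F) ≠ 0) (hQ : PolarNondeg Q) [FiniteDimensional F V] [Finite V] {d : ℕ}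
    (hd : Module.finrank F V = 2 * d) (S' : QStr Q ν) :
    ∃ e : JSp S ≃ₗ[LExt ν] JSp S', ∀ v, lForm S' (e v) = lForm S v := by
  classical
  haveI : Finite (LExt ν) := Module.finite_of_finite F
  letI : Fintype (LExt ν) := Fintype.ofFinite _
  have hfd : ∀ T : QStr Q ν, Module.finrank (LExt ν) (JSp T) = d := fun T => by
    have := finrank_jsp T; omega
  have htr : ∀ (T : QStr Q ν) (v : V), Q v = 2 * (lForm T ((toV T).toEquiv.symm v)).re := fun T v => by
    rw [lForm_re T h2]; rfl
  rcases Nat.even_or_odd' d with ⟨m, rfl | rfl⟩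
  · obtain ⟨ε₁, -, hs₁⟩ := exists_hasSign m (lForm S) (lForm_nondeg S h2 hQ) (hfd S)
    obtain ⟨ε₂, -, hs₂⟩ := exists_hasSign m (lForm S') (lForm_nondeg S' h2 hQ) (hfd S')
    obtain rfl : ε₁ = ε₂ := hasSign_unique (hasSign_re h2 (lForm S) Q _ (htr S) hs₁)
      (hasSign_re h2 (lForm S') Q _ (htr S') hs₂)
    exact exists_isometry_of_hasSign m _ _ ε₁ (lForm_nondeg S h2 hQ) (lForm_nondeg S' h2 hQ) (hfd S) (hfd S') hs₁ hs₂
  · have hL2 := lext_two (ν := ν) h2
    have hpart : ∀ T : QStr Q ν, ∃ (c : LExt ν) (e : ((Fin m ⊕ Fin m) ⊕ Unit → LExt ν) ≃ₗ[LExt ν] JSp T) (ε : ℤ)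
        (P : QuadraticForm F (Unit → LExt ν)), c ≠ 0 ∧ (∀ x, lForm T (e x) = c * qExt m (qLine (LExt ν)) x) ∧
          (∀ x, P x = 2 * (c * x () ^ 2).re) ∧ (ε = 1 ∨ ε = -1) ∧ HasSign P 1 ε ∧ HasSign Q (2 * m + 1) ε := by
      intro T
      obtain ⟨c, e, hc, he⟩ := exists_similar_line hL2 m (lForm T) (lForm_nondeg T h2 hQ) (hfd T)
      let e' : V ≃ₗ[F] (Fin m ⊕ Fin m → LExt ν) × (Unit → LExt ν) :=
        ((toV T).symm.trans (e.symm.restrictScalars F)).trans (LinearEquiv.sumArrowLequivProdArrow _ _ F (LExt ν))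
      let P₁ : QuadraticForm F (Fin m ⊕ Fin m → LExt ν) := trForm (c • qPlus m (LExt ν))
      let P₂ : QuadraticForm F (Unit → LExt ν) := trForm (c • qLine (LExt ν))
      have hQe : ∀ x, Q (e'.symm x) = (P₁.prod P₂) x := fun x => by
        obtain ⟨y, rfl⟩ := (LinearEquiv.sumArrowLequivProdArrow (Fin m ⊕ Fin m) Unit F (LExt ν)).surjective x
        have hy : e'.symm (LinearEquiv.sumArrowLequivProdArrow _ _ F (LExt ν) y) = toV T (e y) := by
          simp [e']
        rw [hy, ← lForm_re T h2, he, QuadraticMap.prod_apply]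
        simp only [P₁, P₂, trForm_apply, QuadraticMap.smul_apply, smul_eq_mul]
        rw [← mul_add, ← QuadraticAlgebra.re_add, ← mul_add, qExt_apply]
        congr 4
        simp [qPlus]
      have hs1 : HasSign P₁ (2 * m) 1 :=
        hasSign_re h2 (c • qPlus m (LExt ν)) P₁ (Equiv.refl _) (trForm_apply _) (hasSign_smul hc (hasSign_qPlus m))
      have hnd : PolarNondeg P₂ := fun v hv => funext fun _ => by
        refine QuadraticAlgebra.ext ?_ ?_
        all_goals
          have hall : ∀ s : LExt ν, (c * (2 * v () * s)).re = 0 := fun s => by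
            have := hv fun _ => s
            simp only [QuadraticMap.polar, P₂, trForm_apply, QuadraticMap.smul_apply, smul_eq_mul, qLine_apply] at this
            rw [← mul_sub, ← mul_sub, ← QuadraticAlgebra.re_sub, ← QuadraticAlgebra.re_sub, ← mul_sub, ← mul_sub] at this
            refine Eq.trans ?_ ((mul_eq_zero.1 this).resolve_left h2)
            congr 2
            simp only [Pi.add_apply]
            ring
          have hz : c * (2 * v ()) = 0 := by
            refine QuadraticAlgebra.ext ?_ ?_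
            · have := hall 1
              rwa [mul_one] at this
            · have := hall ⟨0, 1⟩
              rw [← mul_assoc] at this
              simpa [ne_zero_of_fact (ν := ν) inferInstance] using this
          have h0 : v () = 0 := ((mul_eq_zero.1 ((mul_eq_zero.1 hz).resolve_left hc)).resolve_left hL2)
          simp [h0]
      obtain ⟨ε, hε, hs2⟩ := exists_hasSign 1 P₂ hnd (by
        rw [Module.finrank_pi_fintype, Fintype.sum_unique, finrank_lext])
      refine ⟨c, e, ε, P₂, hc, he, fun x => ?_, hε, hs2, ?_⟩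
      · simp only [P₂, trForm_apply, QuadraticMap.smul_apply, smul_eq_mul, qLine_apply]
        ring_nf
      · have h := hasSign_congr e'.symm hQe (hasSign_prod hs1 hs2)
        rwa [one_mul] at h
    obtain ⟨c, e, ε, P, hc, he, hP, hε, hsP, hsQ⟩ := hpart S
    obtain ⟨c', e', ε', P', hc', he', hP', hε', hsP', hsQ'⟩ := hpart S'
    obtain rfl : ε = ε' := hasSign_unique hsQ hsQ'
    obtain ⟨s, hs⟩ := ratio_square h2 hc hc' hε P P' hP hP' hsP hsP'
    have hs0 : s ≠ 0 := fun h => by
      rw [h, mul_zero, div_eq_zero_iff] at hs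
      exact hs.elim hc' hc
    refine ⟨e.symm.trans ((LinearEquiv.smulOfNeZero (LExt ν) _ s⁻¹ (inv_ne_zero hs0)).trans e'), fun v => ?_⟩
    obtain ⟨x, rfl⟩ := e.surjective v
    rw [LinearEquiv.trans_apply, LinearEquiv.symm_apply_apply, LinearEquiv.trans_apply, he', he,
      LinearEquiv.smulOfNeZero_apply, QuadraticMap.map_smul, smul_eq_mul]
    have : c' = s * s * c := (div_eq_iff hc).1 hs
    rw [this]
    field_simp

omit [Fintype (LExt ν)] in
/-- Two structures are conjugate. -/
theorem exists_conj_str (h2 : (2 : F) ≠ 0) (hQ : PolarNondeg Q) [FiniteDimensional F V] [Finite V] {d : ℕ}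
    (hd : Module.finrank F V = 2 * d) (S' : QStr Q ν) : ∃ g : qAut Q, ∀ v, g.1 (S.j v) = S'.j (g.1 v) := by
  obtain ⟨e, he⟩ := exists_same_form S h2 hQ hd S'
  refine ⟨⟨((toV S).symm.trans (e.restrictScalars F)).trans (toV S'), fun v => ?_⟩, fun v => ?_⟩
  · show Q (toV S' (e ((toV S).symm v))) = Q v
    rw [← lForm_re S' h2, he, lForm_re S h2, LinearEquiv.apply_symm_apply]
  · show toV S' (e ((toV S).symm (S.j v))) = S'.j (toV S' (e ((toV S).symm v)))
    have hω : (toV S).symm (S.j v) = (⟨0, 1⟩ : LExt ν) • (toV S).symm v := (toV S).injective (by simp [toV_smul])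
    rw [hω, map_smul, toV_smul]
    simp

omit [Fintype F] [Fintype (LExt ν)] in
/-- The isometries of the extension form commute with the structure. -/
theorem exists_card_dvd (h2 : (2 : F) ≠ 0) [Finite V] (C : Subgroup (qAut Q))
    (hC : ∀ g : qAut Q, (∀ v, g.1 (S.j v) = S.j (g.1 v)) → g ∈ C) :
    Nat.card (qAut (lForm S)) ∣ Nat.card C := by
  let φ : qAut (lForm S) → qAut Q := fun g =>
    ⟨((toV S).symm.trans (g.1.restrictScalars F)).trans (toV S), fun v => by
      show Q (toV S (g.1 ((toV S).symm v))) = Q v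
      rw [← lForm_re S h2, qAut_map g, lForm_re S h2, LinearEquiv.apply_symm_apply]⟩
  have hφ : ∀ g v, (φ g).1 v = toV S (g.1 ((toV S).symm v)) := fun g v => rfl
  have hmem : ∀ g, φ g ∈ C := fun g => hC _ fun v => by
    rw [hφ, hφ]
    have hω : (toV S).symm (S.j v) = (⟨0, 1⟩ : LExt ν) • (toV S).symm v := (toV S).injective (by simp [toV_smul])
    rw [hω, map_smul, toV_smul]
    simp
  refine Subgroup.card_dvd_of_injective (MonoidHom.mk' (fun g => (⟨φ g, hmem g⟩ : C)) fun a b => ?_) fun a b h => ?_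
  · refine Subtype.ext (qAut_ext fun v => ?_)
    show toV S ((a * b).1 ((toV S).symm v)) = (φ a).1 ((φ b).1 v)
    rw [hφ, hφ, LinearEquiv.symm_apply_apply]
    rfl
  · refine qAut_ext fun v => (toV S).injective ?_
    have h1 : (φ a).1 (toV S v) = (φ b).1 (toV S v) := by
      rw [show φ a = φ b from congrArg Subtype.val h]
    simpa [hφ] using h1

end CfsgLib.Classical.Elusive.OrthField
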