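/-
Elements of the special linear group and the similarity groups of symmetric forms: transfer lemmas.
-/
import Cfsg.Agent.Lib.KnownSimple.Forms.Models
import Cfsg.Agent.Lib.Classical.GLPrimeClassData
import Cfsg.Prelude.Def_GeometricClasses

set_option autoImplicit false

namespace CfsgLib.Classical.Elusive.SLForm

open Matrix CfsgLib.Forms

variable {F : Type*} [Field F] {ι : Type} [Fintype ι] [DecidableEq ι]

/-- `x` fixes a form in the class of `A` under the special linear group. -/
def Fixes (A : Matrix ι ι F) (x : GL ι F) : Prop :=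
  ∃ g ∈ Cfsg.Geo.specialLinear ι F, g⁻¹ * x * g ∈ simBil A

/-- An element with a fixed point preserves some non-degenerate form up to a scalar. -/
theorem preserved_of_fixes {A : Matrix ι ι F} (hA : A.det ≠ 0) {x : GL ι F} (h : Fixes A x) :
    ∃ (c : F) (B : Matrix ι ι F), c ≠ 0 ∧ B.det ≠ 0 ∧
      (x : Matrix ι ι F)ᵀ * B * (x : Matrix ι ι F) = c • B := by
  obtain ⟨g, -, hg⟩ := h
  obtain ⟨c, hc⟩ := mem_simBil.1 hg
  refine ⟨c, (g⁻¹ : GL ι F).1ᵀ * A * (g⁻¹ : GL ι F).1, c.ne_zero, ?_, ?_⟩
  · have hd : ((g⁻¹ : GL ι F).1).det ≠ 0 := (Matrix.isUnits_det_units _).ne_zero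
    rw [det_mul, det_mul, det_transpose]
    exact mul_ne_zero (mul_ne_zero hd hA) hd
  · have e : (g⁻¹ : GL ι F).1 * (x : Matrix ι ι F) = (g⁻¹ * x * g : GL ι F).1 * (g⁻¹ : GL ι F).1 := by
      rw [← Units.val_mul, ← Units.val_mul]; congr 1; group
    calc _ = ((g⁻¹ : GL ι F).1 * (x : Matrix ι ι F))ᵀ * A * ((g⁻¹ : GL ι F).1 * (x : Matrix ι ι F)) := by
          simp only [transpose_mul, Matrix.mul_assoc]
      _ = (g⁻¹ : GL ι F).1ᵀ * ((g⁻¹ * x * g : GL ι F).1ᵀ * A * (g⁻¹ * x * g : GL ι F).1) *
            (g⁻¹ : GL ι F).1 := by rw [e]; simp only [transpose_mul, Matrix.mul_assoc]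
      _ = _ := by rw [hc, Matrix.mul_smul, Matrix.smul_mul]

/-- An element similar to a similitude of a form equivalent to `A`, whose centraliser has all
determinants, has a fixed point. -/
theorem fixes_of_model {A D : Matrix ι ι F} (hAD : FormEquiv A D) {x x₀ y₀ : GL ι F}
    (hy : y₀⁻¹ * x * y₀ = x₀) (hx₀ : x₀ ∈ simBil D)
    (hdet : ∀ t : Fˣ, ∃ z : GL ι F, Commute z x₀ ∧ GeneralLinearGroup.det z = t) : Fixes A x := by
  obtain ⟨a, ha, w, w', hww, hw'w, hB⟩ := hAD
  let W : GL ι F := ⟨w, w', hww, hw'w⟩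
  have hu : W * x₀ * W⁻¹ ∈ simBil A := by
    rw [← congrGL_mem_simBil_iff hww hw'w ha hB]
    convert hx₀ using 1
    apply Units.ext
    show w' * (w * (x₀ : Matrix ι ι F) * w') * w = _
    simp only [← Matrix.mul_assoc, hw'w, Matrix.one_mul]
    rw [Matrix.mul_assoc, hw'w, Matrix.mul_one]
  obtain ⟨z, hz, hzd⟩ := hdet (GeneralLinearGroup.det y₀ * GeneralLinearGroup.det W⁻¹)⁻¹
  refine ⟨y₀ * z * W⁻¹, ?_, ?_⟩
  · show GeneralLinearGroup.det (y₀ * z * W⁻¹) = 1
    rw [map_mul, map_mul, hzd, mul_right_comm, mul_inv_cancel]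
  · have e : (y₀ * z * W⁻¹)⁻¹ * x * (y₀ * z * W⁻¹) = W * (z⁻¹ * (y₀⁻¹ * x * y₀) * z) * W⁻¹ := by
      simp [mul_assoc, _root_.mul_inv_rev]
    rw [e, hy, mul_assoc z⁻¹, ← hz.eq, inv_mul_cancel_left]
    exact hu

/-- The diagonal element. -/
def diagGL (v : ι → Fˣ) : GL ι F :=
  ⟨Matrix.diagonal fun i => (v i : F), Matrix.diagonal fun i => ((v i)⁻¹ : Fˣ),
    by rw [diagonal_mul_diagonal, ← diagonal_one]; congr 1; funext i; exact (v i).mul_inv,
    by rw [diagonal_mul_diagonal, ← diagonal_one]; congr 1; funext i; exact (v i).inv_mul⟩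

theorem diagGL_val (v : ι → Fˣ) : (diagGL v : Matrix ι ι F) = Matrix.diagonal fun i => (v i : F) := rfl

theorem det_diagGL (v : ι → Fˣ) : GeneralLinearGroup.det (diagGL v) = ∏ i, v i := by
  apply Units.ext
  show (diagGL v : Matrix ι ι F).det = _
  rw [diagGL_val, det_diagonal, Units.coe_prod]

/-- The centraliser of a diagonal element has all determinants. -/
theorem diag_centralizer_det [Nonempty ι] (v : ι → Fˣ) (t : Fˣ) :
    ∃ z : GL ι F, Commute z (diagGL v) ∧ GeneralLinearGroup.det z = t := by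
  obtain ⟨i₀⟩ := ‹Nonempty ι›
  refine ⟨diagGL (Function.update 1 i₀ t), Units.ext ?_, ?_⟩
  · rw [Units.val_mul, Units.val_mul, diagGL_val, diagGL_val, diagonal_mul_diagonal, diagonal_mul_diagonal]
    simp only [mul_comm]
  · rw [det_diagGL, Finset.prod_update_of_mem (Finset.mem_univ _)]
    simp

/-- A diagonal similitude: eigenvalue multiplicities are symmetric. -/
theorem diag_mult_le {v : ι → F} {c : F} {B : Matrix ι ι F} (hB : B.det ≠ 0) (hv : ∀ i, v i ≠ 0)
    (h : (Matrix.diagonal v)ᵀ * B * Matrix.diagonal v = c • B) (a : F) [DecidableEq F] :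
    (Finset.univ.filter fun i => v i = a).card ≤ (Finset.univ.filter fun i => v i = c / a).card := by
  classical
  have hentry : ∀ i j, B i j ≠ 0 → v i * v j = c := fun i j hij => by
    have h' := congrFun (congrFun h i) j
    rw [diagonal_transpose, mul_diagonal, diagonal_mul, Matrix.smul_apply, smul_eq_mul] at h'
    exact mul_left_cancel₀ hij (by linear_combination h')
  let ext : ({i // v i = a} → F) →ₗ[F] (ι → F) :=
    { toFun := fun u i => if h : v i = a then u ⟨i, h⟩ else 0
      map_add' := fun u w => funext fun i => by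
        by_cases h : v i = a
        · simp [h]
        · simp [h]
      map_smul' := fun r u => funext fun i => by
        by_cases h : v i = a
        · simp [h]
        · simp [h] }
  let T : ({i // v i = a} → F) →ₗ[F] ({j // v j = c / a} → F) :=
    (LinearMap.funLeft F F (Subtype.val : {j // v j = c / a} → ι)).comp ((Matrix.toLin' Bᵀ).comp ext)
  have hT : Function.Injective T := by
    rw [injective_iff_map_eq_zero]
    intro u hu
    have hfull : Bᵀ *ᵥ (ext u) = 0 := funext fun j => by
      by_cases hj : v j = c / a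
      · exact congrFun hu ⟨j, hj⟩
      · refine Finset.sum_eq_zero fun i _ => ?_
        show Bᵀ j i * _ = 0
        by_cases hi : v i = a
        · rw [transpose_apply]
          by_contra hne
          have := hentry i j (left_ne_zero_of_mul hne)
          rw [hi] at this
          exact hj (by rw [← this, mul_div_assoc, mul_div_cancel₀ _ (by rw [← hi]; exact hv i)])
        · simp [ext, hi]
    have h0 := Matrix.eq_zero_of_mulVec_eq_zero (by rwa [det_transpose]) hfull
    funext i
    simpa [ext, i.2] using congrFun h0 i.1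
  have := LinearMap.finrank_le_finrank_of_injective hT
  rw [Module.finrank_fintype_fun_eq_card, Module.finrank_fintype_fun_eq_card, Fintype.card_subtype,
    Fintype.card_subtype] at this
  exact this

/-- Eigenvalue multiplicities of a diagonal similitude. -/
theorem diag_mult_eq {v : ι → F} {c : F} {B : Matrix ι ι F} (hB : B.det ≠ 0) (hc : c ≠ 0) (hv : ∀ i, v i ≠ 0)
    (h : (Matrix.diagonal v)ᵀ * B * Matrix.diagonal v = c • B) [DecidableEq F] {a : F} (ha : a ≠ 0) :
    (Finset.univ.filter fun i => v i = a).card = (Finset.univ.filter fun i => v i = c / a).card := by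
  refine le_antisymm (diag_mult_le hB hv h a) ?_
  have := diag_mult_le hB hv h (c / a)
  rwa [div_div_cancel₀ hc] at this

/-- A diagonal element with symmetric eigenvalues fixes a permutation form. -/
theorem diagGL_mem_perm (v : ι → Fˣ) (c : Fˣ) (σ : Equiv.Perm ι) (h : ∀ i, v i * v (σ i) = c) :
    diagGL v ∈ simBil (Matrix.of fun i j => if σ i = j then (1 : F) else 0) := by
  refine mem_simBil.2 ⟨c, ?_⟩
  ext i j
  rw [diagGL_val, diagonal_transpose, mul_diagonal, diagonal_mul, Matrix.smul_apply, Matrix.of_apply]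
  by_cases hij : σ i = j
  · subst hij
    simp [← h i]
  · simp [hij]

theorem perm_form_symm (σ : Equiv.Perm ι) (hσ : ∀ i, σ (σ i) = i) :
    (Matrix.of fun i j => if σ i = j then (1 : F) else 0)ᵀ = Matrix.of fun i j => if σ i = j then (1 : F) else 0 := by
  ext i j
  simp only [transpose_apply, Matrix.of_apply]
  have : σ j = i ↔ σ i = j := ⟨fun h => by rw [← h, hσ], fun h => by rw [← h, hσ]⟩
  simp [this]

theorem perm_form_det (σ : Equiv.Perm ι) :
    (Matrix.of fun i j => if σ i = j then (1 : F) else 0).det ≠ 0 := by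
  intro h
  obtain ⟨w, hw0, hw⟩ := Matrix.exists_mulVec_eq_zero_iff.2 h
  refine hw0 (funext fun j => ?_)
  obtain ⟨i, rfl⟩ := σ.surjective j
  simpa [mulVec, dotProduct] using congrFun hw i

/-- Diagonalisation of elements killed by `X^r - 1`. -/
theorem exists_diag {n r : ℕ} [NeZero r] {ω : Fˣ} (hω : IsPrimitiveRoot ω r) (x : GL (Fin n) F)
    (hx : x ^ r = 1) : ∃ (y : GL (Fin n) F) (a : Fin n → Fin r),
      y⁻¹ * x * y = diagGL fun i => ω ^ (a i : ℕ) := by
  classical
  open Polynomial in
  let P : Fin r → F[X] := fun j => X - C ((ω : F) ^ (j : ℕ))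
  have hωF : IsPrimitiveRoot (ω : F) r := IsPrimitiveRoot.coe_units_iff.2 hω
  have hinj : Function.Injective fun j : Fin r => (ω : F) ^ (j : ℕ) := fun a b h =>
    Fin.ext (hωF.pow_inj a.2 b.2 h)
  have hco : Pairwise (Function.onFun IsCoprime P) := Polynomial.pairwise_coprime_X_sub_C hinj
  have hprod : ∏ j, P j = Polynomial.X ^ r - 1 := by
    rw [Polynomial.X_pow_sub_one_eq_prod (NeZero.pos r) hωF,
      ← Finset.prod_image (f := fun μ => Polynomial.X - Polynomial.C μ) (g := fun j : Fin r => (ω : F) ^ (j : ℕ))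
        (s := Finset.univ) fun a _ b _ h => hinj h]
    refine Finset.prod_congr ?_ fun _ _ => rfl
    ext μ
    simp only [Finset.mem_image, Finset.mem_univ, true_and]
    rw [Polynomial.mem_nthRootsFinset (NeZero.pos r)]
    constructor
    · rintro ⟨j, rfl⟩; rw [← pow_mul, mul_comm, pow_mul, hωF.pow_eq_one, one_pow]
    · intro hμ
      obtain ⟨k, hk, rfl⟩ := hωF.eq_pow_of_pow_eq_one hμ
      exact ⟨⟨k, hk⟩, rfl⟩
  set f : Module.End F (Fin n → F) := Matrix.toLinAlgEquiv' (x : Matrix (Fin n) (Fin n) F) with hf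
  have hfr : Polynomial.aeval f (∏ j, P j) = 0 := by
    rw [hprod, map_sub, map_pow, Polynomial.aeval_X, map_one, hf, ← map_pow, ← Units.val_pow_eq_pow_val, hx,
      Units.val_one, map_one, sub_self]
  obtain ⟨e, he⟩ := CfsgLib.Classical.Primary.exists_decomp f P hco hfr
  let b₀ := (Pi.basis fun j : Fin r => Module.finBasis F (LinearMap.ker (Polynomial.aeval f (P j)))).map e.symm
  let E := Fintype.equivOfCardEq (show Fintype.card ((j : Fin r) × Fin (Module.finrank F (LinearMap.ker (Polynomial.aeval f (P j))))) = Fintype.card (Fin n) by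
    rw [← Module.finrank_eq_card_basis b₀, Module.finrank_pi, Fintype.card_fin])
  let b := b₀.reindex E
  let a : Fin n → Fin r := fun i => (E.symm i).1
  have heig : ∀ i, f (b i) = (ω : F) ^ (a i : ℕ) • b i := fun i => by
    apply e.injective
    rw [map_smul]
    funext j
    apply Subtype.ext
    rw [he]
    have hb : e (b i) = Pi.basis (fun j : Fin r => Module.finBasis F (LinearMap.ker (Polynomial.aeval f (P j)))) (E.symm i) := by
      simp [b, b₀, Module.Basis.map_apply]
    rw [hb, Pi.smul_apply, Pi.basis_apply, Submodule.coe_smul]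
    by_cases hj : j = a i
    · subst hj
      rw [Pi.single_eq_same]
      have hk := LinearMap.mem_ker.1 (Module.finBasis F (LinearMap.ker (Polynomial.aeval f (P (a i)))) (E.symm i).2).2
      simp only [P, map_sub, Polynomial.aeval_X, Polynomial.aeval_C, LinearMap.sub_apply,
        Module.algebraMap_end_apply, sub_eq_zero] at hk
      exact hk
    · rw [Pi.single_eq_of_ne hj]
      simp
  let Y : Matrix (Fin n) (Fin n) F := Matrix.of fun k i => b i k
  have hY : Y.det ≠ 0 := by
    have : Y = (Pi.basisFun F (Fin n)).toMatrix b := by ext k i; simp [Y, Module.Basis.toMatrix_apply]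
    rw [this]
    exact ((Pi.basisFun F (Fin n)).isUnit_det b).ne_zero
  refine ⟨GeneralLinearGroup.mkOfDetNeZero Y hY, a, ?_⟩
  rw [mul_assoc, inv_mul_eq_iff_eq_mul]
  apply Units.ext
  show (x : Matrix (Fin n) (Fin n) F) * Y = Y * Matrix.diagonal fun i => ((ω ^ (a i : ℕ) : Fˣ) : F)
  ext k i
  rw [mul_diagonal]
  have h := congrFun (heig i) k
  rw [hf, Matrix.toLinAlgEquiv'_apply, Pi.smul_apply, smul_eq_mul] at h
  show ((x : Matrix (Fin n) (Fin n) F) *ᵥ b i) k = _
  rw [h, Units.val_pow_eq_pow_val, mul_comm]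
  rfl

end CfsgLib.Classical.Elusive.SLForm
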