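/-
Elements of prime order of the special linear group preserving no non-degenerate symmetric form up to a scalar.
-/
import Cfsg.Agent.Lib.Classical.Elusive.SLFormBasic
import Mathlib.FieldTheory.Finite.Basic

set_option autoImplicit false

namespace CfsgLib.Classical.Elusive.SLForm

open Matrix CfsgLib.Forms

variable {F : Type*} [Field F]

/-- No symmetric form is preserved up to a scalar. -/
def NoForm {n : ℕ} (x : GL (Fin n) F) : Prop :=
  ∀ (c : F) (B : Matrix (Fin n) (Fin n) F), c ≠ 0 → Bᵀ = B → B.det ≠ 0 →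
    (x : Matrix (Fin n) (Fin n) F)ᵀ * B * (x : Matrix (Fin n) (Fin n) F) ≠ c • B

/-- An element without fixed points: the test element of a negative answer. -/
def Bad {n : ℕ} (r : ℕ) (A : Matrix (Fin n) (Fin n) F) (x : GL (Fin n) F) : Prop :=
  x ∈ Cfsg.Geo.specialLinear (Fin n) F ∧ (∃ z : F, ((x ^ r : GL (Fin n) F) : Matrix (Fin n) (Fin n) F) = z • 1) ∧
    (∀ z : F, (x : Matrix (Fin n) (Fin n) F) ≠ z • 1) ∧ ¬ Fixes A x

theorem not_fixes_of_noForm {n : ℕ} {A : Matrix (Fin n) (Fin n) F} (hAs : Aᵀ = A) (hA : A.det ≠ 0)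
    {x : GL (Fin n) F} (h : NoForm x) : ¬ Fixes A x := by
  rintro ⟨g, -, hg⟩
  obtain ⟨c, hc⟩ := mem_simBil.1 hg
  have hd : ((g⁻¹ : GL (Fin n) F).1).det ≠ 0 := (Matrix.isUnits_det_units _).ne_zero
  refine h c ((g⁻¹ : GL (Fin n) F).1ᵀ * A * (g⁻¹ : GL (Fin n) F).1) c.ne_zero ?_ ?_ ?_
  · simp only [transpose_mul, transpose_transpose, hAs, Matrix.mul_assoc]
  · rw [det_mul, det_mul, det_transpose]
    exact mul_ne_zero (mul_ne_zero hd hA) hd
  · have e : (g⁻¹ : GL (Fin n) F).1 * (x : Matrix (Fin n) (Fin n) F) =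
        (g⁻¹ * x * g : GL (Fin n) F).1 * (g⁻¹ : GL (Fin n) F).1 := by
      rw [← Units.val_mul, ← Units.val_mul]; congr 1; group
    calc _ = ((g⁻¹ : GL (Fin n) F).1 * (x : Matrix (Fin n) (Fin n) F))ᵀ * A *
          ((g⁻¹ : GL (Fin n) F).1 * (x : Matrix (Fin n) (Fin n) F)) := by
          simp only [transpose_mul, Matrix.mul_assoc]
      _ = (g⁻¹ : GL (Fin n) F).1ᵀ * ((g⁻¹ * x * g : GL (Fin n) F).1ᵀ * A * (g⁻¹ * x * g : GL (Fin n) F).1) *
            (g⁻¹ : GL (Fin n) F).1 := by rw [e]; simp only [transpose_mul, Matrix.mul_assoc]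
      _ = _ := by rw [hc, Matrix.mul_smul, Matrix.smul_mul]

/-- A transvection preserves no symmetric form. -/
theorem bad_char {n : ℕ} (hn : 2 ≤ n) {p : ℕ} [Fact p.Prime] [CharP F p] (h2 : (2 : F) ≠ 0)
    {A : Matrix (Fin n) (Fin n) F} (hAs : Aᵀ = A) (hA : A.det ≠ 0) : ∃ x, Bad p A x := by
  classical
  let i : Fin n := ⟨0, by omega⟩
  let j : Fin n := ⟨1, by omega⟩
  have hij : i ≠ j := by simp [i, j, Fin.ext_iff]
  let M : Matrix (Fin n) (Fin n) F := Matrix.transvection i j 1
  have hdet : M.det = 1 := Matrix.det_transvection_of_ne i j hij 1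
  let x : GL (Fin n) F := GeneralLinearGroup.mkOfDetNeZero M (by rw [hdet]; exact one_ne_zero)
  have hpow : ∀ k : ℕ, (x : Matrix (Fin n) (Fin n) F) ^ k = Matrix.transvection i j (k : F) := by
    intro k
    induction k with
    | zero => simp [Matrix.transvection]
    | succ k ih =>
      rw [pow_succ, ih, show (x : Matrix (Fin n) (Fin n) F) = Matrix.transvection i j 1 from rfl,
        Matrix.transvection_mul_transvection_same i j hij]
      push_cast
      rfl
  have hxp : ((x ^ p : GL (Fin n) F) : Matrix (Fin n) (Fin n) F) = 1 := by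
    rw [Units.val_pow_eq_pow_val, hpow, CharP.cast_eq_zero, Matrix.transvection_zero]
  refine ⟨x, ?_, ⟨1, by rw [hxp, one_smul]⟩, fun z hz => ?_, not_fixes_of_noForm hAs hA fun c B hc hBs hB h => ?_⟩
  · show GeneralLinearGroup.det x = 1
    exact Units.ext hdet
  · have := congrFun (congrFun hz i) j
    simp [x, M, Matrix.transvection, hij] at this
  · have hk : ∀ k : ℕ, ((x : Matrix (Fin n) (Fin n) F) ^ k)ᵀ * B * (x : Matrix (Fin n) (Fin n) F) ^ k = c ^ k • B := by
      intro k
      induction k with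
      | zero => simp
      | succ k ih =>
        rw [pow_succ (x : Matrix (Fin n) (Fin n) F), transpose_mul,
          show (x : Matrix (Fin n) (Fin n) F)ᵀ * ((x : Matrix (Fin n) (Fin n) F) ^ k)ᵀ * B *
            ((x : Matrix (Fin n) (Fin n) F) ^ k * (x : Matrix (Fin n) (Fin n) F)) =
            (x : Matrix (Fin n) (Fin n) F)ᵀ * (((x : Matrix (Fin n) (Fin n) F) ^ k)ᵀ * B *
              (x : Matrix (Fin n) (Fin n) F) ^ k) * (x : Matrix (Fin n) (Fin n) F) by simp only [Matrix.mul_assoc],
          ih, Matrix.mul_smul, Matrix.smul_mul, h, smul_smul, ← pow_succ]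
    have hcp : c ^ p = 1 := by
      have h1 := hk p
      rw [← Units.val_pow_eq_pow_val, hxp, transpose_one, Matrix.one_mul, Matrix.mul_one] at h1
      haveI : Nonempty (Fin n) := ⟨i⟩
      have hB0 : B ≠ 0 := fun h0 => hB (by simp [h0])
      exact (smul_left_injective F hB0 (h1.symm.trans (one_smul F B).symm) : _)
    have hc1 : c = 1 := by
      have : (c - 1) ^ p = 0 := by rw [sub_pow_char, hcp, one_pow, sub_self]
      exact sub_eq_zero.1 (pow_eq_zero_iff (Fact.out : p.Prime).ne_zero |>.1 this)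
    rw [hc1, one_smul] at h
    have hx : (x : Matrix (Fin n) (Fin n) F) = Matrix.transvection i j 1 := rfl
    rw [hx, Matrix.transvection, transpose_add, transpose_one, transpose_single, add_mul, Matrix.one_mul,
      Matrix.mul_add, Matrix.mul_one] at h
    have hout : ∀ a, a ≠ j → B a i = 0 := fun a ha => by
      have h' := congrFun (congrFun h a) j
      simp [Matrix.add_apply, Matrix.add_mul, Matrix.single_mul_apply_of_ne _ _ _ _ _ ha, Matrix.single_apply, ha.symm] at h'
      exact h'
    have hcol : ∀ a, B a i = 0 := by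
      intro a
      rcases eq_or_ne a j with ha | ha
      · have h' := congrFun (congrFun h a) j
        rw [ha] at h' ⊢
        have hsym : B i j = B j i := congrFun (congrFun hBs j) i
        simp [Matrix.add_apply, Matrix.add_mul, hout i hij, hsym] at h'
        have h'' : (2 : F) * B j i = 0 := by linear_combination h'
        exact (mul_eq_zero.1 h'').resolve_left h2
      · exact hout a ha
    exact hB (det_eq_zero_of_column_eq_zero i hcol)

variable [DecidableEq F] {n : ℕ}

/-- A diagonal test element: no invertible matrix is preserved up to a scalar. -/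
def DiagWitness (r : ℕ) (v : Fin n → Fˣ) : Prop :=
  ∏ i, v i = 1 ∧ (∃ z : F, ∀ i, ((v i : F)) ^ r = z) ∧ (∃ i₁ i₂, v i₁ ≠ v i₂) ∧
    ∀ (c : F) (B : Matrix (Fin n) (Fin n) F), c ≠ 0 → B.det ≠ 0 →
      (Matrix.diagonal fun i => (v i : F))ᵀ * B * (Matrix.diagonal fun i => (v i : F)) ≠ c • B

omit [DecidableEq F] in
theorem DiagWitness.basic {r : ℕ} {v : Fin n → Fˣ} (h : DiagWitness r v) :
    diagGL v ∈ Cfsg.Geo.specialLinear (Fin n) F ∧
      (∃ z : F, ((diagGL v ^ r : GL (Fin n) F) : Matrix (Fin n) (Fin n) F) = z • 1) ∧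
      (∀ w : F, (diagGL v : Matrix (Fin n) (Fin n) F) ≠ w • 1) := by
  obtain ⟨hdet, ⟨z, hpow⟩, ⟨i₁, i₂, hne⟩, -⟩ := h
  refine ⟨?_, ⟨z, ?_⟩, fun w hw => ?_⟩
  · show GeneralLinearGroup.det (diagGL v) = 1
    rw [det_diagGL, hdet]
  · rw [Units.val_pow_eq_pow_val, diagGL_val, diagonal_pow, Matrix.smul_one_eq_diagonal]
    congr 1
    funext i
    exact hpow i
  · rw [diagGL_val, Matrix.smul_one_eq_diagonal] at hw
    have := diagonal_injective hw
    exact hne (Units.ext ((congrFun this i₁).trans (congrFun this i₂).symm))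

omit [DecidableEq F] in
theorem DiagWitness.bad {r : ℕ} {v : Fin n → Fˣ} (h : DiagWitness r v) {A : Matrix (Fin n) (Fin n) F}
    (hAs : Aᵀ = A) (hA : A.det ≠ 0) : Bad r A (diagGL v) := by
  obtain ⟨h1, h2, h3⟩ := h.basic
  exact ⟨h1, h2, h3, not_fixes_of_noForm hAs hA fun c B hc _ hB hx => h.2.2.2 c B hc hB hx⟩

theorem diagWitness_of_mult (r : ℕ) (v : Fin n → Fˣ) (hdet : ∏ i, v i = 1) (z : F)
    (hpow : ∀ i, ((v i : F)) ^ r = z) {i₁ i₂ : Fin n} (hne : v i₁ ≠ v i₂)
    (h : ∀ c : F, c ≠ 0 → (∀ a : F, a ≠ 0 → (Finset.univ.filter fun i => (v i : F) = a).card =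
      (Finset.univ.filter fun i => (v i : F) = c / a).card) → False) : DiagWitness r v :=
  ⟨hdet, ⟨z, hpow⟩, ⟨i₁, i₂, hne⟩, fun _ _ hc hB hx =>
    h _ hc fun _ ha => diag_mult_eq hB hc (fun i => (v i).ne_zero) hx ha⟩

theorem card_two_valued (k : ℕ) (hk : k ≤ n) {a b : F} (hab : a ≠ b) (v : Fin n → F)
    (hv : ∀ i : Fin n, v i = if (i : ℕ) < k then a else b) (x : F) :
    (Finset.univ.filter fun i => v i = x).card = if x = a then k else if x = b then n - k else 0 := by
  have hlt : (Finset.univ.filter fun i : Fin n => (i : ℕ) < k).card = k := by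
    rw [Fin.card_filter_val_lt, min_eq_right hk]
  by_cases hxa : x = a
  · subst hxa
    rw [if_pos rfl]
    refine (congrArg Finset.card (Finset.filter_congr fun i _ => ?_)).trans hlt
    rw [hv]; by_cases h : (i : ℕ) < k <;> simp [h, hab.symm]
  rw [if_neg hxa]
  by_cases hxb : x = b
  · subst hxb
    rw [if_pos rfl]
    have := Finset.card_filter_add_card_filter_not (s := (Finset.univ : Finset (Fin n))) (fun i : Fin n => (i : ℕ) < k)
    rw [hlt, Finset.card_univ, Fintype.card_fin] at this
    have e : (Finset.univ.filter fun i => v i = x) = Finset.univ.filter fun i : Fin n => ¬ (i : ℕ) < k :=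
      Finset.filter_congr fun i _ => by rw [hv]; by_cases h : (i : ℕ) < k <;> simp [h, hab]
    rw [e]; omega
  rw [if_neg hxb, Finset.card_eq_zero, Finset.filter_eq_empty_iff]
  intro i _
  rw [hv]; by_cases h : (i : ℕ) < k <;> simp [h, Ne.symm hxa, Ne.symm hxb]

/-- Two eigenvalues of different multiplicities. -/
theorem exists_two_valued (r : ℕ) [Fact r.Prime] (hr2 : r ≠ 2) (k : ℕ) (hk0 : 0 < k) (hkn : k < n) (hne : k ≠ n - k) {a b : Fˣ} (hab : a ≠ b)
    (hr : a ^ r = b ^ r) (hdet : a ^ k * b ^ (n - k) = 1) :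
    ∃ v : Fin n → Fˣ, DiagWitness r v ∧ ∀ i, v i = a ∨ v i = b := by
  classical
  let v : Fin n → Fˣ := fun i => if (i : ℕ) < k then a else b
  have hprod : ∏ i, v i = 1 := by
    have hlt : (Finset.univ.filter fun i : Fin n => (i : ℕ) < k).card = k := by
      rw [Fin.card_filter_val_lt, min_eq_right hkn.le]
    have hge : (Finset.univ.filter fun i : Fin n => ¬ (i : ℕ) < k).card = n - k := by
      have := Finset.card_filter_add_card_filter_not (s := (Finset.univ : Finset (Fin n))) (fun i : Fin n => (i : ℕ) < k)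
      rw [hlt, Finset.card_univ, Fintype.card_fin] at this
      omega
    rw [Finset.prod_ite, Finset.prod_const, Finset.prod_const, hlt, hge, hdet]
  refine ⟨v, diagWitness_of_mult r v hprod ((a : F) ^ r) (fun i => ?_) (i₁ := ⟨0, by omega⟩) (i₂ := ⟨k, hkn⟩) ?_ ?_, fun i => by
    by_cases h : (i : ℕ) < k <;> simp [v, h]⟩
  · by_cases h : (i : ℕ) < k
    · simp [v, h]
    · simp only [v, h, if_false]
      simpa using (congrArg Units.val hr).symm
  · simp [v, hk0, hab]
  · intro c hc hm
    have habF : (a : F) ≠ b := fun h => hab (Units.ext h)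
    have hv : ∀ i : Fin n, (v i : F) = if (i : ℕ) < k then (a : F) else b := fun i => by
      by_cases h : (i : ℕ) < k <;> simp [v, h]
    have ha := hm a a.ne_zero
    have hb := hm b b.ne_zero
    rw [card_two_valued k hkn.le habF _ hv, card_two_valued k hkn.le habF _ hv, if_pos rfl] at ha
    rw [card_two_valued k hkn.le habF _ hv, card_two_valued k hkn.le habF _ hv, if_neg habF.symm, if_pos rfl] at hb
    have h1 : c / (a : F) = a := by
      by_contra h; rw [if_neg h] at ha; split_ifs at ha <;> omega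
    have h2 : c / (b : F) = b := by
      by_contra h
      by_cases h' : c / (b : F) = a
      · rw [if_pos h'] at hb; omega
      · rw [if_neg h', if_neg h] at hb; omega
    rw [div_eq_iff a.ne_zero] at h1
    rw [div_eq_iff b.ne_zero] at h2
    rcases mul_self_eq_mul_self_iff.1 (h1.symm.trans h2) with h | h
    · exact habF h
    · have := congrArg Units.val hr
      rw [Units.val_pow_eq_pow_val, Units.val_pow_eq_pow_val, h, neg_pow,
        ((Fact.out : r.Prime).odd_of_ne_two hr2).neg_one_pow, neg_one_mul] at this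
      have h0 : (b : F) ^ r + (b : F) ^ r = 0 := by linear_combination -this
      rw [← two_mul] at h0
      rcases mul_eq_zero.1 h0 with h2' | h2'
      · exact habF (h.trans (by linear_combination -(b : F) * h2'))
      · exact pow_ne_zero _ b.ne_zero h2'

/-- Three eigenvalues `ω, ω, ω⁻²` and ones. -/
theorem exists_three_valued (r : ℕ) [Fact r.Prime] (hr5 : 5 ≤ r) (hn : 3 ≤ n) (hgap : ¬ (n = 5 ∧ r = 5)) {ω : Fˣ} (hω : orderOf ω = r) :
    ∃ v : Fin n → Fˣ, DiagWitness r v ∧ ∀ i, v i ∈ Subgroup.zpowers ω := by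
  classical
  have hne : ∀ k : ℕ, 0 < k → k < 7 → (k = 5 → r ≠ 5) → (ω : F) ^ k ≠ 1 := by
    intro k hk0 hk7 hk5 h
    have hd : r ∣ k := hω ▸ orderOf_dvd_of_pow_eq_one (Units.ext (by simpa using h))
    have hle := Nat.le_of_dvd hk0 hd
    interval_cases k
    · omega
    · omega
    · omega
    · omega
    · exact hk5 rfl (by omega)
    · have hr : r = 5 ∨ r = 6 := by omega
      rcases hr with rfl | rfl
      · omega
      · exact absurd (Fact.out : Nat.Prime 6) (by norm_num)
  let w : Fˣ := (ω ^ 2)⁻¹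
  let v : Fin n → Fˣ := fun i => if (i : ℕ) < 2 then ω else if (i : ℕ) = 2 then w else 1
  have hω1 : (ω : F) ≠ 1 := by simpa using hne 1 (by norm_num) (by norm_num) (by omega)
  have hwω : (w : F) ≠ ω := fun h => hne 3 (by norm_num) (by norm_num) (by omega) (by
    have e : (w : F) * (ω : F) ^ 2 = 1 := by simp [w, ω.ne_zero]
    rw [h] at e
    linear_combination e)
  have hw1 : (w : F) ≠ 1 := fun h => hne 2 (by norm_num) (by norm_num) (by omega) (by
    rw [show (w : F) = ((ω : F) ^ 2)⁻¹ by simp [w], inv_eq_one] at h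
    exact h)
  have hr0 : ω ^ r = 1 := hω ▸ pow_orderOf_eq_one ω
  have hS : (Finset.univ : Finset (Fin n)) = Finset.univ.filter (fun i : Fin n => (i : ℕ) < 2) ∪
      (Finset.univ.filter (fun i : Fin n => (i : ℕ) = 2) ∪ Finset.univ.filter (fun i : Fin n => 2 < (i : ℕ))) := by
    ext i; simp; omega
  have hc2 : (Finset.univ.filter fun i : Fin n => (i : ℕ) < 2).card = 2 := by
    rw [Fin.card_filter_val_lt, min_eq_right (by omega)]
  have hc1 : (Finset.univ.filter fun i : Fin n => (i : ℕ) = 2).card = 1 := by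
    rw [Finset.card_eq_one]; exact ⟨⟨2, by omega⟩, by ext i; simp [Fin.ext_iff]⟩
  have hd1 : Disjoint (Finset.univ.filter fun i : Fin n => (i : ℕ) = 2)
      (Finset.univ.filter fun i : Fin n => 2 < (i : ℕ)) := Finset.disjoint_filter.2 fun i _ h => by omega
  have hd2 : Disjoint (Finset.univ.filter fun i : Fin n => (i : ℕ) < 2)
      (Finset.univ.filter (fun i : Fin n => (i : ℕ) = 2) ∪ Finset.univ.filter fun i : Fin n => 2 < (i : ℕ)) := by
    rw [Finset.disjoint_union_right]
    exact ⟨Finset.disjoint_filter.2 fun i _ h => by omega, Finset.disjoint_filter.2 fun i _ h => by omega⟩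
  have hc3 : (Finset.univ.filter fun i : Fin n => 2 < (i : ℕ)).card = n - 3 := by
    have := congrArg Finset.card hS
    rw [Finset.card_union_of_disjoint hd2, Finset.card_union_of_disjoint hd1, hc2, hc1, Finset.card_univ,
      Fintype.card_fin] at this
    omega
  have hv2 : ∀ i : Fin n, (i : ℕ) < 2 → v i = ω := fun i h => if_pos h
  have hv1 : ∀ i : Fin n, (i : ℕ) = 2 → v i = w := fun i h => by simp [v, h]
  have hv3 : ∀ i : Fin n, 2 < (i : ℕ) → v i = 1 := fun i h => by
    simp only [v]; rw [if_neg (by omega), if_neg (by omega)]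
  refine ⟨v, diagWitness_of_mult r v ?_ 1 (fun i => ?_) (i₁ := ⟨0, by omega⟩) (i₂ := ⟨2, by omega⟩) ?_ ?_, fun i => by
    rcases Nat.lt_trichotomy (i : ℕ) 2 with h | h | h
    · rw [hv2 i h]; exact Subgroup.mem_zpowers ω
    · rw [hv1 i h]; exact Subgroup.inv_mem _ (Subgroup.pow_mem _ (Subgroup.mem_zpowers ω) 2)
    · rw [hv3 i h]; exact Subgroup.one_mem _⟩
  · rw [hS, Finset.prod_union hd2, Finset.prod_union hd1,
      Finset.prod_eq_pow_card (fun i hi => hv2 i (Finset.mem_filter.1 hi).2),
      Finset.prod_eq_pow_card (fun i hi => hv1 i (Finset.mem_filter.1 hi).2),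
      Finset.prod_eq_one (fun i hi => hv3 i (Finset.mem_filter.1 hi).2), hc2, hc1]
    simp [w]
  · rw [← Units.val_pow_eq_pow_val, ← Units.val_one]
    congr 1
    rcases Nat.lt_trichotomy (i : ℕ) 2 with h | h | h
    · rw [hv2 i h, hr0]
    · rw [hv1 i h, inv_pow, ← pow_mul, mul_comm, pow_mul, hr0, one_pow, inv_one]
    · rw [hv3 i h, one_pow]
  · rw [hv2 _ (by simp), hv1 _ rfl]
    exact fun h => hwω (by rw [h])
  · intro c hc hm
    have hcard : ∀ x : F, (Finset.univ.filter fun i => (v i : F) = x).card =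
        (if x = ω then 2 else 0) + ((if x = w then 1 else 0) + (if x = 1 then n - 3 else 0)) := by
      intro x
      rw [hS, Finset.filter_union, Finset.filter_union,
        Finset.card_union_of_disjoint (Finset.disjoint_filter_filter hd2 |> fun h => by
          rwa [Finset.filter_union] at h),
        Finset.card_union_of_disjoint (Finset.disjoint_filter_filter hd1)]
      have key : ∀ (S : Finset (Fin n)) (u : F) (m : ℕ), (∀ i ∈ S, (v i : F) = u) → S.card = m →
          (S.filter fun i => (v i : F) = x).card = if x = u then m else 0 := by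
        intro S u m hu hm'
        split_ifs with h
        · rw [Finset.filter_true_of_mem fun i hi => (hu i hi).trans h.symm, hm']
        · rw [Finset.filter_false_of_mem fun i hi e => h (e.symm.trans (hu i hi)), Finset.card_empty]
      rw [key _ (ω : F) 2 (fun i hi => by rw [hv2 i (Finset.mem_filter.1 hi).2]) hc2,
        key _ (w : F) 1 (fun i hi => by rw [hv1 i (Finset.mem_filter.1 hi).2]) hc1,
        key _ (1 : F) (n - 3) (fun i hi => by rw [hv3 i (Finset.mem_filter.1 hi).2, Units.val_one]) hc3]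
    have hwv : (w : F) * (ω : F) ^ 2 = 1 := by simp [w, ω.ne_zero]
    have hA' := hm ω ω.ne_zero
    have hB' := hm w w.ne_zero
    rw [hcard, hcard, if_pos rfl, if_neg hwω.symm, if_neg hω1] at hA'
    rw [hcard, hcard, if_neg hwω, if_pos rfl, if_neg hw1] at hB'
    by_cases h5 : n = 5
    · have hr5' : r ≠ 5 := fun h => hgap ⟨h5, h⟩
      have hB1 : c / (w : F) = w := by
        by_contra h
        rw [if_neg h] at hB'
        split_ifs at hB' <;> omega
      rw [div_eq_iff w.ne_zero] at hB1
      have hA1 : c / (ω : F) = ω ∨ c / (ω : F) = 1 := by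
        by_contra h
        push Not at h
        rw [if_neg h.1, if_neg h.2] at hA'
        split_ifs at hA' <;> omega
      rcases hA1 with h | h <;> rw [div_eq_iff ω.ne_zero] at h
      · exact hne 6 (by norm_num) (by norm_num) (by omega) (by
          linear_combination (ω : F) ^ 4 * (h.symm.trans hB1) + ((w : F) * (ω : F) ^ 2 + 1) * hwv)
      · exact hne 5 (by norm_num) (by norm_num) (fun _ => hr5') (by
          linear_combination (ω : F) ^ 4 * (h.symm.trans hB1) + ((w : F) * (ω : F) ^ 2 + 1) * hwv)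
    · have hA1 : c / (ω : F) = ω := by
        by_contra h
        rw [if_neg h] at hA'
        by_cases ha : c / (ω : F) = w
        · rw [if_pos ha, if_neg (ha.trans_ne hw1)] at hA'; omega
        · rw [if_neg ha] at hA'; split_ifs at hA' <;> omega
      rw [div_eq_iff ω.ne_zero] at hA1
      have e : c / (w : F) = (ω : F) ^ 4 := by
        rw [div_eq_iff w.ne_zero]; linear_combination hA1 - (ω : F) ^ 2 * hwv
      rw [e, if_neg (fun h => hne 3 (by norm_num) (by norm_num) (by omega)
          (mul_left_cancel₀ ω.ne_zero (by linear_combination h))),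
        if_neg (fun h => hne 6 (by norm_num) (by norm_num) (by omega) (by linear_combination (ω : F) ^ 2 * h + hwv)),
        if_neg (hne 4 (by norm_num) (by norm_num) (by omega))] at hB'
      omega

end CfsgLib.Classical.Elusive.SLForm
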