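/-
Semisimple elements of order `r` not dividing `q - 1` without preserved symmetric form.
-/
import Cfsg.Agent.Lib.Classical.Elusive.SLFormWitness
import Cfsg.Agent.Lib.Classical.QuadSign
import Cfsg.Agent.Lib.Classical.SylowTwo.Main

set_option autoImplicit false

namespace CfsgLib.Classical.Elusive.SLForm

open Matrix CfsgLib.Forms Polynomial CfsgLib.Classical.QuadSign

variable {F : Type*} [Field F] [Fintype F] {p : ℕ} [Fact p.Prime] [CharP F p] {n r : ℕ} [Fact r.Prime]

/-- The linear map of an element. -/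
noncomputable abbrev linOf (x : GL (Fin n) F) : Module.End F (Fin n → F) :=
  Matrix.toLinAlgEquiv' (x : Matrix (Fin n) (Fin n) F)

theorem cast_card_ne_zero (hrp : r ≠ p) : ((Fintype.card F : ℕ) : ZMod r) ≠ 0 := by
  obtain ⟨f, hp, hf⟩ := FiniteField.card F p
  rw [hf, Nat.cast_pow]
  exact pow_ne_zero _ fun h => hrp ((Nat.prime_dvd_prime_iff_eq Fact.out hp).1 ((ZMod.natCast_eq_zero_iff _ _).1 h))

theorem not_dvd_card_q (hrp : r ≠ p) : ¬ r ∣ Fintype.card F := fun h =>
  cast_card_ne_zero (F := F) hrp ((ZMod.natCast_eq_zero_iff _ _).2 h)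

theorem dvd_pow_sub_one_iff (j : ℕ) :
    r ∣ Fintype.card F ^ j - 1 ↔ orderOf ((Fintype.card F : ℕ) : ZMod r) ∣ j := by
  rw [orderOf_dvd_iff_pow_eq_one, ← ZMod.natCast_eq_zero_iff, Nat.cast_sub (Nat.one_le_pow _ _ Fintype.card_pos),
    Nat.cast_pow, Nat.cast_one, sub_eq_zero]

/-- An element of `SL` of order dividing `r` with one non-trivial primary part of multiplicity `k`. -/
theorem exists_elt (hrp : r ≠ p) (hr1 : ¬ r ∣ Fintype.card F - 1) (k : ℕ)
    (hk : k * orderOf ((Fintype.card F : ℕ) : ZMod r) ≤ n) :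
    ∃ (P : F[X]) (x : GL (Fin n) F), Irreducible P ∧ P.natDegree = orderOf ((Fintype.card F : ℕ) : ZMod r) ∧
      P ∣ X ^ r - 1 ∧ P.eval 1 ≠ 0 ∧ x ^ r = 1 ∧ x ∈ Cfsg.Geo.specialLinear (Fin n) F ∧
      aeval (linOf x) (P * (X - C (1 : F))) = 0 ∧
      Module.finrank F (LinearMap.ker (aeval (linOf x) P)) =
        k * orderOf ((Fintype.card F : ℕ) : ZMod r) ∧
      Module.finrank F (LinearMap.ker (aeval (linOf x) (X - C (1 : F)))) =
        n - k * orderOf ((Fintype.card F : ℕ) : ZMod r) := by
  classical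
  set i := orderOf ((Fintype.card F : ℕ) : ZMod r) with hi
  have hdvd : i ∣ r - 1 := ZMod.orderOf_dvd_card_sub_one (cast_card_ne_zero hrp)
  obtain ⟨t, ht⟩ := hdvd
  obtain ⟨hi0, P, hP0, hirr, hdeg, hco, hprod⟩ :=
    GLPrimeData.exists_factors (F := F) rfl r i t Fact.out hrp hi (by rw [ht, mul_comm])
  have ht0 : 0 < t := Nat.pos_of_ne_zero fun h => by
    rw [h, mul_zero] at ht
    have := (Fact.out : r.Prime).two_le
    omega
  let j₀ : Fin t := ⟨0, ht0⟩
  haveI : ∀ j, Fact (Irreducible (P j)) := fun j => ⟨hirr j⟩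
  let a : Option (Fin t) → ℕ := fun o => Option.elim o (n - k * i) fun j => if j = j₀ then k else 0
  have hsum : ∑ j, a j * (P j).natDegree = Module.finrank F (Fin n → F) := by
    rw [Fintype.sum_option, hP0, natDegree_X_sub_C, Module.finrank_pi, Fintype.card_fin]
    simp only [a, Option.elim, hdeg, ite_mul, zero_mul, Finset.sum_ite_eq', Finset.mem_univ, if_true]
    omega
  obtain ⟨f, hf, hker⟩ := CfsgLib.Classical.Primary.exists_of_mult (V := Fin n → F) P hco a hsum
  have hfr : f ^ r = 1 := by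
    rw [hprod, map_sub, map_pow, aeval_X, map_one, sub_eq_zero] at hf
    exact hf
  have hM : (Matrix.toLinAlgEquiv'.symm f) ^ r = (1 : Matrix (Fin n) (Fin n) F) := by
    rw [← map_pow, hfr, map_one]
  let x : GL (Fin n) F := Units.ofPowEqOne _ r hM (Fact.out : r.Prime).ne_zero
  have hx : linOf x = f := AlgEquiv.apply_symm_apply _ f
  have hxr : x ^ r = 1 := Units.pow_ofPowEqOne hM _
  refine ⟨P (some j₀), x, hirr _, hdeg _, hprod ▸ Finset.dvd_prod_of_mem P (Finset.mem_univ _), ?_, hxr, ?_, ?_, ?_, ?_⟩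
  · intro h
    have h1 : (X - C (1 : F)) ∣ P (some j₀) := dvd_iff_isRoot.2 h
    have := (hco (by simp : (none : Option (Fin t)) ≠ some j₀)).isUnit_of_dvd' (hP0 ▸ dvd_refl _) h1
    exact not_isUnit_X_sub_C _ this
  · show GeneralLinearGroup.det x = 1
    have h1 : GeneralLinearGroup.det x ^ r = 1 := by rw [← map_pow, hxr, map_one]
    refine orderOf_eq_one_iff.1 (Nat.dvd_one.1 ?_)
    have hcop : Nat.Coprime r (Fintype.card F - 1) := (Nat.Prime.coprime_iff_not_dvd Fact.out).2 hr1
    rw [← hcop.gcd_eq_one]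
    exact Nat.dvd_gcd (orderOf_dvd_of_pow_eq_one h1) (by rw [← Fintype.card_units]; exact orderOf_dvd_card)
  · rw [hx]
    obtain ⟨d, hd⟩ := Primary.exists_decomp f P hco hf
    refine LinearMap.ext fun v => d.injective ?_
    have hcomm : ∀ (Q : F[X]) w j, ((d (aeval f Q w) j : LinearMap.ker (aeval f (P j))) : Fin n → F) = aeval f Q (d w j : Fin n → F) := by
      intro Q
      induction Q using Polynomial.induction_on with
      | C c => intro w j; simp [Module.algebraMap_end_apply]
      | add Q Q' hQ hQ' => intro w j; simp [hQ, hQ']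
      | monomial m c ih =>
        intro w j
        rw [show C c * X ^ (m + 1) = C c * X ^ m * X by ring, map_mul (aeval f) _ X, aeval_X, Module.End.mul_apply,
          Module.End.mul_apply, ih, hd]
    rw [LinearMap.zero_apply, map_zero]
    funext j
    apply Subtype.ext
    rw [hcomm, Pi.zero_apply, Submodule.coe_zero]
    rcases j with _ | j
    · rw [map_mul, Module.End.mul_apply]
      rw [← hP0, LinearMap.mem_ker.1 (d v none).2, map_zero]
    · by_cases hj : j = j₀
      · subst hj
        rw [mul_comm, map_mul, Module.End.mul_apply, LinearMap.mem_ker.1 (d v (some j₀)).2, map_zero]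
      · have h0 : Module.finrank F (LinearMap.ker (aeval f (P (some j)))) = 0 := by
          rw [hker]; simp [a, hj]
        haveI := Module.finrank_zero_iff.1 h0
        rw [Subsingleton.elim (d v (some j)) 0, Submodule.coe_zero, map_zero]
  · rw [hx, hker, hdeg]; simp [a]
  · rw [hx, ← hP0, hker, hP0, natDegree_X_sub_C]; simp [a]

/-- A block of odd degree: the inverse has different eigenvalues. -/
theorem bad_odd (hrp : r ≠ p) (hr2 : r ≠ 2) (hr1 : ¬ r ∣ Fintype.card F - 1)
    (hodd : Odd (orderOf ((Fintype.card F : ℕ) : ZMod r)))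
    (hin : orderOf ((Fintype.card F : ℕ) : ZMod r) ≤ n) {A : Matrix (Fin n) (Fin n) F} (hAs : Aᵀ = A)
    (hA : A.det ≠ 0) : ∃ x, Bad r A x := by
  classical
  obtain ⟨P, x, hirr, hdeg, hdvd, hP1, hxr, hxdet, hann, hker, -⟩ := exists_elt (n := n) hrp hr1 1 (by simpa using hin)
  set i := orderOf ((Fintype.card F : ℕ) : ZMod r) with hi
  set f := linOf x with hf
  haveI : Fact (Irreducible P) := ⟨hirr⟩
  have hP0 : P ≠ 0 := hirr.ne_zero
  -- the roots of `P`
  set L := AdjoinRoot P
  set α : L := AdjoinRoot.root P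
  have hα : aeval α P = 0 := by rw [AdjoinRoot.aeval_eq, AdjoinRoot.mk_self]
  have hαr : α ^ r = 1 := by
    have := aeval_eq_zero_of_dvd_aeval_eq_zero hdvd hα
    rw [map_sub, map_pow, aeval_X, map_one, sub_eq_zero] at this
    exact this
  have hα1 : α ≠ 1 := fun h => hP1 (by
    have h' := hα
    rw [h, show (1 : L) = algebraMap F L 1 from (map_one _).symm, aeval_algebraMap_apply, map_eq_zero] at h'
    simpa using h')
  have hαo : orderOf α = r := orderOf_eq_prime hαr hα1
  have hfin : IsOfFinOrder α := isOfFinOrder_iff_pow_eq_one.2 ⟨r, (Fact.out : r.Prime).pos, hαr⟩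
  haveI : CharP L p := charP_of_injective_algebraMap (algebraMap F L).injective p
  have hroot : ∀ j : ℕ, aeval (α ^ (Fintype.card F ^ j)) P = 0 := by
    intro j
    induction j with
    | zero => simpa using hα
    | succ j ih =>
      have h := congrArg (FiniteField.frobeniusAlgHom F L) ih
      rw [← aeval_algHom_apply, map_zero, FiniteField.coe_frobeniusAlgHom] at h
      rw [pow_succ, pow_mul]
      exact h
  have hinj : Function.Injective fun j : Fin i => α ^ (Fintype.card F ^ (j : ℕ)) := by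
    intro a b h
    rw [hfin.pow_eq_pow_iff_modEq, hαo, ← ZMod.natCast_eq_natCast_iff,
      Nat.cast_pow, Nat.cast_pow] at h
    exact Fin.ext (pow_injOn_Iio_orderOf a.2 b.2 h)
  have hall : ∀ β : L, aeval β P = 0 → ∃ j : Fin i, α ^ (Fintype.card F ^ (j : ℕ)) = β := by
    intro β hβ
    by_contra hc
    push Not at hc
    have hsub : insert β (Finset.univ.image fun j : Fin i => α ^ (Fintype.card F ^ (j : ℕ))) ⊆ (P.aroots L).toFinset := by
      intro z hz
      rw [Multiset.mem_toFinset, mem_aroots]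
      refine ⟨hP0, ?_⟩
      rcases Finset.mem_insert.1 hz with rfl | hz
      · exact hβ
      · obtain ⟨j, -, rfl⟩ := Finset.mem_image.1 hz; exact hroot j
    have h1 := (Finset.card_le_card hsub).trans ((Multiset.toFinset_card_le _).trans (Polynomial.card_roots' _))
    rw [Finset.card_insert_of_notMem (fun h => by obtain ⟨j, -, hj⟩ := Finset.mem_image.1 h; exact hc j hj),
      Finset.card_image_of_injective _ hinj, Finset.card_univ, Fintype.card_fin, natDegree_map, hdeg] at h1
    omega
  -- `P` and the polynomial of the inverse are coprime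
  set R : F[X] := P.comp (X ^ (r - 1)) with hR
  have hcop : IsCoprime (P * (X - C (1 : F))) R := by
    refine IsCoprime.mul_left ?_ ?_
    · refine hirr.coprime_iff_not_dvd.2 fun h => ?_
      have := aeval_eq_zero_of_dvd_aeval_eq_zero h hα
      rw [hR, aeval_comp, map_pow, aeval_X] at this
      obtain ⟨j, hj⟩ := hall _ this
      rw [hfin.pow_eq_pow_iff_modEq, hαo, ← ZMod.natCast_eq_natCast_iff,
        Nat.cast_pow, Nat.cast_sub (Fact.out : r.Prime).one_le, ZMod.natCast_self, zero_sub, Nat.cast_one] at hj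
      have h2 : ((Fintype.card F : ℕ) : ZMod r) ^ (2 * (j : ℕ)) = 1 := by rw [mul_comm, pow_mul, hj]; ring
      have h3 : i ∣ 2 * (j : ℕ) := orderOf_dvd_of_pow_eq_one h2
      have h4 : i ∣ (j : ℕ) := (Nat.coprime_two_right.2 hodd).dvd_of_dvd_mul_left h3
      have h5 : (j : ℕ) = 0 := Nat.eq_zero_of_dvd_of_lt h4 j.2
      rw [h5, pow_zero] at hj
      haveI : Fact (2 < r) := ⟨lt_of_le_of_ne (Fact.out : r.Prime).two_le (Ne.symm hr2)⟩
      exact ZMod.neg_one_ne_one hj.symm
    · refine (irreducible_X_sub_C (1 : F)).coprime_iff_not_dvd.2 fun h => hP1 ?_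
      have := dvd_iff_isRoot.1 h
      rw [IsRoot, hR, eval_comp, eval_pow, eval_X, one_pow] at this
      exact this
  refine ⟨x, hxdet, ⟨1, by rw [hxr, Units.val_one, one_smul]⟩, fun z hz => ?_,
    not_fixes_of_noForm hAs hA fun c B hc hBs hB h => ?_⟩
  · have hz' : z • (1 : Matrix (Fin n) (Fin n) F) = (x : Matrix (Fin n) (Fin n) F) := hz.symm
    obtain ⟨v, hv, hv0⟩ : ∃ v ∈ LinearMap.ker (aeval f P), v ≠ 0 := by
      apply (Submodule.ne_bot_iff _).1
      intro hb
      rw [hb, finrank_bot, one_mul] at hker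
      exact (Nat.pos_of_ne_zero fun h => by rw [h] at hodd; exact Nat.not_odd_zero hodd).ne' hker.symm
    have hfz : f = algebraMap F (Module.End F (Fin n → F)) z := by
      rw [hf]
      show Matrix.toLinAlgEquiv' _ = _
      rw [← hz', map_smul, map_one, Algebra.algebraMap_eq_smul_one]
    rw [LinearMap.mem_ker, hfz, aeval_algebraMap_apply, Module.algebraMap_end_apply, smul_eq_zero] at hv
    have hPz : P.eval z = 0 := by simpa [coe_aeval_eq_eval] using hv.resolve_right hv0
    have hd1' := natDegree_eq_of_degree_eq_some (degree_eq_one_of_irreducible_of_root hirr (x := z) hPz)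
    rw [hdeg] at hd1'
    exact hr1 (by
      have := (dvd_pow_sub_one_iff (F := F) (r := r) 1).2 (dvd_of_eq hd1')
      rwa [pow_one] at this)
  · have hxinv : (x : Matrix (Fin n) (Fin n) F) ^ (r - 1) * (x : Matrix (Fin n) (Fin n) F) = 1 := by
      rw [← pow_succ, Nat.sub_add_cancel (Fact.out : r.Prime).one_le, ← Units.val_pow_eq_pow_val, hxr, Units.val_one]
    have hc1 : c = 1 := by
      have hk : ∀ k : ℕ, ((x : Matrix (Fin n) (Fin n) F) ^ k)ᵀ * B * (x : Matrix (Fin n) (Fin n) F) ^ k = c ^ k • B := by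
        intro k
        induction k with
        | zero => simp
        | succ k ih =>
          rw [pow_succ (x : Matrix (Fin n) (Fin n) F), transpose_mul,
            show (x : Matrix (Fin n) (Fin n) F)ᵀ * ((x : Matrix (Fin n) (Fin n) F) ^ k)ᵀ * B *
              ((x : Matrix (Fin n) (Fin n) F) ^ k * (x : Matrix (Fin n) (Fin n) F)) =
              (x : Matrix (Fin n) (Fin n) F)ᵀ * (((x : Matrix (Fin n) (Fin n) F) ^ k)ᵀ * B *
                (x : Matrix (Fin n) (Fin n) F) ^ k) * (x : Matrix (Fin n) (Fin n) F) by simp only [Matrix.mul_assoc],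
            ih, Matrix.mul_smul, Matrix.smul_mul, h, smul_smul, ← pow_succ]
      have h1 := hk r
      rw [← Units.val_pow_eq_pow_val, hxr, Units.val_one, transpose_one, Matrix.one_mul, Matrix.mul_one] at h1
      haveI : Nonempty (Fin n) := ⟨⟨0, by have := Nat.pos_of_ne_zero (fun h => by rw [h] at hodd; exact Nat.not_odd_zero hodd : i ≠ 0); omega⟩⟩
      have hB0 : B ≠ 0 := fun h0 => hB (by simp [h0])
      have hcr : c ^ r = 1 := smul_left_injective F hB0 (h1.symm.trans (one_smul F B).symm)
      refine orderOf_eq_one_iff.1 (Nat.dvd_one.1 ?_)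
      have hcop : Nat.Coprime r (Fintype.card F - 1) := (Nat.Prime.coprime_iff_not_dvd Fact.out).2 hr1
      rw [← hcop.gcd_eq_one]
      refine Nat.dvd_gcd (orderOf_dvd_of_pow_eq_one hcr) ?_
      exact orderOf_dvd_of_pow_eq_one (FiniteField.pow_card_sub_one_eq_one c hc)
    rw [hc1, one_smul] at h
    set M := (x : Matrix (Fin n) (Fin n) F) with hMdef
    -- `B` conjugates `x` to the transposed inverse
    have hsim : B * M = (M ^ (r - 1))ᵀ * B := by
      calc B * M = (M * M ^ (r - 1))ᵀ * (B * M) := by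
            rw [← pow_succ', Nat.sub_add_cancel (Fact.out : r.Prime).one_le, ← Units.val_pow_eq_pow_val, hxr,
              Units.val_one, transpose_one, Matrix.one_mul]
        _ = (M ^ (r - 1))ᵀ * (Mᵀ * B * M) := by rw [transpose_mul]; simp only [Matrix.mul_assoc]
        _ = _ := by rw [h]
    have hpoly : ∀ Q : F[X], B * aeval M Q = (aeval (M ^ (r - 1)) Q)ᵀ * B := by
      intro Q
      induction Q using Polynomial.induction_on with
      | C c => simp [Algebra.algebraMap_eq_smul_one]
      | add Q Q' hQ hQ' => simp [Matrix.mul_add, Matrix.add_mul, hQ, hQ', transpose_add]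
      | monomial m a ih =>
        rw [show C a * X ^ (m + 1) = C a * X ^ m * X by ring, map_mul (aeval M) _ X,
          mul_comm (C a * X ^ m) X, map_mul (aeval (M ^ (r - 1))) X, aeval_X, aeval_X,
          ← Matrix.mul_assoc, ih, Matrix.mul_assoc, hsim, ← Matrix.mul_assoc, transpose_mul]
    obtain ⟨v, hv, hv0⟩ : ∃ v ∈ LinearMap.ker (aeval f P), v ≠ 0 := by
      apply (Submodule.ne_bot_iff _).1
      intro hb
      rw [hb, finrank_bot, one_mul] at hker
      exact (Nat.pos_of_ne_zero fun h => by rw [h] at hodd; exact Nat.not_odd_zero hodd).ne' hker.symm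
    have hfM : ∀ Q : F[X], aeval f Q = Matrix.toLinAlgEquiv' (aeval M Q) := fun Q => by
      rw [hf, ← Polynomial.aeval_algHom_apply]
    rw [LinearMap.mem_ker, hfM, Matrix.toLinAlgEquiv'_apply] at hv
    have hdet0 : (aeval M P).det = 0 := Matrix.exists_mulVec_eq_zero_iff.1 ⟨v, hv0, hv⟩
    have h1 := congrArg Matrix.det (hpoly P)
    rw [det_mul, det_mul, det_transpose, hdet0, mul_zero, eq_comm, mul_eq_zero] at h1
    obtain ⟨w, hw0, hw⟩ := Matrix.exists_mulVec_eq_zero_iff.2 (h1.resolve_right hB)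
    obtain ⟨a, b, hab⟩ := hcop
    refine hw0 ?_
    have hR0 : aeval M R *ᵥ w = 0 := by rw [hR, aeval_comp, map_pow, aeval_X]; exact hw
    have hP0' : aeval M (P * (X - C (1 : F))) *ᵥ w = 0 := by
      rw [← Matrix.toLinAlgEquiv'_apply, ← hfM, hann, LinearMap.zero_apply]
    have h2 : aeval M (a * (P * (X - C (1 : F))) + b * R) *ᵥ w = 0 := by
      rw [map_add, map_mul (aeval M) a, map_mul (aeval M) b, add_mulVec, ← mulVec_mulVec, ← mulVec_mulVec, hR0, hP0', mulVec_zero,
        mulVec_zero, add_zero]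
    rwa [hab, map_one, one_mulVec] at h2

end CfsgLib.Classical.Elusive.SLForm
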