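/-
The orthogonal group over the quadratic extension contains the `r`-part unless a small element of order `r` exists.
-/
import Cfsg.Agent.Lib.Classical.Elusive.OrthFieldExtStruct
import Cfsg.Agent.Lib.Classical.Elusive.SLFormSemisimple
import Cfsg.Agent.Lib.Classical22.PrimeOrderSympBlocks
import Cfsg.Agent.Lib.KnownSimple.Forms.Even

set_option autoImplicit false

namespace CfsgLib.Classical.Elusive.OrthField

open CfsgLib.Classical CfsgLib.Classical.QuadSign CfsgLib.Classical22.PrimeMaps.Symp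

universe u

variable {F : Type u} [Field F] [Fintype F] {r : ℕ} [Fact r.Prime]

/-- The factor `q ^ k - ε`. -/
def endFactor (q k : ℕ) (ε : ℤ) : ℕ := if ε = 1 then q ^ k - 1 else q ^ k + 1

omit [Fintype F] in
theorem endFactor_ne_zero {q k : ℕ} (hq : 1 < q) (hk : k ≠ 0) (ε : ℤ) : endFactor q k ε ≠ 0 := by
  have := Nat.one_lt_pow hk hq
  unfold endFactor; split_ifs <;> omega

omit [Fintype F] in
theorem dvd_endFactor {q k : ℕ} (hq : 0 < q) {ε : ℤ} (hε : ε = 1 ∨ ε = -1) :
    r ∣ endFactor q k ε ↔ (q : ZMod r) ^ k = (ε : ZMod r) := by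
  rcases hε with rfl | rfl
  · rw [endFactor, if_pos rfl, ← ZMod.natCast_eq_zero_iff, Nat.cast_sub (Nat.one_le_pow _ _ hq)]
    simp [sub_eq_zero]
  · rw [endFactor, if_neg (by norm_num), ← ZMod.natCast_eq_zero_iff]
    simp [add_eq_zero_iff_eq_neg]

omit [Fact r.Prime] in
theorem qAut_congr_card {V W : Type u} [AddCommGroup V] [Module F V] [AddCommGroup W] [Module F W]
    {Q : QuadraticForm F V} {P : QuadraticForm F W} (e : W ≃ₗ[F] V) (he : ∀ x, Q (e x) = P x) :
    Nat.card (qAut Q) = Nat.card (qAut P) :=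
  (Nat.card_congr (qAutCongr e he).toEquiv).symm

omit [Fact r.Prime] in
/-- The order in even dimension. -/
theorem card_qAut_even (h2 : (2 : F) ≠ 0) {V : Type u} [AddCommGroup V] [Module F V] [FiniteDimensional F V]
    (Q : QuadraticForm F V) (hQ : PolarNondeg Q) {m : ℕ} (hn : Module.finrank F V = 2 * (m + 1)) {ε : ℤ}
    (hs : HasSign Q (m + 1) ε) :
    Nat.card (qAut Q) = 2 * Fintype.card F ^ ((m + 1) * m) * endFactor (Fintype.card F) (m + 1) ε *
      ∏ i ∈ Finset.range m, (Fintype.card F ^ (2 * (i + 1)) - 1) := by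
  obtain ⟨ε', hε, hs'⟩ := exists_hasSign (m + 1) Q hQ hn
  obtain rfl := hasSign_unique hs hs'
  rcases hε with rfl | rfl
  · obtain ⟨e, he⟩ := exists_isometry_of_hasSign (m + 1) (qExt (m + 1) (0 : QuadraticForm F (Fin 0 → F))) Q 1
      (polarNondeg_qExt polarNondeg_empty (m + 1)) hQ (by rw [Module.finrank_pi]; simp; omega) hn
      (hasSign_congr (plusLin (m + 1) F).symm (fun v => by
        rw [← qPlus_plusLin, LinearEquiv.apply_symm_apply]) (hasSign_qPlus (m + 1))) hs
    rw [qAut_congr_card e he, card_qAut_plus, endFactor, if_pos rfl]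
  · obtain ⟨a, b, hab⟩ := CfsgLib.Forms.exists_anisotropic h2
    obtain ⟨e, he⟩ := exists_isometry_of_hasSign (m + 1) (qExt m (qBin a b)) Q (-1)
      (polarNondeg_qExt (polarNondeg_qBin hab) m) hQ (by rw [Module.finrank_pi]; simp; omega) hn
      (hasSign_qExt_qBin hab m) hs
    rw [qAut_congr_card e he, card_qAut_minus hab, endFactor, if_neg (by norm_num)]

omit [Fact r.Prime] in
/-- The order in odd dimension. -/
theorem card_qAut_odd (h2 : (2 : F) ≠ 0) {V : Type u} [AddCommGroup V] [Module F V] [FiniteDimensional F V]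
    (Q : QuadraticForm F V) (hQ : PolarNondeg Q) {m : ℕ} (hn : Module.finrank F V = 2 * m + 1) :
    Nat.card (qAut Q) =
      2 * Fintype.card F ^ (m ^ 2) * ∏ i ∈ Finset.range m, (Fintype.card F ^ (2 * (i + 1)) - 1) := by
  obtain ⟨c, e, hc, he⟩ := exists_similar_line h2 m Q hQ hn
  rw [← card_qAut_line h2 m]
  have h1 : Nat.card (qAut Q) = Nat.card (qAut (c • qExt m (qLine F))) :=
    qAut_congr_card e (fun v => by rw [he, QuadraticMap.smul_apply, smul_eq_mul])
  rw [h1]
  refine Nat.card_congr (Equiv.subtypeEquivRight fun g => ⟨fun h v => ?_, fun h v => ?_⟩)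
  · have := h v
    rw [QuadraticMap.smul_apply, QuadraticMap.smul_apply, smul_eq_mul, smul_eq_mul] at this
    exact mul_left_cancel₀ hc this
  · rw [QuadraticMap.smul_apply, QuadraticMap.smul_apply, h v]

theorem val_two (hr2 : r ≠ 2) : padicValNat r 2 = 0 := padicValNat.eq_zero_of_not_dvd fun h =>
  hr2 ((Nat.prime_dvd_prime_iff_eq Fact.out Nat.prime_two).1 h)

theorem val_pref (hr2 : r ≠ 2) {q : ℕ} (hrq : ¬ r ∣ q) (a : ℕ) : padicValNat r (2 * q ^ a) = 0 :=
  padicValNat.eq_zero_of_not_dvd fun h => by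
    rcases (Fact.out : r.Prime).dvd_mul.1 h with h | h
    · exact hr2 ((Nat.prime_dvd_prime_iff_eq Fact.out Nat.prime_two).1 h)
    · exact hrq ((Fact.out : r.Prime).dvd_of_dvd_pow h)

theorem val_prod {q : ℕ} (hq : 1 < q) (m : ℕ) :
    padicValNat r (∏ i ∈ Finset.range m, (q ^ (2 * (i + 1)) - 1)) =
      ∑ i ∈ Finset.range m, padicValNat r (q ^ (2 * (i + 1)) - 1) := by
  have hne : ∀ t, q ^ (2 * (t + 1)) - 1 ≠ 0 := fun t => by
    have := Nat.one_lt_pow (show 2 * (t + 1) ≠ 0 by omega) hq; omega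
  induction m with
  | zero => simp
  | succ m ih =>
    rw [Finset.prod_range_succ, Finset.sum_range_succ,
      padicValNat.mul (Finset.prod_ne_zero_iff.2 fun i _ => hne i) (hne m), ih]

theorem sum_skip {q : ℕ} (hq : 0 < q) (h4 : 4 ∣ orderOf (q : ZMod r)) (m : ℕ) :
    (∑ t ∈ Finset.range (2 * m), padicValNat r (q ^ (2 * (t + 1)) - 1) =
      ∑ t ∈ Finset.range m, padicValNat r ((q ^ 2) ^ (2 * (t + 1)) - 1)) ∧
    (∑ t ∈ Finset.range (2 * m + 1), padicValNat r (q ^ (2 * (t + 1)) - 1) =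
      ∑ t ∈ Finset.range m, padicValNat r ((q ^ 2) ^ (2 * (t + 1)) - 1)) := by
  have h0 : ∀ j, Odd j → padicValNat r (q ^ (2 * j) - 1) = 0 := fun j hj => padicValNat.eq_zero_of_not_dvd fun h => by
    rw [← ZMod.natCast_eq_zero_iff, Nat.cast_sub (Nat.one_le_pow _ _ hq), Nat.cast_pow, Nat.cast_one,
      sub_eq_zero] at h
    obtain ⟨k, rfl⟩ := hj
    have := h4.trans (orderOf_dvd_of_pow_eq_one h)
    omega
  induction m with
  | zero => simpa using h0 1 odd_one
  | succ m ih =>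
    have e1 : ∑ t ∈ Finset.range (2 * (m + 1)), padicValNat r (q ^ (2 * (t + 1)) - 1) =
        ∑ t ∈ Finset.range (m + 1), padicValNat r ((q ^ 2) ^ (2 * (t + 1)) - 1) := by
      rw [show 2 * (m + 1) = 2 * m + 1 + 1 by ring, Finset.sum_range_succ, ih.2, Finset.sum_range_succ,
        show 2 * m + 1 + 1 = 2 * (m + 1) by ring, ← pow_mul]
    exact ⟨e1, by rw [Finset.sum_range_succ, e1, h0 _ (by exact ⟨m + 1, by ring⟩), add_zero]⟩

variable {V : Type u} [AddCommGroup V] [Module F V] [FiniteDimensional F V] {Q : QuadraticForm F V} {ν : F}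

/-- When four divides the order of `q`, the extension group contains the `r`-part. -/
theorem four_dvd_le (h2 : (2 : F) ≠ 0) (hr2 : r ≠ 2) (hrq : ¬ r ∣ Fintype.card F)
    (h4 : 4 ∣ orderOf (Fintype.card F : ZMod r)) (hQ : PolarNondeg Q) {d : ℕ} (hd : Module.finrank F V = 2 * d)
    (hd1 : 2 ≤ d) (S : QStr Q ν) [Fact (∀ x : F, x ^ 2 ≠ ν + 0 * x)] :
    padicValNat r (Nat.card (qAut Q)) ≤ padicValNat r (Nat.card (qAut (lForm S))) := by
  classical
  haveI : Finite V := Module.finite_of_finite F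
  haveI : Finite (LExt ν) := Module.finite_of_finite F
  letI : Fintype (LExt ν) := Fintype.ofFinite _
  obtain ⟨q, hq⟩ : ∃ q, q = Fintype.card F := ⟨_, rfl⟩
  have hq1 : 1 < q := hq ▸ Fintype.one_lt_card
  have hq2 : 1 < q ^ 2 := Nat.one_lt_pow two_ne_zero hq1
  have hrq2 : ¬ r ∣ q ^ 2 := fun h => hrq (hq ▸ (Fact.out : r.Prime).dvd_of_dvd_pow h)
  rw [← hq] at hrq h4
  have hL := lext_two (ν := ν) h2
  have hcard : Fintype.card (LExt ν) = q ^ 2 := by rw [hq, card_lext]
  have hfd : Module.finrank (LExt ν) (JSp S) = d := by have := finrank_jsp S; omega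
  have htr : ∀ v : V, Q v = 2 * (lForm S ((toV S).toEquiv.symm v)).re := fun v => by
    rw [lForm_re S h2]; rfl
  obtain ⟨ε, hε, hsQ⟩ := exists_hasSign d Q hQ hd
  have hP0 : ∀ {x : ℕ}, 1 < x → ∀ k, ∏ i ∈ Finset.range k, (x ^ (2 * (i + 1)) - 1) ≠ 0 := fun hx k =>
    Finset.prod_ne_zero_iff.2 fun i _ => by
      have := Nat.one_lt_pow (show 2 * (i + 1) ≠ 0 by omega) hx; omega
  rcases Nat.even_or_odd' d with ⟨m, rfl | rfl⟩
  · obtain ⟨m, rfl⟩ : ∃ m', m = m' + 1 := ⟨m - 1, by omega⟩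
    obtain ⟨ε', hε', hsL⟩ := exists_hasSign (m + 1) (lForm S) (lForm_nondeg S h2 hQ) hfd
    obtain rfl := hasSign_unique hsQ (hasSign_re h2 (lForm S) Q _ htr hsL)
    rw [card_qAut_even h2 Q hQ (m := 2 * m + 1) (by rw [hd]; ring) (by
        rwa [show 2 * m + 1 + 1 = 2 * (m + 1) by ring]),
      card_qAut_even hL (lForm S) (lForm_nondeg S h2 hQ) hfd hsL, hcard, ← hq]
    rw [padicValNat.mul (mul_ne_zero (mul_ne_zero two_ne_zero (pow_ne_zero _ (by omega)))
        (endFactor_ne_zero hq1 (by omega) _)) (hP0 hq1 _),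
      padicValNat.mul (mul_ne_zero (mul_ne_zero two_ne_zero (pow_ne_zero _ (by omega)))
        (endFactor_ne_zero hq2 (by omega) _)) (hP0 hq2 _),
      padicValNat.mul (mul_ne_zero two_ne_zero (pow_ne_zero _ (by omega))) (endFactor_ne_zero hq1 (by omega) _),
      padicValNat.mul (mul_ne_zero two_ne_zero (pow_ne_zero _ (by omega))) (endFactor_ne_zero hq2 (by omega) _),
      val_pref hr2 hrq, val_pref hr2 hrq2, val_prod hq1, val_prod hq2, (sum_skip (by omega) h4 m).2]
    refine le_of_eq ?_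
    congr 2
    rw [show endFactor (q ^ 2) (m + 1) ε = endFactor q (2 * m + 1 + 1) ε by
      simp only [endFactor, ← pow_mul, show 2 * (m + 1) = 2 * m + 1 + 1 by ring]]
  · rw [card_qAut_even h2 Q hQ (m := 2 * m) hd hsQ,
      card_qAut_odd hL (lForm S) (lForm_nondeg S h2 hQ) hfd, hcard, ← hq]
    have hend : padicValNat r (endFactor q (2 * m + 1) ε) = 0 := padicValNat.eq_zero_of_not_dvd fun h => by
      rw [dvd_endFactor (by omega) hε] at h
      have h1 : (q : ZMod r) ^ (2 * (2 * m + 1)) = 1 := by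
        rw [mul_comm, pow_mul, h]
        rcases hε with rfl | rfl <;> norm_num
      have := h4.trans (orderOf_dvd_of_pow_eq_one h1)
      omega
    rw [padicValNat.mul (mul_ne_zero (mul_ne_zero two_ne_zero (pow_ne_zero _ (by omega)))
        (endFactor_ne_zero hq1 (by omega) _)) (hP0 hq1 _),
      padicValNat.mul (mul_ne_zero two_ne_zero (pow_ne_zero _ (by omega))) (hP0 hq2 _),
      padicValNat.mul (mul_ne_zero two_ne_zero (pow_ne_zero _ (by omega))) (endFactor_ne_zero hq1 (by omega) _),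
      val_pref hr2 hrq, val_pref hr2 hrq2, hend, val_prod hq1, val_prod hq2, (sum_skip (by omega) h4 m).1]

theorem exists_form_sign (h2 : (2 : F) ≠ 0) {k : ℕ} {ε : ℤ} (hε : ε = 1 ∨ (ε = -1 ∧ 1 ≤ k)) :
    ∃ (W : Type u) (_ : AddCommGroup W) (_ : Module F W) (_ : FiniteDimensional F W) (P : QuadraticForm F W),
      PolarNondeg P ∧ Module.finrank F W = 2 * k ∧ HasSign P k ε := by
  rcases hε with rfl | ⟨rfl, hk⟩
  · exact ⟨_, inferInstance, inferInstance, inferInstance, qExt k (0 : QuadraticForm F (Fin 0 → F)),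
      polarNondeg_qExt polarNondeg_empty k, by rw [Module.finrank_pi]; simp; omega,
      hasSign_congr (plusLin k F).symm (fun v => by rw [← qPlus_plusLin, LinearEquiv.apply_symm_apply])
        (hasSign_qPlus k)⟩
  · obtain ⟨k, rfl⟩ : ∃ k', k = k' + 1 := ⟨k - 1, by omega⟩
    obtain ⟨a, b, hab⟩ := CfsgLib.Forms.exists_anisotropic h2
    exact ⟨_, inferInstance, inferInstance, inferInstance, qExt k (qBin a b),
      polarNondeg_qExt (polarNondeg_qBin hab) k, by rw [Module.finrank_pi]; simp; omega,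
      hasSign_qExt_qBin hab k⟩

/-- An element of order `r` moving at most a block. -/
theorem exists_small_elt (h2 : (2 : F) ≠ 0) (hr2 : r ≠ 2) (hrq : ¬ r ∣ Fintype.card F) (hQ : PolarNondeg Q) {d : ℕ}
    (hd : Module.finrank F V = 2 * d) (hd1 : 2 ≤ d) (h4 : ¬ 4 ∣ orderOf (Fintype.card F : ZMod r))
    (hO : r ∣ Nat.card (qAut Q)) :
    ∃ g : qAut Q, g ^ r = 1 ∧ g ≠ 1 ∧
      Module.finrank F (LinearMap.range (g.1.toLinearMap - 1)) ≤ blockDim (orderOf (Fintype.card F : ZMod r)) := by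
  classical
  obtain ⟨q, hq⟩ : ∃ q, q = Fintype.card F := ⟨_, rfl⟩
  have hq1 : 1 < q := hq ▸ Fintype.one_lt_card
  rw [← hq] at hrq h4 ⊢
  have hQ0 : (q : ZMod r) ≠ 0 := by rwa [Ne, ZMod.natCast_eq_zero_iff]
  obtain ⟨e, he⟩ : ∃ e, e = orderOf (q : ZMod r) := ⟨_, rfl⟩
  rw [← he] at h4 ⊢
  have he0 : 0 < e := he ▸ orderOf_pos_iff.2
    (isOfFinOrder_iff_pow_eq_one.2 ⟨r - 1, by have := (Fact.out : r.Prime).two_le; omega, ZMod.pow_card_sub_one_eq_one hQ0⟩)
  have hpow : (q : ZMod r) ^ e = 1 := he ▸ pow_orderOf_eq_one _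
  have hne : (1 : ZMod r) ≠ -1 := fun h => by
    have h' : ((2 : ℕ) : ZMod r) = 0 := by push_cast; linear_combination h
    rw [ZMod.natCast_eq_zero_iff] at h'
    exact hr2 ((Nat.prime_dvd_prime_iff_eq Fact.out Nat.prime_two).1 h')
  obtain ⟨ε, hε, hsQ⟩ := exists_hasSign d Q hQ hd
  -- the block
  obtain ⟨k, s, hk, hks, hfit, hblk⟩ : ∃ (k : ℕ) (s : ℤ), blockDim e = 2 * k ∧ (s = 1 ∨ s = -1) ∧
      (k < d ∨ (k = d ∧ ε = s)) ∧ (q : ZMod r) ^ k = (s : ZMod r) := by
    obtain ⟨m, hm⟩ : ∃ m, d = m + 1 := ⟨d - 1, by omega⟩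
    rw [card_qAut_even h2 Q hQ (m := m) (by rw [hd, hm]) (hm ▸ hsQ), ← hq] at hO
    have hdiv : (∃ i, i < m ∧ e ∣ 2 * (i + 1)) ∨ (q : ZMod r) ^ d = (ε : ZMod r) := by
      rcases (Fact.out : r.Prime).dvd_mul.1 hO with h | h
      · rcases (Fact.out : r.Prime).dvd_mul.1 h with h | h
        · exfalso
          rcases (Fact.out : r.Prime).dvd_mul.1 h with h | h
          · exact hr2 ((Nat.prime_dvd_prime_iff_eq Fact.out Nat.prime_two).1 h)
          · exact hrq ((Fact.out : r.Prime).dvd_of_dvd_pow h)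
        · exact Or.inr (hm ▸ (dvd_endFactor (by omega) hε).1 h)
      · obtain ⟨i, hi, hri⟩ := (Fact.out : r.Prime).prime.exists_mem_finset_dvd h
        rw [← ZMod.natCast_eq_zero_iff, Nat.cast_sub (Nat.one_le_pow _ _ (by omega)), Nat.cast_pow, Nat.cast_one,
          sub_eq_zero] at hri
        exact Or.inl ⟨i, Finset.mem_range.1 hi, he ▸ orderOf_dvd_of_pow_eq_one hri⟩
    rcases Nat.even_or_odd e with hev | hod
    · obtain ⟨f, hf⟩ := hev
      have hfodd : Odd f := Nat.not_even_iff_odd.1 fun ⟨g, hg⟩ => h4 ⟨g, by omega⟩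
      refine ⟨f, -1, by rw [blockDim, if_pos ⟨f, hf⟩]; omega, Or.inr rfl, ?_, ?_⟩
      · rcases hdiv with ⟨i, hi, hei⟩ | h
        · have := Nat.le_of_dvd (by omega) hei
          exact Or.inl (by omega)
        rcases hε with rfl | rfl
        · have := Nat.le_of_dvd (by omega) (he ▸ orderOf_dvd_of_pow_eq_one (by simpa using h) : e ∣ d)
          exact Or.inl (by omega)
        · have h2d : (q : ZMod r) ^ (2 * d) = 1 := by
            rw [mul_comm, pow_mul, h]; norm_num
          have := Nat.le_of_dvd (by omega) (he ▸ orderOf_dvd_of_pow_eq_one h2d : e ∣ 2 * d)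
          by_cases hfd : f = d
          · exact Or.inr ⟨hfd, rfl⟩
          · exact Or.inl (by omega)
      · have h1 : ((q : ZMod r) ^ f) * ((q : ZMod r) ^ f) = 1 := by rw [← pow_add, ← hf, hpow]
        rcases mul_self_eq_one_iff.1 h1 with h1 | h1
        · have := Nat.le_of_dvd (by omega) (he ▸ orderOf_dvd_of_pow_eq_one h1 : e ∣ f)
          omega
        · simpa using h1
    · refine ⟨e, 1, by rw [blockDim, if_neg (Nat.not_even_iff_odd.2 hod)], Or.inl rfl, ?_, by simpa using hpow⟩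
      have hco : Nat.Coprime e 2 := Nat.coprime_two_right.2 hod
      rcases hdiv with ⟨i, hi, hei⟩ | h
      · have := Nat.le_of_dvd (by omega) (hco.dvd_of_dvd_mul_left hei)
        exact Or.inl (by omega)
      rcases hε with rfl | rfl
      · have := Nat.le_of_dvd (by omega) (he ▸ orderOf_dvd_of_pow_eq_one (by simpa using h) : e ∣ d)
        by_cases hfd : e = d
        · exact Or.inr ⟨hfd, rfl⟩
        · exact Or.inl (by omega)
      · exfalso
        have h2d : (q : ZMod r) ^ (2 * d) = 1 := by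
          rw [mul_comm, pow_mul, h]; norm_num
        have hed : e ∣ d := hco.dvd_of_dvd_mul_left (he ▸ orderOf_dvd_of_pow_eq_one h2d)
        obtain ⟨c, rfl⟩ := hed
        rw [pow_mul, hpow, one_pow] at h
        exact hne (by simpa using h)
  have hk0 : 0 < k := by have := blockDim_pos he0; omega
  obtain ⟨W, _, _, _, P, hP, hWd, hsP⟩ := exists_form_sign (F := F) h2 (k := k) (ε := s)
    (hks.imp id fun h => ⟨h, hk0⟩)
  obtain ⟨W', _, _, _, P', hP', hWd', hsP'⟩ := exists_form_sign (F := F) h2 (k := d - k) (ε := ε * s) (by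
    rcases hfit with hlt | ⟨-, rfl⟩
    · rcases hε with rfl | rfl <;> rcases hks with rfl | rfl <;>
        (norm_num; try omega)
    · rcases hε with rfl | rfl <;> exact Or.inl (by norm_num))
  haveI : Finite W := Module.finite_of_finite F
  haveI : Finite W' := Module.finite_of_finite F
  haveI := finite_qAut P
  have hrP : r ∣ Nat.card (qAut P) := by
    rw [card_qAut_even h2 P hP (m := k - 1) (by rw [hWd]; omega) (by rwa [Nat.sub_add_cancel hk0]),
      Nat.sub_add_cancel hk0]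
    exact dvd_mul_of_dvd_left (dvd_mul_of_dvd_right ((dvd_endFactor Fintype.card_pos hks).2 (hq ▸ hblk)) _) _
  obtain ⟨g₀, hg₀⟩ := exists_prime_orderOf_dvd_card' r hrP
  have hsum := hasSign_prod hsP hsP'
  have hkd : k ≤ d := by rcases hfit with h | ⟨h, -⟩ <;> omega
  rw [Nat.add_sub_cancel' hkd, show s * (ε * s) = ε by rcases hks with rfl | rfl <;> ring] at hsum
  obtain ⟨E, hE⟩ := exists_isometry_of_hasSign d (P.prod P') Q ε (fun x hx => Prod.ext
      (hP x.1 fun w => by simpa [QuadraticMap.polar] using hx (w, 0))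
      (hP' x.2 fun w => by simpa [QuadraticMap.polar] using hx (0, w))) hQ
    (by rw [Module.finrank_prod, hWd, hWd']; omega) hd hsum hsQ
  obtain ⟨φ, hφ⟩ : ∃ φ : qAut P →* qAut Q, ∀ g w w', (φ g).1 (E (w, w')) = E (g.1 w, w') := by
    refine ⟨(qAutCongr E hE).toMonoidHom.comp (MonoidHom.mk' (fun g => (⟨g.1.prodCongr (LinearEquiv.refl F W'),
      fun v => by simp [qAut_map]⟩ : qAut (P.prod P'))) fun a b => qAut_ext fun v => rfl), fun g w w' => ?_⟩
    show E ((g.1.prodCongr (LinearEquiv.refl F W')) (E.symm (E (w, w')))) = _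
    rw [E.symm_apply_apply]
    rfl
  refine ⟨φ g₀, by rw [← map_pow, ← hg₀, pow_orderOf_eq_one, map_one], fun h1 => ?_, ?_⟩
  · have : g₀ = 1 := qAut_ext fun w => by
      have h := hφ g₀ w 0
      rw [h1] at h
      exact congrArg Prod.fst (E.injective h.symm)
    rw [this, orderOf_one] at hg₀
    exact (Fact.out : r.Prime).ne_one hg₀.symm
  · refine le_trans (Submodule.finrank_mono (t := LinearMap.range (E.toLinearMap ∘ₗ LinearMap.inl F W W')) ?_) ?_
    · rintro _ ⟨v, rfl⟩
      obtain ⟨⟨w, w'⟩, rfl⟩ := E.surjective v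
      refine ⟨g₀.1 w - w, ?_⟩
      rw [LinearMap.sub_apply, Module.End.one_apply, LinearEquiv.coe_coe, hφ, ← map_sub]
      simp
    · refine (LinearMap.finrank_range_le _).trans ?_
      rw [hWd, hk]

end CfsgLib.Classical.Elusive.OrthField
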