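/-
Maps with square `±1` are conjugate into the normaliser of a self-adjoint square root of a non-square.
-/
import Cfsg.Agent.Lib.Classical.Elusive.OrthFieldExtStruct
import Cfsg.Agent.Lib.Classical.SpinorCriterion

set_option autoImplicit false

namespace CfsgLib.Classical.Elusive.OrthField

open Module CfsgLib.Classical CfsgLib.Classical.QuadSign QuadraticMap

universe u

variable {F : Type u} [Field F] {V : Type u} [AddCommGroup V] [Module F V] (Q : QuadraticForm F V)

/-- An orthogonal family arranged in pairs. -/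
def IsPlanes {n : ℕ} (b : Fin n × Fin 2 → V) : Prop :=
  (∀ i, Q (b i) ≠ 0) ∧ ∀ i j, i ≠ j → polar Q (b i) (b j) = 0

/-- The vectors orthogonal to `v`. -/
def perp (v : V) : Submodule F V := LinearMap.ker (polarBilin Q v)

theorem mem_perp {v x : V} : x ∈ perp Q v ↔ polar Q v x = 0 := by rw [perp, LinearMap.mem_ker]; rfl

theorem perp_nd (h2 : (2 : F) ≠ 0) {W : Submodule F V} (hW : NdOn Q W) {v : V} (hvW : v ∈ W) (hv : Q v ≠ 0) :
    NdOn Q (W ⊓ perp Q v) := by
  rintro x ⟨hxW, hxv⟩ h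
  refine hW x hxW fun y hy => ?_
  rw [SetLike.mem_coe, mem_perp] at hxv
  obtain ⟨t, ht⟩ : ∃ t, t = polar Q v y / (2 * Q v) := ⟨_, rfl⟩
  have hmem : y - t • v ∈ W ⊓ perp Q v := by
    refine ⟨W.sub_mem hy (W.smul_mem _ hvW), ?_⟩
    rw [SetLike.mem_coe, mem_perp, polar_sub_right, polar_smul_right, quad_polar_self, smul_eq_mul, ht,
      div_mul_cancel₀ _ (mul_ne_zero h2 hv), sub_self]
  have h1 := h _ hmem
  rwa [polar_sub_right, polar_smul_right, polar_comm _ x v, hxv, smul_zero, sub_zero] at h1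

theorem finrank_perp [FiniteDimensional F V] (h2 : (2 : F) ≠ 0) {W : Submodule F V} {v : V} (hvW : v ∈ W)
    (hv : Q v ≠ 0) : finrank F (W ⊓ perp Q v : Submodule F V) + 1 = finrank F W := by
  obtain ⟨L, hL⟩ : ∃ L : W →ₗ[F] F, ∀ x, L x = polar Q v x := ⟨(polarBilin Q v).domRestrict W, fun x => rfl⟩
  have hr : LinearMap.range L = ⊤ := by
    refine LinearMap.range_eq_top.2 fun c => ⟨(c / (2 * Q v)) • ⟨v, hvW⟩, ?_⟩
    rw [map_smul, hL, quad_polar_self, smul_eq_mul, div_mul_cancel₀ _ (mul_ne_zero h2 hv)]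
  have hk : finrank F (LinearMap.ker L) = finrank F (W ⊓ perp Q v : Submodule F V) := by
    have hmap : (LinearMap.ker L).map W.subtype = W ⊓ perp Q v := by
      ext x
      constructor
      · rintro ⟨y, hy, rfl⟩
        exact ⟨y.2, (mem_perp Q).2 ((hL y).symm.trans hy)⟩
      · rintro ⟨hx, hx'⟩
        exact ⟨⟨x, hx⟩, (hL _).trans ((mem_perp Q).1 hx'), rfl⟩
    rw [← hmap]
    exact (Submodule.finrank_map_subtype_eq W _).symm
  have h := LinearMap.finrank_range_add_finrank_ker L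
  rw [hr, finrank_top, Module.finrank_self, hk] at h
  omega

theorem exists_planes [FiniteDimensional F V] (h2 : (2 : F) ≠ 0) (R : V → V → Prop) (Good : Submodule F V → Prop)
    (step : ∀ W, Good W → W ≠ ⊥ → ∃ v ∈ W, ∃ w ∈ W, R v w ∧ Q v ≠ 0 ∧ Q w ≠ 0 ∧ polar Q v w = 0 ∧
      Good (W ⊓ perp Q v ⊓ perp Q w)) {W : Submodule F V} (hW : Good W) :
    ∃ (n : ℕ) (b : Fin n × Fin 2 → V), IsPlanes Q b ∧ (∀ k, R (b (k, 0)) (b (k, 1))) ∧ (∀ i, b i ∈ W) ∧
      2 * n = finrank F W := by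
  obtain ⟨m, hm⟩ : ∃ m, finrank F W = m := ⟨_, rfl⟩
  induction m using Nat.strong_induction_on generalizing W with
  | _ m ih =>
    by_cases h0 : W = ⊥
    · subst h0
      exact ⟨0, fun i => i.1.elim0, ⟨fun i => i.1.elim0, fun i => i.1.elim0⟩, fun k => k.elim0,
        fun i => i.1.elim0, by rw [finrank_bot]⟩
    obtain ⟨v, hv, w, hw, hR, hQv, hQw, hvw, hgood⟩ := step W hW h0
    have hwv : w ∈ W ⊓ perp Q v := ⟨hw, (mem_perp Q).2 hvw⟩
    have d1 := finrank_perp Q h2 hv hQv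
    have d2 := finrank_perp Q h2 hwv hQw
    obtain ⟨n, b, hb, hbR, hbW, hbn⟩ := ih _ (by omega) hgood rfl
    refine ⟨n + 1, fun i => Fin.cases (![v, w] i.2) (fun k => b (k, i.2)) i.1, ⟨fun i => ?_, fun i i' hne => ?_⟩,
      fun k => ?_, fun i => ?_, by omega⟩
    · obtain ⟨k, s⟩ := i
      refine Fin.cases ?_ (fun k => ?_) k
      · fin_cases s <;> simpa
      · simpa using hb.1 (k, s)
    · obtain ⟨k, s⟩ := i
      obtain ⟨k', s'⟩ := i'
      have hcross : ∀ j, polar Q v (b j) = 0 ∧ polar Q w (b j) = 0 := fun j =>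
        ⟨(mem_perp Q).1 (hbW j).1.2, (mem_perp Q).1 (hbW j).2⟩
      induction k using Fin.cases with
      | zero =>
        induction k' using Fin.cases with
        | zero =>
          fin_cases s <;> fin_cases s' <;> simp_all [polar_comm]
        | succ k' => fin_cases s <;> simp [(hcross (k', s')).1, (hcross (k', s')).2]
      | succ k =>
        induction k' using Fin.cases with
        | zero =>
          fin_cases s' <;> simp [polar_comm (f := ⇑Q) (b (k, s)), (hcross (k, s)).1, (hcross (k, s)).2]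
        | succ k' =>
          simp only [Fin.cases_succ]
          exact hb.2 _ _ fun h => hne (by rw [Prod.ext_iff] at h ⊢; exact ⟨congrArg Fin.succ h.1, h.2⟩)
    · refine Fin.cases ?_ (fun k => ?_) k
      · simpa using hR
      · simpa using hbR k
    · obtain ⟨k, s⟩ := i
      refine Fin.cases ?_ (fun k => ?_) k
      · fin_cases s <;> simpa
      · simpa using (hbW (k, s)).1.1

theorem planes_basis [FiniteDimensional F V] (h2 : (2 : F) ≠ 0) {n : ℕ} {b : Fin n × Fin 2 → V} (hb : IsPlanes Q b)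
    (hn : 2 * n = finrank F V) : ∃ B : Basis (Fin n × Fin 2) F V, ∀ i, B i = b i := by
  have hli : LinearIndependent F b := by
    rw [Fintype.linearIndependent_iff]
    intro g hg i
    have h := congrArg (polarBilin Q (b i)) hg
    rw [map_sum, map_zero, Finset.sum_eq_single i] at h
    · rw [map_smul, polarBilin_apply_apply, quad_polar_self, smul_eq_mul, mul_eq_zero] at h
      exact h.resolve_right (mul_ne_zero h2 (hb.1 i))
    · intro j _ hj
      rw [map_smul, polarBilin_apply_apply, hb.2 i j (Ne.symm hj), smul_zero]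
    · simp
  by_cases hn0 : n = 0
  · subst hn0
    haveI : Subsingleton V := (Module.finrank_zero_iff (R := F)).1 (by omega)
    exact ⟨Basis.empty V, fun i => i.1.elim0⟩
  haveI : Nonempty (Fin n × Fin 2) := ⟨(⟨0, Nat.pos_of_ne_zero hn0⟩, 0)⟩
  exact ⟨basisOfLinearIndependentOfCardEqFinrank hli (by simp; omega), fun i => by
    rw [coe_basisOfLinearIndependentOfCardEqFinrank]⟩

variable {ν : F} {n : ℕ}

/-- The structure with given coefficients on the planes. -/
theorem exists_str (h2 : (2 : F) ≠ 0) (B : Basis (Fin n × Fin 2) F V) (hB : IsPlanes Q B) (α β : Fin n → F)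
    (hαβ : ∀ k, α k ^ 2 + β k ^ 2 * (Q (B (k, 1)) / Q (B (k, 0))) = ν) :
    ∃ S : QStr Q ν, (∀ k, S.j (B (k, 0)) = α k • B (k, 0) + β k • B (k, 1)) ∧
      ∀ k, S.j (B (k, 1)) = (β k * (Q (B (k, 1)) / Q (B (k, 0)))) • B (k, 0) - α k • B (k, 1) := by
  obtain ⟨j, hj⟩ : ∃ j : Module.End F V, ∀ k i, j (B (k, i)) = ![α k • B (k, 0) + β k • B (k, 1),
      (β k * (Q (B (k, 1)) / Q (B (k, 0)))) • B (k, 0) - α k • B (k, 1)] i :=
    ⟨B.constr F fun p => ![α p.1 • B (p.1, 0) + β p.1 • B (p.1, 1),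
      (β p.1 * (Q (B (p.1, 1)) / Q (B (p.1, 0)))) • B (p.1, 0) - α p.1 • B (p.1, 1)] p.2,
      fun k i => by rw [Basis.constr_basis]⟩
  have h0 : ∀ k, j (B (k, 0)) = α k • B (k, 0) + β k • B (k, 1) := fun k => (hj k 0).trans (by simp)
  have h1 : ∀ k, j (B (k, 1)) = (β k * (Q (B (k, 1)) / Q (B (k, 0)))) • B (k, 0) - α k • B (k, 1) :=
    fun k => (hj k 1).trans (by simp)
  have hsq : j * j = ν • (1 : Module.End F V) := B.ext fun p => by
    obtain ⟨k, i⟩ := p
    fin_cases i <;> simp only [Fin.zero_eta, Fin.mk_one, Module.End.mul_apply, LinearMap.smul_apply, Module.End.one_apply,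
      h0, h1, map_add, map_sub, map_smul] <;> rw [← hαβ k] <;> module
  have hadj : (polarBilin Q).comp j = (polarBilin Q).compl₂ j := B.ext fun p => B.ext fun p' => by
    simp only [LinearMap.comp_apply, LinearMap.compl₂_apply, polarBilin_apply_apply]
    obtain ⟨k, i⟩ := p
    obtain ⟨k', i'⟩ := p'
    by_cases hk : k = k'
    · subst hk
      have o : polar Q (B (k, 0)) (B (k, 1)) = 0 := hB.2 _ _ (by simp)
      have o' : polar Q (B (k, 1)) (B (k, 0)) = 0 := hB.2 _ _ (by simp)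
      have hne := hB.1 (k, 0)
      fin_cases i <;> fin_cases i' <;> simp only [Fin.zero_eta, Fin.mk_one, h0, h1, polar_add_left, polar_sub_left,
        polar_add_right, polar_sub_right, polar_smul_left, polar_smul_right, quad_polar_self, o, o', smul_eq_mul,
        mul_zero, add_zero, zero_add, sub_zero, zero_sub] <;> field_simp <;> ring
    · have o : ∀ s s', polar Q (B (k, s)) (B (k', s')) = 0 := fun s s' => hB.2 _ _ (by simp [hk])
      fin_cases i <;> fin_cases i' <;> simp only [Fin.zero_eta, Fin.mk_one, h0, h1, polar_add_left, polar_sub_left,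
        polar_add_right, polar_sub_right, polar_smul_left, polar_smul_right, o, smul_zero, add_zero, sub_zero]
  exact ⟨⟨j, fun v => by
    have := congrArg (fun f : Module.End F V => f v) hsq
    simpa using this, fun u v => by
    have := congrArg (fun f : V →ₗ[F] V →ₗ[F] F => f u v) hadj
    simpa using this⟩, h0, h1⟩

variable [Fintype F]

theorem exists_coeff (h2 : (2 : F) ≠ 0) {t : F} (ht : t ≠ 0) (c : F) : ∃ x y : F, x ^ 2 + y ^ 2 * t = c := by
  open Polynomial in
  obtain ⟨x, y, h⟩ := FiniteField.exists_root_sum_quadratic (R := F) (f := X ^ 2) (g := C t * X ^ 2 - C c)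
    (degree_X_pow 2) (by rw [degree_sub_C (by rw [degree_C_mul_X_pow _ ht]; norm_num), degree_C_mul_X_pow _ ht]; rfl)
    (FiniteField.odd_card_of_char_ne_two fun hc => h2 (by
      haveI : CharP F 2 := ringChar.of_eq hc
      exact_mod_cast CharP.cast_eq_zero F 2))
  simp only [Polynomial.eval_pow, Polynomial.eval_X, Polynomial.eval_sub, Polynomial.eval_mul, Polynomial.eval_C] at h
  exact ⟨x, y, by linear_combination h⟩

omit [Fintype F] in
theorem top_nd (hQ : PolarNondeg Q) : NdOn Q (⊤ : Submodule F V) := fun x _ h => hQ x fun y => h y trivial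

/-- Some plane basis with a non-square product. -/
theorem exists_nonsq_planes [FiniteDimensional F V] (h2 : (2 : F) ≠ 0) (hQ : PolarNondeg Q) {d : ℕ}
    (hd : finrank F V = 2 * d) (hd1 : 2 ≤ d) :
    ∃ (n : ℕ) (k : Fin n) (B : Basis (Fin n × Fin 2) F V), IsPlanes Q B ∧
      ¬ IsSquare (Q (B (k, 0)) * Q (B (k, 1))) := by
  obtain ⟨δ, hδ⟩ : ∃ δ : F, ¬ IsSquare δ := FiniteField.exists_nonsquare fun hc => h2 (by
    haveI : CharP F 2 := ringChar.of_eq hc
    exact_mod_cast CharP.cast_eq_zero F 2)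
  have hδ0 : δ ≠ 0 := fun h => hδ ⟨0, by rw [h, mul_zero]⟩
  obtain ⟨v, hv⟩ := exists_value Q hQ (c := (1 : F)) (by omega) one_ne_zero
  have hv0 : Q v ≠ 0 := by rw [hv]; exact one_ne_zero
  obtain ⟨W₁, hW₁⟩ : ∃ W, W = (⊤ : Submodule F V) ⊓ perp Q v := ⟨_, rfl⟩
  have d1 := finrank_perp Q h2 (W := ⊤) (v := v) trivial hv0
  rw [← hW₁, finrank_top] at d1
  have hn1 : NdOn Q W₁ := hW₁ ▸ perp_nd Q h2 (top_nd Q hQ) trivial hv0
  obtain ⟨w, hw⟩ := exists_value (Q.comp W₁.subtype) (fun x hx => Subtype.ext (hn1 x x.2 fun y hy => by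
    simpa [polar] using hx ⟨y, hy⟩)) (c := δ) (by omega) hδ0
  have hw' : Q (w : V) = δ := hw
  have hw0 : Q (w : V) ≠ 0 := hw' ▸ hδ0
  have hwv : (w : V) ∈ (⊤ : Submodule F V) ⊓ perp Q v := hW₁ ▸ w.2
  have d2 := finrank_perp Q h2 hwv hw0
  rw [← hW₁] at d2
  obtain ⟨W₂, hW₂⟩ : ∃ W, W = W₁ ⊓ perp Q (w : V) := ⟨_, rfl⟩
  rw [← hW₂] at d2
  obtain ⟨n, b, hb, -, hbW, hbn⟩ := exists_planes Q h2 (fun _ _ => True)
    (fun W => NdOn Q W ∧ Even (finrank F W)) (W := W₂) (fun W hW h0 => by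
      obtain ⟨x, hx, hx0⟩ := exists_aniso_in Q hW.1 h0
      have e1 := finrank_perp Q h2 hx hx0
      have hne : W ⊓ perp Q x ≠ ⊥ := fun h => by
        rw [h, finrank_bot] at e1
        exact absurd hW.2 (by rw [← e1]; decide)
      obtain ⟨y, hy, hy0⟩ := exists_aniso_in Q (perp_nd Q h2 hW.1 hx hx0) hne
      have e2 := finrank_perp Q h2 hy hy0
      refine ⟨x, hx, y, hy.1, trivial, hx0, hy0, (mem_perp Q).1 hy.2,
        perp_nd Q h2 (perp_nd Q h2 hW.1 hx hx0) hy hy0, ?_⟩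
      obtain ⟨c, hc⟩ := hW.2
      exact ⟨c - 1, by omega⟩)
    ⟨hW₂ ▸ perp_nd Q h2 hn1 w.2 hw0, ⟨d - 1, by omega⟩⟩
  have hpl : IsPlanes Q (fun i : Fin (n + 1) × Fin 2 => Fin.cases (![v, (w : V)] i.2) (fun k => b (k, i.2)) i.1) := by
    refine ⟨fun i => ?_, fun i i' hne => ?_⟩
    · obtain ⟨k, s⟩ := i
      refine Fin.cases ?_ (fun k => ?_) k
      · fin_cases s <;> simpa
      · simpa using hb.1 (k, s)
    · obtain ⟨k, s⟩ := i
      obtain ⟨k', s'⟩ := i'
      have hvw : polar Q v (w : V) = 0 := (mem_perp Q).1 hwv.2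
      have hcross : ∀ j, polar Q v (b j) = 0 ∧ polar Q (w : V) (b j) = 0 := fun j => by
        have hm := hbW j
        rw [hW₂] at hm
        exact ⟨(mem_perp Q).1 (hW₁ ▸ hm.1 : b j ∈ (⊤ : Submodule F V) ⊓ perp Q v).2, (mem_perp Q).1 hm.2⟩
      induction k using Fin.cases with
      | zero =>
        induction k' using Fin.cases with
        | zero =>
          fin_cases s <;> fin_cases s' <;> simp_all [polar_comm]
        | succ k' => fin_cases s <;> simp [(hcross (k', s')).1, (hcross (k', s')).2]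
      | succ k =>
        induction k' using Fin.cases with
        | zero =>
          fin_cases s' <;> simp [polar_comm (f := ⇑Q) (b (k, s)), (hcross (k, s)).1, (hcross (k, s)).2]
        | succ k' =>
          simp only [Fin.cases_succ]
          exact hb.2 _ _ fun h => hne (by rw [Prod.ext_iff] at h ⊢; exact ⟨congrArg Fin.succ h.1, h.2⟩)
  obtain ⟨B, hB⟩ := planes_basis Q h2 hpl (by omega)
  refine ⟨n + 1, 0, B, ?_, ?_⟩
  · rw [show ⇑B = _ from funext hB]; exact hpl
  · rw [hB, hB]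
    simpa [hv, hw'] using hδ

/-- Two structures, differing by a reflection, normalised by a map with square `±1`. -/
theorem exists_adapted [FiniteDimensional F V] (h2 : (2 : F) ≠ 0) (hQ : PolarNondeg Q) {d : ℕ}
    (hd : finrank F V = 2 * d) (hd1 : 2 ≤ d) (x : qAut Q) {z : F} (hz : z = 1 ∨ z = -1)
    (hx : ∀ v, x.1 (x.1 v) = z • v) (hev : Even (finrank F (LinearMap.range (x.1.toLinearMap - LinearMap.id)))) :
    ∃ (v₀ : V) (hv₀ : Q v₀ ≠ 0) (S S' : QStr Q ν), (∀ v, (qRefl Q hv₀).1 (S.j v) = S'.j ((qRefl Q hv₀).1 v)) ∧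
      ∃ s : F, (s = 1 ∨ s = -1) ∧ (∀ v, x.1 (S.j v) = s • S.j (x.1 v)) ∧ ∀ v, x.1 (S'.j v) = s • S'.j (x.1 v) := by
  classical
  obtain ⟨X, hX⟩ : ∃ X : Module.End F V, X = x.1.toLinearMap := ⟨_, rfl⟩
  have hXa : ∀ v, X v = x.1 v := fun v => by rw [hX]; rfl
  have hp : ∀ u v, polar Q (X u) (X v) = polar Q u v := fun u v => by rw [hXa, hXa]; exact qAut_polar x u v
  have hXX : ∀ v, X (X v) = z • v := fun v => by rw [hXa, hXa, hx]
  have key : ∃ (n : ℕ) (s : F) (B : Basis (Fin n × Fin 2) F V), (s = 1 ∨ s = -1) ∧ IsPlanes Q B ∧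
      ((s = 1 ∧ ∀ k, ∃ σ : F, X (B (k, 0)) = σ • B (k, 0) ∧ X (B (k, 1)) = σ • B (k, 1)) ∨
       (s = -1 ∧ ∀ k, X (B (k, 0)) = B (k, 1) ∧ X (B (k, 1)) = -B (k, 0) ∧ Q (B (k, 1)) = Q (B (k, 0)))) := by
    rcases hz with rfl | rfl
    · have hinv : ∀ (σ : F), σ * σ = 1 → ∀ v, X v = σ • v → ∀ y, polar Q v y = 0 → polar Q v (X y) = 0 :=
        fun σ hσ v hv y hy => by
          have h := hp v y
          rw [hv, polar_smul_left, smul_eq_mul, hy] at h
          have hσ0 : σ ≠ 0 := fun h0 => by rw [h0, mul_zero] at hσ; exact zero_ne_one hσ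
          exact (mul_eq_zero.1 h).resolve_left hσ0
      refine (fun hpl => ?main1) (exists_planes Q h2
        (fun v w => ∃ σ : F, X v = σ • v ∧ X w = σ • w)
        (fun W => NdOn Q W ∧ (∀ y ∈ W, X y ∈ W) ∧ Even (finrank F W) ∧
          Even (finrank F (W ⊓ LinearMap.ker (X + 1) : Submodule F V))) (W := ⊤) (fun W hW h0 => ?step1)
        ⟨top_nd Q hQ, fun _ _ => trivial, by rw [finrank_top, hd]; exact even_two_mul d, ?init1⟩)
      case main1 =>
        obtain ⟨n, b, hb, hbR, -, hbn⟩ := hpl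
        obtain ⟨B, hB⟩ := planes_basis Q h2 hb (by rw [hbn, finrank_top])
        exact ⟨n, 1, B, Or.inl rfl, by rw [show ⇑B = b from funext hB]; exact hb,
          Or.inl ⟨rfl, fun k => by rw [hB, hB]; exact hbR k⟩⟩
      case step1 =>
        obtain ⟨hnd, hWX, hWe, hme⟩ := hW
        obtain ⟨U, σ, hσ, hU, hUW, hUX, hUnd, hU2, hUme⟩ : ∃ (U : Submodule F V) (σ : F), σ * σ = 1 ∧ U ≠ ⊥ ∧
            U ≤ W ∧ (∀ y ∈ U, X y = σ • y) ∧ NdOn Q U ∧ Even (finrank F U) ∧
            (U = W ⊓ LinearMap.ker (X + 1) ∨ W ⊓ LinearMap.ker (X + 1) = ⊥) := by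
          have hmem : ∀ y, y ∈ LinearMap.ker (X + 1) ↔ X y = (-1 : F) • y := fun y => by
            rw [LinearMap.mem_ker, LinearMap.add_apply, Module.End.one_apply, add_eq_zero_iff_eq_neg, neg_one_smul]
          by_cases hm : W ⊓ LinearMap.ker (X + 1) = ⊥
          · refine ⟨W, 1, by ring, h0, le_rfl, fun y hy => ?_, hnd, hWe, Or.inr hm⟩
            have hy' : X y - y ∈ W ⊓ LinearMap.ker (X + 1) := ⟨W.sub_mem (hWX y hy) hy, by
              rw [SetLike.mem_coe, hmem, map_sub, hXX, one_smul, neg_one_smul, neg_sub]⟩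
            rw [hm, Submodule.mem_bot, sub_eq_zero] at hy'
            rw [hy', one_smul]
          · refine ⟨_, -1, by ring, hm, inf_le_left, fun y hy => (hmem y).1 hy.2, fun a ha hall => ?_, hme, Or.inl rfl⟩
            refine hnd a ha.1 fun y hy => ?_
            have hm1 : y - X y ∈ W ⊓ LinearMap.ker (X + 1) := ⟨W.sub_mem hy (hWX y hy), by
              rw [SetLike.mem_coe, hmem, map_sub, hXX, one_smul, neg_one_smul, neg_sub]⟩
            have h := hall _ hm1
            have hpa := hp a y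
            rw [(hmem a).1 ha.2, polar_smul_left, smul_eq_mul] at hpa
            rw [polar_sub_right] at h
            have h3 : (2 : F) * polar Q a y = 0 := by linear_combination h - hpa
            exact (mul_eq_zero.1 h3).resolve_left h2
        obtain ⟨v, hv, hv0⟩ := exists_aniso_in Q hUnd hU
        have e1 := finrank_perp Q h2 hv hv0
        obtain ⟨w, hw, hw0⟩ := exists_aniso_in Q (perp_nd Q h2 hUnd hv hv0) fun h => by
          rw [h, finrank_bot] at e1
          exact absurd hU2 (by rw [← e1]; decide)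
        have e2 := finrank_perp Q h2 hw hw0
        have hwW : w ∈ W ⊓ perp Q v := ⟨hUW hw.1, hw.2⟩
        have f1 := finrank_perp Q h2 (hUW hv) hv0
        have f2 := finrank_perp Q h2 hwW hw0
        refine ⟨v, hUW hv, w, hUW hw.1, ⟨σ, hUX v hv, hUX w hw.1⟩, hv0, hw0, (mem_perp Q).1 hw.2,
          perp_nd Q h2 (perp_nd Q h2 hnd (hUW hv) hv0) hwW hw0, fun y hy => ⟨⟨hWX y hy.1.1, (mem_perp Q).2
            (hinv σ hσ v (hUX v hv) y ((mem_perp Q).1 hy.1.2))⟩, (mem_perp Q).2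
            (hinv σ hσ w (hUX w hw.1) y ((mem_perp Q).1 hy.2))⟩, ?_, ?_⟩
        · obtain ⟨c, hc⟩ := hWe
          exact ⟨c - 1, by omega⟩
        · rcases hUme with hUe | hbot
          · rw [show W ⊓ perp Q v ⊓ perp Q w ⊓ LinearMap.ker (X + 1) = U ⊓ perp Q v ⊓ perp Q w by
              rw [hUe]; ac_rfl]
            obtain ⟨c, hc⟩ := hU2
            exact ⟨c - 1, by omega⟩
          · rw [show W ⊓ perp Q v ⊓ perp Q w ⊓ LinearMap.ker (X + 1) =
              (W ⊓ LinearMap.ker (X + 1)) ⊓ perp Q v ⊓ perp Q w by ac_rfl, hbot]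
            rw [bot_inf_eq, bot_inf_eq, finrank_bot]; exact Even.zero
      case init1 =>
        have hrange : LinearMap.range (x.1.toLinearMap - LinearMap.id) = LinearMap.ker (X + 1) := by
          refine le_antisymm ?_ fun y hy => ?_
          · rintro _ ⟨y, rfl⟩
            rw [LinearMap.mem_ker, ← hX, LinearMap.add_apply, LinearMap.sub_apply, LinearMap.id_apply,
              Module.End.one_apply, map_sub, hXX, one_smul]
            abel
          · rw [LinearMap.mem_ker, LinearMap.add_apply, Module.End.one_apply, add_eq_zero_iff_eq_neg] at hy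
            refine ⟨(-(2 : F)⁻¹) • y, ?_⟩
            rw [← hX, LinearMap.sub_apply, LinearMap.id_apply, map_smul, hy, smul_neg, ← neg_smul, neg_neg,
              ← sub_smul, sub_neg_eq_add, ← two_mul, mul_inv_cancel₀ h2, one_smul]
        rw [top_inf_eq, ← hrange]
        exact hev
    · refine (fun hpl => ?main2) (exists_planes Q h2 (fun v w => w = X v)
        (fun W => NdOn Q W ∧ ∀ y ∈ W, X y ∈ W) (W := ⊤) (fun W hW h0 => ?step2) ⟨top_nd Q hQ, fun _ _ => trivial⟩)
      case main2 =>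
        obtain ⟨n, b, hb, hbR, -, hbn⟩ := hpl
        obtain ⟨B, hB⟩ := planes_basis Q h2 hb (by rw [hbn, finrank_top])
        refine ⟨n, -1, B, Or.inr rfl, by rw [show ⇑B = b from funext hB]; exact hb,
          Or.inr ⟨rfl, fun k => ?_⟩⟩
        rw [hB, hB, hbR k]
        exact ⟨rfl, by rw [hXX, neg_one_smul], by rw [hXa]; exact qAut_map x _⟩
      case step2 =>
        obtain ⟨hnd, hWX⟩ := hW
        obtain ⟨v, hv, hv0⟩ := exists_aniso_in Q hnd h0
        have hQX : Q (X v) ≠ 0 := by rw [hXa, qAut_map]; exact hv0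
        have hvX : polar Q v (X v) = 0 := by
          have h := hp v (X v)
          rw [hXX, neg_one_smul, polar_neg_right, polar_comm] at h
          have h3 : (2 : F) * polar Q v (X v) = 0 := by linear_combination -h
          exact (mul_eq_zero.1 h3).resolve_left h2
        refine ⟨v, hv, X v, hWX v hv, rfl, hv0, hQX, hvX,
          perp_nd Q h2 (perp_nd Q h2 hnd hv hv0) ⟨hWX v hv, (mem_perp Q).2 hvX⟩ hQX, ?_⟩
        rintro y ⟨⟨hy, hyv⟩, hyw⟩
        rw [SetLike.mem_coe, mem_perp] at hyv hyw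
        refine ⟨⟨hWX y hy, (mem_perp Q).2 ?_⟩, (mem_perp Q).2 (by rw [hp]; exact hyv)⟩
        have h := hp v (X y)
        rw [hXX, neg_one_smul, polar_neg_right, hyw, neg_zero] at h
        exact h.symm
  obtain ⟨n, s, B, hs, hB, hrel⟩ := key
  have hn : 0 < n := by
    have := Module.finrank_eq_card_basis B
    rw [Fintype.card_prod, Fintype.card_fin, Fintype.card_fin, hd] at this
    omega
  obtain ⟨α, β, hαβ⟩ : ∃ α β : Fin n → F, ∀ k, α k ^ 2 + β k ^ 2 * (Q (B (k, 1)) / Q (B (k, 0))) = ν := by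
    choose α β h using fun k => exists_coeff h2 (div_ne_zero (hB.1 (k, 1)) (hB.1 (k, 0))) ν
    exact ⟨α, β, h⟩
  obtain ⟨k₀, hk₀⟩ : ∃ k : Fin n, k.val = 0 := ⟨⟨0, hn⟩, rfl⟩
  obtain ⟨β', hβ'⟩ : ∃ β' : Fin n → F, ∀ k, β' k = if k = k₀ then -β k else β k := ⟨_, fun _ => rfl⟩
  obtain ⟨S, hS0, hS1⟩ := exists_str Q h2 B hB α β hαβ
  obtain ⟨S', hS0', hS1'⟩ := exists_str Q h2 B hB α β' (fun k => by rw [hβ']; split_ifs <;> simpa using hαβ k)
  have hcomm : ∀ (α β : Fin n → F) (S : QStr Q ν), (∀ k, S.j (B (k, 0)) = α k • B (k, 0) + β k • B (k, 1)) →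
      (∀ k, S.j (B (k, 1)) = (β k * (Q (B (k, 1)) / Q (B (k, 0)))) • B (k, 0) - α k • B (k, 1)) →
      ∀ v, x.1 (S.j v) = s • S.j (x.1 v) := by
    intro α β S h0 h1
    have hext : X ∘ₗ S.j = s • (S.j ∘ₗ X) := B.ext fun p => by
      obtain ⟨k, i⟩ := p
      rcases hrel with ⟨rfl, hk⟩ | ⟨rfl, hk⟩
      · obtain ⟨σ, hk0, hk1⟩ := hk k
        fin_cases i <;> simp only [Fin.zero_eta, Fin.mk_one, LinearMap.comp_apply, LinearMap.smul_apply, h0, h1,
          map_add, map_sub, map_smul, hk0, hk1] <;> module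
      · obtain ⟨hk0, hk1, hkQ⟩ := hk k
        fin_cases i <;> simp only [Fin.zero_eta, Fin.mk_one, LinearMap.comp_apply, LinearMap.smul_apply, h0, h1,
          map_add, map_sub, map_smul, map_neg, hk0, hk1, hkQ, div_self (hB.1 (k, 0)), mul_one] <;> module
    intro v
    have := congrArg (fun f : Module.End F V => f v) hext
    simpa [hXa] using this
  refine ⟨B (k₀, 0), hB.1 _, S, S', ?_, s, hs, hcomm α β S hS0 hS1, hcomm α β' S' hS0' hS1'⟩
  obtain ⟨R, hR⟩ : ∃ R : Module.End F V, R = (qRefl Q (hB.1 (k₀, 0))).1.toLinearMap := ⟨_, rfl⟩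
  have hR0 : R (B (k₀, 0)) = -B (k₀, 0) := by rw [hR]; exact qRefl_self Q _
  have hR1 : ∀ p, p ≠ (k₀, (0 : Fin 2)) → R (B p) = B p := fun p hp' => by
    rw [hR]; exact qRefl_fix Q _ (hB.2 _ _ hp')
  have hext : R ∘ₗ S.j = S'.j ∘ₗ R := B.ext fun p => by
    obtain ⟨k, i⟩ := p
    by_cases hk : k = k₀
    · subst hk
      have e1 : R (B (k, 1)) = B (k, 1) := hR1 _ (by simp)
      have eb : β' k = -β k := by rw [hβ', if_pos rfl]
      fin_cases i <;> simp only [Fin.zero_eta, Fin.mk_one, LinearMap.comp_apply, hS0, hS1, hS0', hS1',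
        map_add, map_sub, map_smul, map_neg, hR0, e1, eb] <;> module
    · have e : ∀ t, R (B (k, t)) = B (k, t) := fun t => hR1 _ (by simp [hk])
      have eb : β' k = β k := by rw [hβ', if_neg hk]
      fin_cases i <;> simp only [Fin.zero_eta, Fin.mk_one, LinearMap.comp_apply, hS0, hS1, hS0', hS1',
        map_add, map_sub, map_smul, e, eb]
  intro v
  have := congrArg (fun f : Module.End F V => f v) hext
  simpa [hR] using this

theorem mul_isSquare (h2 : (2 : F) ≠ 0) {a b : F} (ha : ¬ IsSquare a) (hb : ¬ IsSquare b) : IsSquare (a * b) := by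
  have ha0 : a ≠ 0 := fun h => ha ⟨0, by rw [h, mul_zero]⟩
  have hb0 : b ≠ 0 := fun h => hb ⟨0, by rw [h, mul_zero]⟩
  have hc : ringChar F ≠ 2 := fun h => h2 (by
    haveI : CharP F 2 := ringChar.of_eq h
    exact_mod_cast CharP.cast_eq_zero F 2)
  rw [FiniteField.isSquare_iff hc (mul_ne_zero ha0 hb0), mul_pow,
    (FiniteField.pow_dichotomy hc ha0).resolve_left fun h => ha ((FiniteField.isSquare_iff hc ha0).2 h),
    (FiniteField.pow_dichotomy hc hb0).resolve_left fun h => hb ((FiniteField.isSquare_iff hc hb0).2 h)]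
  norm_num

/-- Conjugation into the normaliser inside the commutator subgroup. -/
theorem exists_conj_commutator [FiniteDimensional F V] (h2 : (2 : F) ≠ 0) (hQ : PolarNondeg Q) {d : ℕ}
    (hd : finrank F V = 2 * d) (hd1 : 3 ≤ d) (hν : ¬ IsSquare ν) (S : QStr Q ν) (x : qAut Q)
    (hxc : x ∈ commutator (qAut Q)) {z : F} (hz : z = 1 ∨ z = -1) (hx : ∀ v, x.1 (x.1 v) = z • v) :
    ∃ g ∈ commutator (qAut Q), ∃ s : F, (s = 1 ∨ s = -1) ∧
      ∀ v, (g⁻¹ * x * g).1 (S.j v) = s • S.j ((g⁻¹ * x * g).1 v) := by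
  classical
  haveI : Finite V := Module.finite_of_finite F
  haveI := fact_nonsq (ν := ν) hν
  have hex : Fintype.card F ≠ 2 ∨ finrank F V ≠ 4 := Or.inr (by omega)
  obtain ⟨θ, -, hiff⟩ := CfsgLib.Classical.Spin.exists_spin Q hQ hex
  obtain ⟨v₀, hv₀, S₁, S₁', hflip, s, hs, hc, hc'⟩ :=
    exists_adapted (ν := ν) Q h2 hQ hd (by omega) x hz hx ((hiff x).1 hxc).1
  obtain ⟨n, k, B, hB, hns⟩ := exists_nonsq_planes Q h2 hQ hd (by omega)
  obtain ⟨α, β, hαβ⟩ : ∃ α β : Fin n → F, ∀ k, α k ^ 2 + β k ^ 2 * (Q (B (k, 1)) / Q (B (k, 0))) = ν := by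
    choose α β h using fun k => exists_coeff h2 (div_ne_zero (hB.1 (k, 1)) (hB.1 (k, 0))) ν
    exact ⟨α, β, h⟩
  obtain ⟨S₂, hS0, hS1⟩ := exists_str Q h2 B hB α β hαβ
  obtain ⟨c, hcd⟩ : ∃ c, c = qRefl Q (hB.1 (k, 0)) * qRefl Q (hB.1 (k, 1)) := ⟨_, rfl⟩
  have hcS : ∀ v, c.1 (S₂.j v) = S₂.j (c.1 v) := by
    have e : ∀ i, c.1 (B i) = if i.1 = k then -B i else B i := fun i => by
      obtain ⟨k', t⟩ := i
      rw [hcd, qAut_mul_apply]
      by_cases hk : k' = k
      · subst hk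
        rw [if_pos rfl]
        fin_cases t
        · simp only [Fin.zero_eta]
          rw [qRefl_fix Q _ (hB.2 _ _ (by simp)), qRefl_self]
        · simp only [Fin.mk_one]
          rw [qRefl_self, map_neg, qRefl_fix Q _ (hB.2 _ _ (by simp))]
      · rw [if_neg hk, qRefl_fix Q _ (hB.2 _ _ (by simp [hk])), qRefl_fix Q _ (hB.2 _ _ (by simp [hk]))]
    have hext : c.1.toLinearMap ∘ₗ S₂.j = S₂.j ∘ₗ c.1.toLinearMap := B.ext fun p => by
      obtain ⟨k', t⟩ := p
      by_cases hk : k' = k <;> fin_cases t <;> simp only [Fin.zero_eta, Fin.mk_one, LinearMap.comp_apply,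
        LinearEquiv.coe_coe, hS0, hS1, e, hk, if_true, if_false, map_add, map_sub, map_smul, map_neg] <;> module
    intro v
    exact congrArg (fun f : Module.End F V => f v) hext
  obtain ⟨gS, hgS⟩ := exists_conj_str S₂ h2 hQ hd S
  obtain ⟨g₁, hg₁⟩ := exists_conj_str S h2 hQ hd S₁
  have hu0 : Q (gS.1 (B (k, 0))) ≠ 0 := by rw [qAut_map]; exact hB.1 _
  have hu1 : Q (gS.1 (B (k, 1))) ≠ 0 := by rw [qAut_map]; exact hB.1 _
  have hc'' : gS * c * gS⁻¹ = qRefl Q hu0 * qRefl Q hu1 := by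
    rw [hcd, ← qRefl_conj Q gS (hB.1 (k, 0)) hu0, ← qRefl_conj Q gS (hB.1 (k, 1)) hu1]
    group
  have hcom : ∀ v, (qRefl Q hu0 * qRefl Q hu1).1 (S.j v) = S.j ((qRefl Q hu0 * qRefl Q hu1).1 v) := fun v => by
    obtain ⟨w, rfl⟩ := gS.1.surjective v
    have e : ∀ w, (qRefl Q hu0 * qRefl Q hu1).1 (gS.1 w) = gS.1 (c.1 w) := fun w => by
      rw [← hc'', qAut_mul_apply, qAut_mul_apply]
      congr 2
      exact gS.1.symm_apply_apply w
    rw [← hgS, e, hcS, hgS, e]
  obtain ⟨vs, hvs⟩ := CfsgLib.Classical.Spin.exists_refl_list Q hQ hex g₁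
  -- an intertwiner with even length
  obtain ⟨ws, T, hws, hT, hTc⟩ : ∃ (ws : List {v : V // Q v ≠ 0}) (T : QStr Q ν), Even ws.length ∧
      (∀ v, ((ws.map fun v => qRefl Q v.2).prod).1 (S.j v) = T.j (((ws.map fun v => qRefl Q v.2).prod).1 v)) ∧
      ∀ v, x.1 (T.j v) = s • T.j (x.1 v) := by
    rcases Nat.even_or_odd vs.length with he | ho
    · exact ⟨vs, S₁, he, fun v => by rw [← hvs]; exact hg₁ v, hc⟩
    · refine ⟨⟨v₀, hv₀⟩ :: vs, S₁', by rw [List.length_cons]; exact ho.add_one, fun v => ?_, hc'⟩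
      rw [List.map_cons, List.prod_cons, ← hvs, qAut_mul_apply, qAut_mul_apply, hg₁, hflip]
  have hfin : ∀ g : qAut Q, (∀ v, g.1 (S.j v) = T.j (g.1 v)) →
      ∀ v, (g⁻¹ * x * g).1 (S.j v) = s • S.j ((g⁻¹ * x * g).1 v) := fun g hg v => by
    rw [qAut_mul_apply, qAut_mul_apply, qAut_mul_apply, qAut_mul_apply, hg, hTc, map_smul]
    congr 1
    refine g.1.injective ?_
    rw [hg]
    show g.1 (g.1.symm _) = T.j (g.1 (g.1.symm _))
    rw [LinearEquiv.apply_symm_apply, LinearEquiv.apply_symm_apply]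
  by_cases hsq : IsSquare (ws.map fun v => Q v.1).prod
  · exact ⟨_, (CfsgLib.Classical.Spin.mem_commutator_prod_iff Q hQ hex ws).2 ⟨hws, hsq⟩, s, hs, hfin _ hT⟩
  · refine ⟨((ws ++ [(⟨_, hu0⟩ : {v : V // Q v ≠ 0}), ⟨_, hu1⟩]).map fun v => qRefl Q v.2).prod,
      (CfsgLib.Classical.Spin.mem_commutator_prod_iff Q hQ hex _).2 ⟨?_, ?_⟩, s, hs, hfin _ fun v => ?_⟩
    · rw [List.length_append]
      exact hws.add even_two
    · rw [List.map_append, List.prod_append]
      simp only [List.map_cons, List.map_nil, List.prod_cons, List.prod_nil, mul_one, qAut_map]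
      exact mul_isSquare h2 hsq hns
    · simp only [List.map_append, List.prod_append, List.map_cons, List.map_nil, List.prod_cons, List.prod_nil, mul_one]
      rw [qAut_mul_apply, hcom, hT, qAut_mul_apply]
      rfl

end CfsgLib.Classical.Elusive.OrthField
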