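/-
Elements commuting with no self-adjoint square root of a non-square.
-/
import Cfsg.Agent.Lib.Classical.Elusive.OrthFieldExtStruct
import Cfsg.Agent.Lib.Classical22.PrimeOrderUnitaryTypeMain

set_option autoImplicit false

namespace CfsgLib.Classical.Elusive.OrthField

open Module Polynomial CfsgLib.Classical CfsgLib.Classical.QuadSign CfsgLib.Classical22.PrimeMaps
  CfsgLib.Classical22.PrimeMaps.Symp

universe u

variable {F : Type u} [Field F] {V : Type u} [AddCommGroup V] [Module F V] [FiniteDimensional F V]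
  {Q : QuadraticForm F V} {ν : F}

theorem not_inv_odd (hν : ¬ IsSquare ν) (S : QStr Q ν) {W : Submodule F V} (hW : ∀ w ∈ W, S.j w ∈ W)
    (hodd : Odd (finrank F W)) : False := by
  have hν0 : ν ≠ 0 := fun h => hν ⟨0, by rw [h, mul_zero]⟩
  have h1 : S.j.restrict hW ∘ₗ S.j.restrict hW = ν • (LinearMap.id : W →ₗ[F] W) :=
    LinearMap.ext fun w => Subtype.ext (by simp [S.sq])
  have h2 := congrArg LinearMap.det h1
  rw [LinearMap.det_comp, LinearMap.det_smul, LinearMap.det_id, mul_one] at h2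
  obtain ⟨k, hk⟩ := hodd
  rw [hk, pow_succ, pow_mul] at h2
  refine hν ⟨LinearMap.det (S.j.restrict hW) / ν ^ k, ?_⟩
  field_simp
  linear_combination -h2

variable [Fintype F]

theorem no_str_commutes {r e : ℕ} [hr : Fact r.Prime] (hr2 : r ≠ 2) (hrF : (r : F) ≠ 0) (h2 : (2 : F) ≠ 0)
    (he : e = orderOf (Fintype.card F : ZMod r)) (he0 : 0 < e) (h4 : ¬ 4 ∣ e) (hQ : PolarNondeg Q)
    {f : Module.End F V} (hf : ∀ v, (f ^ r) v = v) (hfQ : ∀ v, Q (f v) = Q v) (hf1 : f ≠ 1)
    (hdim : finrank F (LinearMap.range (f - 1)) ≤ blockDim e) (hν : ¬ IsSquare ν) (S : QStr Q ν)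
    (hfJ : ∀ v, f (S.j v) = S.j (f v)) : False := by
  classical
  obtain ⟨B, hBd⟩ : ∃ B, B = QuadraticMap.polarBilin Q := ⟨_, rfl⟩
  have hBp : ∀ u v, B u v = QuadraticMap.polar Q u v := fun u v => by rw [hBd]; rfl
  have hB : ∀ u v, B (f u) (f v) = B u v := fun u v => by
    rw [hBp, hBp, QuadraticMap.polar, QuadraticMap.polar, ← map_add, hfQ, hfQ, hfQ]
  have hsym : ∀ u v, B u v = B v u := fun u v => by rw [hBp, hBp, QuadraticMap.polar_comm]
  have hν0 : ν ≠ 0 := fun h => hν ⟨0, by rw [h, mul_zero]⟩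
  have hJinj : ∀ v, S.j v = 0 → v = 0 := fun v hv => by
    have h := S.sq v
    rw [hv, map_zero] at h
    exact (smul_eq_zero.1 h.symm).resolve_left hν0
  obtain ⟨W, hWdef⟩ : ∃ W, W = LinearMap.range (f - 1) := ⟨_, rfl⟩
  rw [← hWdef] at hdim
  have hWmem : ∀ w, w ∈ W ↔ ∃ u, f u - u = w := fun w => by rw [hWdef]; exact Iff.rfl
  have hWinv : Inv f W := fun w hw => by
    obtain ⟨u, rfl⟩ := (hWmem w).1 hw
    exact (hWmem _).2 ⟨f u, by rw [map_sub]⟩
  have hWJ : ∀ w ∈ W, S.j w ∈ W := fun w hw => by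
    obtain ⟨u, rfl⟩ := (hWmem w).1 hw
    exact (hWmem _).2 ⟨S.j u, by rw [hfJ, map_sub]⟩
  have horth : ∀ w ∈ W, ∀ y, f y = y → B w y = 0 := fun w hw y hy => by
    obtain ⟨u, rfl⟩ := (hWmem w).1 hw
    rw [map_sub, LinearMap.sub_apply, ← hB u y, hy, sub_self]
  have hWfix : ∀ w ∈ W, f w = w → w = 0 := fun w hw hw' => by
    obtain ⟨u, rfl⟩ := (hWmem w).1 hw
    have hn : ∀ n : ℕ, (f ^ n) u = u + (n : F) • (f u - u) := fun n => by
      induction n with
      | zero => simp
      | succ n ih => rw [pow_succ', Module.End.mul_apply, ih, map_add, map_smul, hw', Nat.cast_succ]; module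
    have h := hn r
    rw [hf, left_eq_add, smul_eq_zero] at h
    exact h.resolve_left hrF
  have hW0 : W ≠ ⊥ := fun h => hf1 (LinearMap.ext fun v => by
    have h' : f v - v ∈ W := (hWmem _).2 ⟨v, rfl⟩
    rw [h, Submodule.mem_bot, sub_eq_zero] at h'
    simpa using h')
  have hsup : W ⊔ fixed f = ⊤ := by
    refine Submodule.eq_top_of_finrank_eq ?_
    have h := Submodule.finrank_sup_add_finrank_inf_eq W (fixed f)
    rw [show W ⊓ fixed f = ⊥ from eq_bot_iff.2 fun w hw => (Submodule.mem_bot F).2 (hWfix w hw.1 (mem_fixed.1 hw.2)),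
      finrank_bot, add_zero] at h
    rw [h, hWdef]
    exact LinearMap.finrank_range_add_finrank_ker (f - 1)
  have hWn : ∀ u ∈ W, (∀ v ∈ W, B u v = 0) → u = 0 := fun u hu h => hQ u fun v => by
    obtain ⟨a, ha, b, hb, rfl⟩ := Submodule.mem_sup.1 (hsup ▸ (Submodule.mem_top : v ∈ (⊤ : Submodule F V)))
    rw [← hBp, map_add, h a ha, horth u hu b (mem_fixed.1 hb), add_zero]
  obtain ⟨T, hT, hTW, hT0, hTm⟩ := exists_simple f hWinv hW0
  have hTd : finrank F T = e :=
    he ▸ simple_dim_order f hf hT hT0 hTm hrF fun w hw => hWfix w (hTW hw)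
  obtain ⟨P, hP, hPr, hPd, hPT⟩ := simple_minpoly f hT hT0 hTm
    (A := X ^ r - 1) (by simpa using X_pow_sub_C_ne_zero hr.out.pos (1 : F)) (fun w _ => by simp [hf])
  rw [hTd] at hPd
  obtain ⟨s, hs, hs0⟩ := T.exists_mem_ne_zero_of_ne_bot hT0
  have hcomm : ∀ (a : F[X]) v, aeval f a (S.j v) = S.j (aeval f a v) := fun a => by
    induction a using Polynomial.induction_on with
    | C c => intro v; simp
    | add a b ha hb => intro v; simp [ha, hb]
    | monomial n c ih =>
      intro v
      rw [show Polynomial.C c * X ^ (n + 1) = (Polynomial.C c * X ^ n) * X by ring, map_mul _ _ X, aeval_X,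
        Module.End.mul_apply, hfJ, ih, Module.End.mul_apply]
  rcases Nat.even_or_odd e with hev | hod
  · have hWT : T = W := Submodule.eq_of_le_of_finrank_le hTW (by
      rw [hTd]; rwa [blockDim, if_pos hev] at hdim)
    obtain ⟨m, hm⟩ := hev
    have hmodd : Odd m := Nat.not_even_iff_odd.1 fun ⟨g, hg⟩ => h4 ⟨g, by omega⟩
    have hJT : ∀ w ∈ T, S.j w ∈ T := hWT ▸ hWJ
    obtain ⟨Z, hZ⟩ : ∃ Z : Submodule F V, ∀ z, z ∈ Z ↔ ∃ a : F[X], aeval f a s = z :=
      ⟨LinearMap.range ((LinearMap.applyₗ s).comp (aeval f : F[X] →ₐ[F] _).toLinearMap), fun z => Iff.rfl⟩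
    have hZT : Z = T := hTm _ (fun z hz => by
        obtain ⟨a, rfl⟩ := (hZ z).1 hz
        exact (hZ _).2 ⟨X * a, by rw [map_mul, aeval_X, Module.End.mul_apply]⟩)
      (fun z hz => by obtain ⟨a, rfl⟩ := (hZ z).1 hz; exact inv_aeval hT a s hs)
      fun h => hs0 ((Submodule.mem_bot F).1 (h ▸ (hZ s).2 ⟨1, by rw [map_one, Module.End.one_apply]⟩))
    obtain ⟨g, hg⟩ := (hZ (S.j s)).1 (hZT.ge (hJT s hs))
    have hgJ : ∀ x ∈ T, aeval f g x = S.j x := fun x hx => by
      obtain ⟨a, rfl⟩ := (hZ x).1 (hZT.ge hx)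
      rw [← hcomm, ← hg, ← Module.End.mul_apply, ← map_mul, mul_comm, map_mul, Module.End.mul_apply]
    have hpowJ : ∀ n : ℕ, ∀ x ∈ T, (S.j ^ n) x = aeval f (g ^ n) x := fun n => by
      induction n with
      | zero => intro x _; simp
      | succ n ih =>
        intro x hx
        rw [pow_succ' S.j, Module.End.mul_apply, ih x hx, ← hgJ _ (inv_aeval hT _ x hx), pow_succ' g, map_mul,
          Module.End.mul_apply]
    have hJJ : S.j * S.j = algebraMap F (Module.End F V) ν := LinearMap.ext fun v => by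
      rw [Module.End.mul_apply, S.sq, Module.algebraMap_end_apply]
    have hfh := pow_half hf he hm (by omega)
    have hgr : ∀ x ∈ T, aeval (f ^ (r - 1)) g x = -S.j x := fun x hx => by
      rw [← hfh, aeval_pow_card, ← hpowJ _ x hx, UType.pow_card_root h2 hν hJJ m, hmodd.neg_one_pow,
        LinearMap.smul_apply, neg_one_smul]
    refine hs0 (hJinj _ (hWn _ (hWJ s (hTW hs)) fun y hy => ?_))
    have h1 := adjoint hr.out.pos hf hB g s y
    rw [hgJ s hs, hgr y (hWT.ge hy), map_neg] at h1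
    have h3 : B (S.j s) y = B s (S.j y) := by rw [hBp, hBp]; exact S.adj s y
    have h5 : (2 : F) * B (S.j s) y = 0 := by linear_combination h1 + h3
    exact (mul_eq_zero.1 h5).resolve_left h2
  · by_cases hTJ : ∀ w ∈ T, S.j w ∈ T
    · exact not_inv_odd hν S hTJ (hTd.symm ▸ hod)
    obtain ⟨T', hT'def⟩ : ∃ T', T' = T.map S.j := ⟨_, rfl⟩
    have hT'd : finrank F T' = e := by
      rw [hT'def, (Submodule.equivMapOfInjective S.j (fun a b h => sub_eq_zero.1 (hJinj _ (by rw [map_sub, h, sub_self])))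
        T).symm.finrank_eq, hTd]
    have hne : T ⊓ T' = ⊥ := by
      by_contra hne
      have hi : Inv f (T ⊓ T') := fun w hw => ⟨hT w hw.1, by
        obtain ⟨u, hu, rfl⟩ := hT'def ▸ hw.2
        rw [hfJ, hT'def]; exact ⟨f u, hT u hu, rfl⟩⟩
      have heq := Submodule.eq_of_le_of_finrank_eq (inf_eq_left.1 (hTm _ hi inf_le_left hne) : T ≤ T') (by rw [hTd, hT'd])
      exact hTJ fun w hw => by rw [heq, hT'def]; exact Submodule.mem_map_of_mem hw
    have hT'W : T' ≤ W := by
      rw [hT'def]; rintro _ ⟨u, hu, rfl⟩; exact hWJ u (hTW hu)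
    have hTT : T ⊔ T' = W := by
      refine Submodule.eq_of_le_of_finrank_le (sup_le hTW hT'W) ?_
      have h := Submodule.finrank_sup_add_finrank_inf_eq T T'
      rw [hne, finrank_bot, add_zero, hTd, hT'd] at h
      rw [blockDim, if_neg (Nat.not_even_iff_odd.2 hod)] at hdim
      omega
    have hPW : ∀ w ∈ W, aeval f P w = 0 := fun w hw => by
      obtain ⟨a, ha, b, hb, rfl⟩ := Submodule.mem_sup.1 (hTT.ge hw)
      rw [hT'def] at hb
      obtain ⟨c, hc, rfl⟩ := hb
      rw [map_add, hPT a ha, hcomm, hPT c hc, map_zero, add_zero]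
    have hP' : ∀ w ∈ W, aeval (f ^ (r - 1)) P w = 0 := fun w hw => by
      have hmem : aeval (f ^ (r - 1)) P w ∈ W := inv_aeval (pow_inv hWinv (r - 1)) P w hw
      refine hWn _ hmem fun x hx => ?_
      rw [hsym, ← adjoint hr.out.pos hf hB, hPW x hx, map_zero, LinearMap.zero_apply]
    have hPi : P ∣ P.comp (X ^ (r - 1)) := by
      by_contra hnd
      obtain ⟨u, v, huv⟩ := (hP.coprime_iff_not_dvd).2 hnd
      have h := congrArg (fun g : F[X] => aeval f g s) huv
      simp only [map_add, map_mul, map_one, LinearMap.add_apply, Module.End.mul_apply, Module.End.one_apply,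
        hPT s hs, aeval_comp, aeval_X_pow, hP' s (hTW hs), map_zero, add_zero] at h
      exact hs0 h.symm
    obtain ⟨R, hR⟩ := UType.eq_one_of_self_recip (r := r) hP hPd hod hr2 hPr hPi
    have h := congrArg (fun g : F[X] => aeval f g s) hR
    rw [mul_comm] at h
    simp only [map_sub, aeval_X, map_one, LinearMap.sub_apply, Module.End.one_apply, map_mul, Module.End.mul_apply,
      hPT s hs, map_zero] at h
    exact hs0 (hWfix s (hTW hs) (sub_eq_zero.1 h))

omit [Fintype F] in
/-- The long root element of two orthogonal singular vectors commutes with no structure. -/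
theorem root_no_str (h2 : (2 : F) ≠ 0) (hQ : PolarNondeg Q) {a b : V} (hli : LinearIndependent F ![a, b])
    (hν : ¬ IsSquare ν) (S : QStr Q ν)
    (hfJ : ∀ u, S.j (u + (QuadraticMap.polar Q u b • a - QuadraticMap.polar Q u a • b)) =
      S.j u + (QuadraticMap.polar Q (S.j u) b • a - QuadraticMap.polar Q (S.j u) a • b)) : False := by
  rw [LinearIndependent.pair_iff] at hli
  have key : ∀ u, QuadraticMap.polar Q u b • S.j a - QuadraticMap.polar Q u a • S.j b =
      QuadraticMap.polar Q u (S.j b) • a - QuadraticMap.polar Q u (S.j a) • b := fun u => by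
    have h := hfJ u
    rw [map_add, add_right_inj, map_sub, map_smul, map_smul, S.adj, S.adj] at h
    exact h
  obtain ⟨B, hB⟩ : ∃ B, B = QuadraticMap.polarBilin Q := ⟨_, rfl⟩
  obtain ⟨L, hL⟩ : ∃ L : V →ₗ[F] F × F, ∀ u, L u = (QuadraticMap.polar Q u a, QuadraticMap.polar Q u b) :=
    ⟨(B.flip a).prod (B.flip b), fun u => by rw [hB]; rfl⟩
  have hsurj : LinearMap.range L = ⊤ := by
    rw [← Subspace.dualAnnihilator_inj, Submodule.dualAnnihilator_top, eq_bot_iff]
    intro φ hφ
    rw [Submodule.mem_dualAnnihilator] at hφ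
    have h0 : (φ (1, 0)) • a + (φ (0, 1)) • b = 0 := hQ _ fun u => by
      have h := hφ _ (LinearMap.mem_range_self L u)
      rw [hL, show ((QuadraticMap.polar Q u a, QuadraticMap.polar Q u b) : F × F) =
        QuadraticMap.polar Q u a • ((1 : F), (0 : F)) + QuadraticMap.polar Q u b • ((0 : F), (1 : F)) by simp,
        map_add, map_smul, map_smul, smul_eq_mul, smul_eq_mul] at h
      rw [QuadraticMap.polar_add_left, QuadraticMap.polar_smul_left, QuadraticMap.polar_smul_left,
        QuadraticMap.polar_comm _ a, QuadraticMap.polar_comm _ b, smul_eq_mul, smul_eq_mul]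
      linear_combination h
    obtain ⟨e1, e2⟩ := hli _ _ h0
    rw [Submodule.mem_bot]
    exact LinearMap.prod_ext (LinearMap.ext_ring (by simpa using e1)) (LinearMap.ext_ring (by simpa using e2))
  obtain ⟨u₁, hu₁⟩ := LinearMap.range_eq_top.1 hsurj (0, 1)
  obtain ⟨u₂, hu₂⟩ := LinearMap.range_eq_top.1 hsurj (1, 0)
  rw [hL, Prod.mk.injEq] at hu₁ hu₂
  have k1 := key u₁
  have k2 := key u₂
  rw [hu₁.1, hu₁.2, one_smul, zero_smul, sub_zero] at k1
  rw [hu₂.1, hu₂.2, one_smul, zero_smul, zero_sub, neg_eq_iff_eq_neg, neg_sub] at k2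
  obtain ⟨A, C, hja⟩ : ∃ A C : F, S.j a = A • a + C • b := ⟨_, _, by rw [k1, sub_eq_add_neg, ← neg_smul]⟩
  obtain ⟨D, E, hjb⟩ : ∃ D E : F, S.j b = D • b + E • a := ⟨_, _, by rw [k2, sub_eq_add_neg, ← neg_smul]⟩
  have k3 : ∀ u, (QuadraticMap.polar Q u b * A - QuadraticMap.polar Q u a * E -
      (D * QuadraticMap.polar Q u b + E * QuadraticMap.polar Q u a)) = 0 ∧
      (QuadraticMap.polar Q u b * C - QuadraticMap.polar Q u a * D +
      (A * QuadraticMap.polar Q u a + C * QuadraticMap.polar Q u b)) = 0 := fun u => by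
    have h := key u
    rw [hja, hjb, QuadraticMap.polar_add_right, QuadraticMap.polar_add_right, QuadraticMap.polar_smul_right,
      QuadraticMap.polar_smul_right, QuadraticMap.polar_smul_right, QuadraticMap.polar_smul_right] at h
    simp only [smul_eq_mul] at h
    refine hli _ _ ?_
    rw [← sub_eq_zero] at h
    rw [← h]
    module
  have e1 := k3 u₁
  rw [hu₁.1, hu₁.2] at e1
  have hC : C = 0 := by
    have : (2 : F) * C = 0 := by linear_combination e1.2
    exact (mul_eq_zero.1 this).resolve_left h2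
  rw [hC, zero_smul, add_zero] at hja
  have ha : a ≠ 0 := fun h => one_ne_zero (α := F) (hli 1 0 (by rw [h]; simp)).1
  have h := S.sq a
  rw [hja, map_smul, hja, smul_smul] at h
  exact hν ⟨A, (smul_left_injective F ha h).symm⟩

/-- An element of order `p` commuting with no structure. -/
theorem exists_root_elt {p : ℕ} [Fact p.Prime] [CharP F p] (hQ : PolarNondeg Q) (hn : 6 ≤ finrank F V) :
    ∃ (g : qAut Q) (a b : V), g ^ p = 1 ∧ g ≠ 1 ∧ LinearIndependent F ![a, b] ∧
      ∀ u, g.1 u = u + (QuadraticMap.polar Q u b • a - QuadraticMap.polar Q u a • b) := by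
  classical
  haveI : Finite V := Module.finite_of_finite F
  obtain ⟨u, hu0, hu⟩ := exists_singular Q hQ (by omega)
  obtain ⟨M, E, hM, hMd, hE⟩ := exists_split Q hQ hu0 hu
  obtain ⟨w, hw0, hw⟩ := exists_singular (Q.comp M.subtype) hM (by omega)
  obtain ⟨a, ha⟩ : ∃ a, a = E ((1, 0), 0) := ⟨_, rfl⟩
  obtain ⟨b, hb⟩ : ∃ b, b = E ((0, 0), w) := ⟨_, rfl⟩
  have hw' : Q (w : V) = 0 := by simpa using hw
  have qa : Q a = 0 := by rw [ha, hE]; simp [hypSum_apply]
  have qb : Q b = 0 := by rw [hb, hE]; simp [hypSum_apply, hw']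
  have pab : QuadraticMap.polar Q a b = 0 := by
    rw [QuadraticMap.polar, qa, qb, ha, hb, ← map_add, hE]
    simp [hypSum_apply, hw']
  have hli : LinearIndependent F ![a, b] := by
    rw [LinearIndependent.pair_iff]
    intro x y h
    rw [ha, hb, ← map_smul, ← map_smul, ← map_add, E.map_eq_zero_iff] at h
    have h1 := congrArg (fun t : (F × F) × M => t.1.1) h
    have h2 := congrArg (fun t : (F × F) × M => t.2) h
    simp at h1 h2
    exact ⟨h1, h2.resolve_right hw0⟩
  obtain ⟨N, hN⟩ : ∃ N : Module.End F V, ∀ u, N u = QuadraticMap.polar Q u b • a - QuadraticMap.polar Q u a • b :=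
    ⟨((QuadraticMap.polarBilin Q).flip b).smulRight a - ((QuadraticMap.polarBilin Q).flip a).smulRight b, fun u => rfl⟩
  have hNN : ∀ u, N (N u) = 0 := fun u => by
    have pa : QuadraticMap.polar Q a a = 0 := by rw [quad_polar_self, qa, mul_zero]
    have pb : QuadraticMap.polar Q b b = 0 := by rw [quad_polar_self, qb, mul_zero]
    rw [hN (N u), hN u]
    simp only [QuadraticMap.polar_sub_left, QuadraticMap.polar_smul_left, pa, pb, pab,
      QuadraticMap.polar_comm _ b a, smul_zero, sub_zero, zero_smul]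
  obtain ⟨t, ht⟩ : ∃ t : V ≃ₗ[F] V, ∀ u, t u = u + N u :=
    ⟨LinearEquiv.ofLinearMap (1 + N) (1 - N) (LinearMap.ext fun u => by simp [map_sub, hNN])
      (LinearMap.ext fun u => by simp [map_add, hNN]), fun u => rfl⟩
  have htQ : ∀ u, Q (t u) = Q u := fun u => by
    rw [ht, quad_add, hN, QuadraticMap.polar_sub_right, QuadraticMap.polar_smul_right, QuadraticMap.polar_smul_right,
      sub_eq_add_neg (_ • a) (_ • b), ← neg_smul, quad_add, quad_smul, quad_smul, qa, qb,
      QuadraticMap.polar_smul_left, QuadraticMap.polar_smul_right, pab]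
    simp only [smul_eq_mul]
    ring
  refine ⟨⟨t, htQ⟩, a, b, qAut_ext fun v => ?_, fun h => ?_, hli, fun v => by rw [← hN]; exact ht v⟩
  · have hpow : ∀ n : ℕ, ∀ v, ((⟨t, htQ⟩ : qAut Q) ^ n).1 v = v + (n : F) • N v := fun n => by
      induction n with
      | zero => intro v; simp
      | succ n ih =>
        intro v
        rw [pow_succ', qAut_mul_apply, ih]
        show t (v + (n : F) • N v) = _
        rw [ht, map_add, map_smul, hNN, smul_zero, add_zero, Nat.cast_succ]
        module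
    rw [hpow, CharP.cast_eq_zero F p, zero_smul, add_zero]
    rfl
  · have hz : ∀ v, N v = 0 := fun v => by
      have h' : t v = v := congrArg (fun g : qAut Q => g.1 v) h
      rwa [ht, add_eq_left] at h'
    refine (LinearIndependent.pair_iff.1 hli 1 0 ?_).1 |> one_ne_zero
    rw [one_smul, zero_smul, add_zero]
    refine hQ a fun v => ?_
    have h1 := hz v
    rw [hN, sub_eq_add_neg, ← neg_smul] at h1
    have h3 := (LinearIndependent.pair_iff.1 hli _ _ h1).2
    rw [neg_eq_zero] at h3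
    rw [QuadraticMap.polar_comm]
    exact h3

end CfsgLib.Classical.Elusive.OrthField
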