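/-
Elements of prime order and the normalisers of quadratic extension fields with self-adjoint elements.
-/
import Cfsg.Agent.Lib.Classical.Elusive.OrthFieldExtIndex
import Cfsg.Agent.Lib.Classical.Elusive.OrthFieldExtWitness
import Cfsg.Agent.Lib.Classical.Elusive.OrthFieldExtInvol
import Cfsg.Agent.Lib.Classical.SpinorMatrix
import Cfsg.Agent.Lib.Classical22.PrimeOrderFieldTypeBasic
import Cfsg.Agent.Lib.Classical.QuadPOmega

set_option autoImplicit false

namespace CfsgLib.Classical.Elusive.OrthField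

open Matrix CfsgLib.Classical Cfsg
open scoped MatrixGroups

universe u

variable {F : Type u} [Field F] {ι : Type} [Fintype ι] [DecidableEq ι]

theorem exists_gen_struct [Nonempty ι] (h2 : (2 : F) ≠ 0) {K : Subalgebra F (Matrix ι ι F)}
    (hK : Cfsg.Geo.IsFieldSubalgebra 2 K) :
    ∃ (ν : F) (j : Matrix ι ι F), ¬ IsSquare ν ∧ j ∈ K ∧ j * j = ν • 1 ∧ ∀ y ∈ K, ∃ a b : F, y = a • 1 + b • j := by
  obtain ⟨k, hk, hks⟩ := CfsgLib.Classical22.PrimeMaps.FType.exists_nonscalar hK le_rfl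
  haveI : Module.Finite F K := Module.finite_of_finrank_eq_succ (n := 1) hK.finrank_eq
  have hspan : ∀ y ∈ K, ∃ a b : F, y = a • 1 + b • k := by
    intro y hy
    have hli : LinearIndependent F ![(1 : K), ⟨k, hk⟩] := by
      rw [LinearIndependent.pair_iff]
      intro a b hab
      have h' := congrArg Subtype.val hab
      simp at h'
      by_cases hb : b = 0
      · subst hb
        simp at h'
        exact ⟨h', rfl⟩
      · refine absurd ?_ (hks (-(b⁻¹ * a)))
        have h2' := congrArg (b⁻¹ • ·) h'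
        simp only [smul_add, smul_smul, inv_mul_cancel₀ hb, one_smul, smul_zero] at h2'
        rw [neg_smul]
        exact eq_neg_of_add_eq_zero_right h2'
    have hsp := hli.span_eq_top_of_card_eq_finrank (by rw [hK.finrank_eq]; rfl)
    have hy' : (⟨y, hy⟩ : K) ∈ Submodule.span F ({1, ⟨k, hk⟩} : Set K) := by
      rw [show ({1, ⟨k, hk⟩} : Set K) = Set.range ![(1 : K), ⟨k, hk⟩] by simp [Set.pair_comm], hsp]
      trivial
    obtain ⟨a, b, hab⟩ := Submodule.mem_span_pair.1 hy'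
    exact ⟨a, b, by simpa using (congrArg Subtype.val hab).symm⟩
  obtain ⟨c, t, hkk⟩ := hspan _ (K.mul_mem hk hk)
  obtain ⟨j, hj⟩ : ∃ j, j = k - (t / 2) • (1 : Matrix ι ι F) := ⟨_, rfl⟩
  have hjK : j ∈ K := hj ▸ K.sub_mem hk (K.smul_mem K.one_mem _)
  have hjj : j * j = (c + t * t / 4) • (1 : Matrix ι ι F) := by
    have h4 : (4 : F) ≠ 0 := by rw [show (4 : F) = 2 * 2 by norm_num]; exact mul_ne_zero h2 h2
    rw [hj, sub_mul, mul_sub, mul_sub, hkk, smul_mul_assoc, smul_mul_assoc, mul_smul_comm, one_mul, one_mul, mul_one,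
      smul_smul, show (t / 2) * (t / 2) = t * t / 4 by field_simp; ring, add_smul]
    rw [show t • k = (t / 2) • k + (t / 2) • k by rw [← add_smul]; congr 1; field_simp; ring]
    abel
  refine ⟨_, j, ?_, hjK, hjj, fun y hy => ?_⟩
  · rintro ⟨s, hs⟩
    have h0 : (j - s • (1 : Matrix ι ι F)) * (j + s • 1) = 0 := by
      rw [sub_mul, mul_add, mul_add, hjj, hs, mul_smul_comm, mul_one, smul_mul_assoc, one_mul, smul_mul_assoc, one_mul,
        smul_smul]
      abel
    by_cases h : j - s • (1 : Matrix ι ι F) = 0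
    · refine hks (s + t / 2) ?_
      rw [sub_eq_zero, hj, sub_eq_iff_eq_add] at h
      rw [h, add_smul]
    · have h1 := CfsgLib.Classical22.PrimeMaps.FType.no_zero_div hK
        (K.sub_mem hjK (K.smul_mem K.one_mem _)) h0 h
      refine hks (-s + t / 2) ?_
      rw [add_eq_zero_iff_eq_neg, hj, sub_eq_iff_eq_add] at h1
      rw [h1, add_smul, neg_smul]
  · obtain ⟨a, b, rfl⟩ := hspan y hy
    refine ⟨a + b * (t / 2), b, ?_⟩
    rw [hj, smul_sub, smul_smul, add_smul]
    abel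

theorem mem_normalizer_of_sign {K : Subalgebra F (Matrix ι ι F)} {j : Matrix ι ι F} (hjK : j ∈ K)
    (hspan : ∀ y ∈ K, ∃ a b : F, y = a • 1 + b • j) {g : GL ι F} {s : F} (hs : s = 1 ∨ s = -1)
    (hg : (g : Matrix ι ι F) * j = s • (j * (g : Matrix ι ι F))) : g ∈ Cfsg.Geo.subalgebraNormalizer K := by
  have h1 : ∀ a b : F, g.1 * (a • 1 + b • j) * (g⁻¹).1 = a • 1 + (b * s) • j := fun a b => by
    rw [mul_add, add_mul, mul_smul_comm, mul_one, smul_mul_assoc, Units.mul_inv, mul_smul_comm, smul_mul_assoc, hg,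
      smul_mul_assoc, mul_assoc, Units.mul_inv, mul_one, smul_smul]
  intro k
  constructor
  · intro hk
    obtain ⟨a, b, rfl⟩ := hspan k hk
    rw [h1]
    exact K.add_mem (K.smul_mem K.one_mem _) (K.smul_mem hjK _)
  · intro hk
    obtain ⟨a, b, hab⟩ := hspan _ hk
    have hss : b * s * s = b := by rcases hs with rfl | rfl <;> ring
    have hk' : k = a • 1 + (b * s) • j := by
      have h3 : g.1 * (a • 1 + (b * s) • j) * (g⁻¹).1 = g.1 * k * (g⁻¹).1 := by rw [h1, hss, hab]
      exact ((g.mul_right_inj).1 ((g⁻¹).mul_left_inj.1 h3)).symm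
    rw [hk']
    exact K.add_mem (K.smul_mem K.one_mem _) (K.smul_mem hjK _)

variable [Fintype F] (Q : QuadraticForm F (ι → F))

/-- When the index is divisible by `r`, the extension group misses part of the `r`-part. -/
theorem val_lt (h2 : (2 : F) ≠ 0) (hQ : PolarNondeg Q) {d : ℕ} (hι : Fintype.card ι = 2 * d) (hd : 4 ≤ d) {r : ℕ}
    [Fact r.Prime] (hr2 : r ≠ 2) {ν : F} [Fact (∀ x : F, x ^ 2 ≠ ν + 0 * x)] (S : QStr Q ν)
    {K : Subalgebra F (Matrix ι ι F)}
    (hC : ∀ g : isometryGroup F ⇑Q, (∀ v, isoApply g (S.j v) = S.j (isoApply g v)) →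
      (g : GL ι F) ∈ Cfsg.Geo.subalgebraNormalizer K)
    (hΩ : r ∣ (Cfsg.Geo.subalgebraNormalizer K).relIndex (Cfsg.Geo.omegaGL ⇑Q)) :
    padicValNat r (Nat.card (qAut (lForm S))) < padicValNat r (Nat.card (qAut Q)) ∧ r ∣ Nat.card (qAut Q) := by
  classical
  set O := isometryGroup F ⇑Q
  set N := (Cfsg.Geo.subalgebraNormalizer K).comap O.subtype
  set Ω := Omega F ⇑Q
  haveI : Finite O := inferInstance
  have hidx : Ω.index = 4 := index_Omega_odd Q h2 hQ (by omega)
  haveI : Ω.Normal := by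
    show (commutator O).Normal
    infer_instance
  have hrel : r ∣ N.relIndex Ω := by
    rw [Subgroup.relIndex_comap]
    exact hΩ
  have hΩmul : N.relIndex Ω * Nat.card (N.subgroupOf Ω) = Nat.card Ω := Subgroup.index_mul_card _
  have hNmul : Ω.relIndex N * Nat.card (Ω.subgroupOf N) = Nat.card N := Subgroup.index_mul_card _
  have hsw : Nat.card (Ω.subgroupOf N) = Nat.card (N.subgroupOf Ω) :=
    Nat.card_congr ⟨fun g => ⟨⟨g.1.1, g.2⟩, g.1.2⟩, fun g => ⟨⟨g.1.1, g.2⟩, g.1.2⟩, fun _ => rfl, fun _ => rfl⟩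
  have hOmul : 4 * Nat.card Ω = Nat.card (qAut Q) := by
    rw [← hidx, Subgroup.index_mul_card]
    exact Nat.card_congr (isoEquiv Q).toEquiv
  have h4 : padicValNat r 4 = 0 := padicValNat.eq_zero_of_not_dvd fun h =>
    hr2 ((Nat.prime_dvd_prime_iff_eq Fact.out Nat.prime_two).1
      ((Fact.out : r.Prime).dvd_of_dvd_pow (show r ∣ 2 ^ 2 by simpa using h)))
  have h4' : padicValNat r (Ω.relIndex N) = 0 := padicValNat.eq_zero_of_not_dvd fun h =>
    hr2 ((Nat.prime_dvd_prime_iff_eq Fact.out Nat.prime_two).1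
      ((Fact.out : r.Prime).dvd_of_dvd_pow (show r ∣ 2 ^ 2 from
        h.trans (by simpa [hidx] using Subgroup.relIndex_dvd_index_of_normal (H := Ω) (K := N)))))
  have hne1 : N.relIndex Ω ≠ 0 := fun h => by rw [h, zero_mul] at hΩmul; exact Nat.card_pos.ne hΩmul
  have hne2 : Ω.relIndex N ≠ 0 := fun h => by rw [h, zero_mul] at hNmul; exact Nat.card_pos.ne hNmul
  have e1 := congrArg (padicValNat r) hΩmul
  have e2 := congrArg (padicValNat r) hNmul
  have e3 := congrArg (padicValNat r) hOmul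
  rw [padicValNat.mul hne1 Nat.card_pos.ne'] at e1
  rw [padicValNat.mul hne2 Nat.card_pos.ne', h4', hsw, zero_add] at e2
  rw [padicValNat.mul (by norm_num) Nat.card_pos.ne', h4, zero_add] at e3
  have h1 : 1 ≤ padicValNat r (N.relIndex Ω) := one_le_padicValNat_of_dvd hne1 hrel
  obtain ⟨c, hc⟩ : Nat.card (qAut (lForm S)) ∣ Nat.card N := by
    refine (exists_card_dvd S h2 (N.map (isoEquiv Q).toMonoidHom) fun g hg => ?_).trans
      (dvd_of_eq (Subgroup.card_map_of_injective (isoEquiv Q).injective))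
    refine ⟨(isoEquiv Q).symm g, ?_, (isoEquiv Q).apply_symm_apply g⟩
    refine hC _ fun v => ?_
    rw [← isoEquiv_apply, ← isoEquiv_apply, MulEquiv.apply_symm_apply]
    exact hg v
  have e4 : padicValNat r (Nat.card (qAut (lForm S))) ≤ padicValNat r (Nat.card N) := by
    have h0 : Nat.card N ≠ 0 := Nat.card_pos.ne'
    rw [hc] at h0 ⊢
    rw [padicValNat.mul (left_ne_zero_of_mul h0) (right_ne_zero_of_mul h0)]
    exact Nat.le_add_right _ _
  refine ⟨by omega, ?_⟩
  exact (hrel.trans ⟨_, hΩmul.symm⟩).trans ⟨4, by rw [← hOmul, mul_comm]⟩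

theorem main {p q r : ℕ} [Fact p.Prime] [CharP F p] [hr : Fact r.Prime] (hq : Fintype.card F = q) (hodd : Odd q)
    (hQ : PolarNondeg Q) {d : ℕ} (hι : Fintype.card ι = 2 * d) (hd : 4 ≤ d) {K : Subalgebra F (Matrix ι ι F)}
    (hK : Cfsg.Geo.IsFieldSubalgebra 2 K) (hKf : Cfsg.Geo.IsSelfAdjointFor (QuadraticMap.polar ⇑Q) K)
    (hΩ : r ∣ (Cfsg.Geo.subalgebraNormalizer K).relIndex (Cfsg.Geo.omegaGL ⇑Q)) :
    (∀ x ∈ Cfsg.Geo.omegaGL ⇑Q, (∃ z : F, ((x ^ r : GL ι F) : Matrix ι ι F) = z • (1 : Matrix ι ι F)) →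
      (∀ z : F, (x : Matrix ι ι F) ≠ z • (1 : Matrix ι ι F)) →
      ∃ g ∈ Cfsg.Geo.omegaGL ⇑Q, g⁻¹ * x * g ∈ Cfsg.Geo.subalgebraNormalizer K) ↔ r = 2 := by
  classical
  subst hq
  have h2 : (2 : F) ≠ 0 := fun h => by
    haveI : CharP F 2 := CharTwo.of_one_ne_zero_of_two_eq_zero one_ne_zero h
    have := FiniteField.even_card_of_char_two (ringChar.eq F 2)
    rw [Nat.odd_iff] at hodd
    omega
  haveI : Nonempty ι := Fintype.card_pos_iff.1 (by omega)
  have hfr : Module.finrank F (ι → F) = 2 * d := by rw [Module.finrank_pi, hι]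
  obtain ⟨ν, J, hν, hJK, hJJ, hspan⟩ := exists_gen_struct h2 hK
  haveI := fact_nonsq (ν := ν) hν
  obtain ⟨S, hS⟩ : ∃ S : QStr Q ν, ∀ v, S.j v = J *ᵥ v :=
    ⟨⟨Matrix.toLin' J, fun v => by
      rw [Matrix.toLin'_apply, Matrix.toLin'_apply, mulVec_mulVec, hJJ, smul_mulVec, one_mulVec],
      fun u v => by rw [Matrix.toLin'_apply, Matrix.toLin'_apply]; exact hKf J hJK u v⟩, fun v => rfl⟩
  have hcoe : ∀ g : isometryGroup F ⇑Q, ∀ v, (g : GL ι F).1 *ᵥ v = (isoEquiv Q g).1 v := fun g v => rfl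
  have hsign : ∀ (g : isometryGroup F ⇑Q) (s : F), (s = 1 ∨ s = -1) →
      (∀ v, isoApply g (S.j v) = s • S.j (isoApply g v)) → (g : GL ι F) ∈ Cfsg.Geo.subalgebraNormalizer K := by
    intro g s hs h
    refine mem_normalizer_of_sign hJK hspan hs (Matrix.ext_of_mulVec_single fun i => ?_)
    have h' := h (Pi.single i 1)
    rw [hS, hS] at h'
    simpa only [isoApply, smul_mulVec, ← mulVec_mulVec] using h'
  constructor
  · intro h
    by_contra hr2
    obtain ⟨hval, hrO⟩ := val_lt Q h2 hQ hι hd hr2 S (K := K)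
      (fun g hg => hsign g 1 (Or.inl rfl) fun v => by rw [one_smul]; exact hg v) hΩ
    obtain ⟨y, hyr, hy1, hbad⟩ : ∃ y : qAut Q, y ^ r = 1 ∧ y ≠ 1 ∧
        ∀ T : QStr Q ν, ∃ v, y.1 (T.j v) ≠ T.j (y.1 v) := by
      by_cases hrp : r = p
      · obtain ⟨g, a, b, hg, hg1, hli, hga⟩ := exists_root_elt (p := p) hQ (by omega)
        refine ⟨g, hrp ▸ hg, hg1, fun T => ?_⟩
        by_contra! hall
        refine root_no_str h2 hQ hli hν T fun u => ?_
        have := hall u
        rw [hga, hga] at this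
        exact this.symm
      have hrF : (r : F) ≠ 0 := by
        rw [Ne, CharP.cast_eq_zero_iff F p]
        exact fun h => hrp ((Nat.prime_dvd_prime_iff_eq Fact.out hr.out).1 h).symm
      obtain ⟨n, hp, hn⟩ := FiniteField.card F p
      have hrq : ¬ r ∣ Fintype.card F := fun h => hrp ((Nat.prime_dvd_prime_iff_eq hr.out hp).1
        (hr.out.dvd_of_dvd_pow (hn ▸ h)))
      obtain ⟨e, he⟩ : ∃ e, e = orderOf (Fintype.card F : ZMod r) := ⟨_, rfl⟩
      have h4 : ¬ 4 ∣ e := fun h4 => by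
        have := four_dvd_le (r := r) h2 hr2 hrq (he ▸ h4) hQ hfr (by omega) S
        omega
      have hQ0 : (Fintype.card F : ZMod r) ≠ 0 := by rwa [Ne, ZMod.natCast_eq_zero_iff]
      have he0 : 0 < e := he ▸ orderOf_pos_iff.2
        (isOfFinOrder_iff_pow_eq_one.2 ⟨r - 1, by have := hr.out.two_le; omega, ZMod.pow_card_sub_one_eq_one hQ0⟩)
      obtain ⟨g, hg, hg1, hgd⟩ := exists_small_elt (r := r) h2 hr2 hrq hQ hfr (by omega) (he ▸ h4) hrO
      refine ⟨g, hg, hg1, fun T => ?_⟩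
      by_contra! hall
      have hpow : ∀ n : ℕ, ∀ v, ((g.1.toLinearMap : Module.End F (ι → F)) ^ n) v = (g ^ n).1 v := fun n => by
        induction n with
        | zero => intro v; rfl
        | succ n ih => intro v; rw [pow_succ', pow_succ', Module.End.mul_apply, ih]; rfl
      refine no_str_commutes hr2 hrF h2 he he0 h4 hQ (f := g.1.toLinearMap) (fun v => by rw [hpow, hg]; rfl) g.2
        (fun h => hg1 (qAut_ext fun v => congrArg (fun f : Module.End F (ι → F) => f v) h)) (he ▸ hgd) hν T hall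
    have hex : Fintype.card F ≠ 2 ∨ Module.finrank F (ι → F) ≠ 4 := Or.inr (by omega)
    have hyc : y ∈ commutator (qAut Q) := by
      obtain ⟨k, hk⟩ := hr.out.odd_of_ne_two hr2
      have : y = (y ^ 2) ^ (k + 1) := by
        rw [← pow_mul, show 2 * (k + 1) = r + 1 by omega, pow_succ, hyr, one_mul]
      rw [this]
      exact Subgroup.pow_mem _ (by simpa [sq] using CfsgLib.Classical.Spin.sq_mem_commutator Q hQ hex y) _
    obtain ⟨X, hX⟩ : ∃ X, X = (isoEquiv Q).symm y := ⟨_, rfl⟩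
    have hXy : isoEquiv Q X = y := hX ▸ MulEquiv.apply_symm_apply _ _
    have hXr : (X : GL ι F) ^ r = 1 := by
      rw [← SubgroupClass.coe_pow, show X ^ r = 1 from (isoEquiv Q).injective (by rw [map_pow, hXy, hyr, map_one])]
      rfl
    obtain ⟨g, hg, hgN⟩ := h (X : GL ι F) ⟨X, (mem_Omega_iff Q).2 (hXy.symm ▸ hyc), rfl⟩
      ⟨1, by rw [hXr, one_smul]; rfl⟩ fun z hz => hy1 (qAut_ext fun v => by
        have hyv : ∀ v, y.1 v = z • v := fun v => by rw [← hXy, ← hcoe, hz, smul_mulVec, one_mulVec]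
        have hyn : ∀ (n : ℕ) v, (y ^ n).1 v = z ^ n • v := fun n => by
          induction n with
          | zero => intro v; simp
          | succ n ih => intro v; rw [pow_succ', qAut_mul_apply, ih, hyv, smul_smul, pow_succ']
        obtain ⟨w, hw⟩ := exists_value Q hQ (c := (1 : F)) (by omega) one_ne_zero
        have hz2 : z * z = 1 := by
          have := qAut_map y w
          rwa [hyv, quad_smul, hw, mul_one] at this
        have hzr : z ^ r = 1 := by
          have hw0 : w ≠ 0 := fun h => by simp [h] at hw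
          have := hyn r w
          rw [hyr] at this
          exact (smul_left_injective F hw0 (by simpa using this.symm : z ^ r • w = (1 : F) • w))
        obtain ⟨k, hk⟩ := hr.out.odd_of_ne_two hr2
        rw [hk, pow_succ, pow_mul, sq, hz2, one_pow, one_mul] at hzr
        rw [hyv, hzr, one_smul]
        rfl)
    obtain ⟨G, -, hG⟩ := Subgroup.mem_map.1 hg
    have hcomm := CfsgLib.Classical22.PrimeMaps.FType.commute_of_order hK Nat.prime_two hr.out hr2 hgN (by
      have : (g⁻¹ * (X : GL ι F) * g) ^ r = g⁻¹ * (X : GL ι F) ^ r * g := by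
        simpa using conj_pow (i := r) (a := g⁻¹) (b := (X : GL ι F))
      rw [this, hXr, mul_one, inv_mul_cancel]) hJK
    obtain ⟨T, hT⟩ : ∃ T : QStr Q ν, ∀ v, T.j v = (isoEquiv Q G).1 (S.j ((isoEquiv Q G).1.symm v)) :=
      ⟨⟨(isoEquiv Q G).1.toLinearMap ∘ₗ S.j ∘ₗ (isoEquiv Q G).1.symm.toLinearMap, fun v => by
        simp only [LinearMap.comp_apply, LinearEquiv.coe_coe, LinearEquiv.symm_apply_apply, S.sq, map_smul,
          LinearEquiv.apply_symm_apply], fun u v => by
        obtain ⟨u', rfl⟩ := (isoEquiv Q G).1.surjective u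
        obtain ⟨v', rfl⟩ := (isoEquiv Q G).1.surjective v
        simp only [LinearMap.comp_apply, LinearEquiv.coe_coe, LinearEquiv.symm_apply_apply, qAut_polar]
        exact S.adj u' v'⟩, fun v => rfl⟩
    obtain ⟨v, hv⟩ := hbad T
    obtain ⟨w, rfl⟩ := (isoEquiv Q G).1.surjective v
    refine hv ?_
    subst hG
    have h' := congrArg (fun M => ((isometryGroup F ⇑Q).subtype G).1 *ᵥ (M *ᵥ w)) hcomm
    simp only [Units.val_mul, ← mulVec_mulVec] at h'
    rw [mulVec_mulVec _ ((isometryGroup F ⇑Q).subtype G).1, Units.mul_inv, one_mulVec] at h'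
    rw [hT, hT, LinearEquiv.symm_apply_apply, hS, hS, ← hXy]
    exact h'
  · rintro rfl x hx ⟨z, hz⟩ -
    obtain ⟨X, hXΩ, rfl⟩ := Subgroup.mem_map.1 hx
    have hsq : ∀ v, (isoEquiv Q X).1 ((isoEquiv Q X).1 v) = z • v := fun v => by
      rw [← hcoe, ← hcoe, mulVec_mulVec, ← Units.val_mul, ← sq]
      show (((X : GL ι F) ^ 2 : GL ι F) : Matrix ι ι F) *ᵥ v = _
      rw [show ((X : GL ι F) ^ 2 : GL ι F).1 = z • 1 from hz, smul_mulVec, one_mulVec]
    have hz1 : z = 1 ∨ z = -1 := by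
      obtain ⟨w, hw⟩ := exists_value Q hQ (c := (1 : F)) (by omega) one_ne_zero
      have h1 : Q ((isoEquiv Q X).1 ((isoEquiv Q X).1 w)) = Q w := by rw [qAut_map, qAut_map]
      rw [hsq, quad_smul, hw, mul_one] at h1
      exact mul_self_eq_one_iff.1 h1
    obtain ⟨g, hg, s, hs, hgs⟩ := exists_conj_commutator Q h2 hQ hfr (by omega) hν S (isoEquiv Q X)
      ((mem_Omega_iff Q).1 hXΩ) hz1 hsq
    obtain ⟨G, rfl⟩ := (isoEquiv Q).surjective g
    refine ⟨(G : GL ι F), ⟨G, (mem_Omega_iff Q).2 hg, rfl⟩, hsign (G⁻¹ * X * G) s hs fun v => ?_⟩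
    have := hgs v
    rwa [← map_inv, ← map_mul, ← map_mul, isoEquiv_apply, isoEquiv_apply] at this

end CfsgLib.Classical.Elusive.OrthField
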