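/-
Model unipotent isometries with prescribed block sizes.
-/
import Cfsg.Agent.Lib.Classical.Elusive.Layers
import Cfsg.Agent.Lib.Classical.QuadPOmega
import Cfsg.Agent.Lib.KnownSimple.Forms.Classify

set_option autoImplicit false

namespace CfsgLib.Classical.Elusive

open Matrix

universe u

variable {F : Type u} [Field F]

/-- Block data. -/
structure Blocks (F : Type u) [Field F] (κ : Type) (p : ℕ) where
  size : κ → ℕ
  size_pos : ∀ k, 0 < size k
  size_le : ∀ k, size k ≤ p
  pair : κ → κ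
  pair_pair : ∀ k, pair (pair k) = k
  size_pair : ∀ k, size (pair k) = size k
  wt : κ → F
  wt_ne : ∀ k, wt k ≠ 0
  wt_pair : ∀ k, wt (pair k) = (-1) ^ (size k + 1) * wt k

namespace Blocks

variable {κ : Type} {p : ℕ} (D : Blocks F κ p)

/-- Coordinates. -/
abbrev Idx : Type := {x : κ × Fin p // (x.2 : ℕ) < D.size x.1}

/-- The position `i` of the block `k`. -/
def at' (k : κ) (i : ℕ) (h : i < D.size k) : D.Idx := ⟨(k, ⟨i, h.trans_le (D.size_le k)⟩), h⟩

theorem idx_ext {x y : D.Idx} (h1 : x.1.1 = y.1.1) (h2 : (x.1.2 : ℕ) = y.1.2) : x = y :=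
  Subtype.ext (Prod.ext h1 (Fin.ext h2))

/-- The opposite coordinate. -/
def opp (x : D.Idx) : D.Idx := D.at' (D.pair x.1.1) (D.size x.1.1 - 1 - x.1.2) (by
  rw [D.size_pair]; have := D.size_pos x.1.1; omega)

theorem opp_fst (x : D.Idx) : (D.opp x).1.1 = D.pair x.1.1 := rfl

theorem opp_snd (x : D.Idx) : ((D.opp x).1.2 : ℕ) = D.size x.1.1 - 1 - x.1.2 := rfl

theorem opp_opp (x : D.Idx) : D.opp (D.opp x) = x := by
  refine D.idx_ext (by rw [opp_fst, opp_fst, D.pair_pair]) ?_
  rw [opp_snd, opp_snd, opp_fst, D.size_pair]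
  have := x.2
  omega

/-- The opposite coordinate as a permutation. -/
def oppEquiv : Equiv.Perm D.Idx := ⟨D.opp, D.opp, D.opp_opp, D.opp_opp⟩

/-- The signs. -/
def coefB (x : D.Idx) : F := (-1) ^ (x.1.2 : ℕ) * D.wt x.1.1

theorem coefB_opp (x : D.Idx) : D.coefB (D.opp x) = D.coefB x := by
  rw [coefB, coefB, opp_fst, opp_snd, D.wt_pair, ← mul_assoc, ← pow_add]
  congr 1
  have := x.2
  rw [show D.size x.1.1 - 1 - (x.1.2 : ℕ) + (D.size x.1.1 + 1) =
    (x.1.2 : ℕ) + 2 * (D.size x.1.1 - x.1.2) by omega, pow_add, pow_mul]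
  simp

variable [Fintype κ] [DecidableEq κ]

/-- The bilinear form. -/
noncomputable def bil : LinearMap.BilinForm F (D.Idx → F) :=
  Matrix.toBilin' (Matrix.of fun x y => if y = D.opp x then D.coefB x else 0)

theorem bil_apply (u v : D.Idx → F) : D.bil u v = ∑ x, D.coefB x * (u x * v (D.opp x)) := by
  rw [bil, Matrix.toBilin'_apply]
  refine Finset.sum_congr rfl fun x _ => ?_
  rw [Fintype.sum_eq_single (D.opp x) fun y hy => by simp [hy]]
  simp [Matrix.of_apply]
  ring

theorem bil_comm (u v : D.Idx → F) : D.bil u v = D.bil v u := by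
  rw [bil_apply, bil_apply, ← Equiv.sum_comp D.oppEquiv]
  refine Finset.sum_congr rfl fun x _ => ?_
  show D.coefB (D.opp x) * (u (D.opp x) * v (D.opp (D.opp x))) = _
  rw [coefB_opp, opp_opp]
  ring

theorem bil_nondeg : D.bil.Nondegenerate := by
  have h : ∀ u, (∀ v, D.bil u v = 0) → u = 0 := fun u hu => funext fun x => by
    have := hu (Pi.single (D.opp x) 1)
    rw [bil_apply, Fintype.sum_eq_single x fun y hy => by
      rw [Pi.single_apply, if_neg (fun h => hy (by simpa [opp_opp] using congrArg D.opp h))]; simp] at this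
    simpa [coefB, D.wt_ne] using this
  exact ⟨h, fun v hv => h v fun w => (D.bil_comm v w).trans (hv w)⟩

/-- The shift along the blocks. -/
noncomputable def shiftN : (D.Idx → F) →ₗ[F] (D.Idx → F) :=
  LinearMap.pi fun x => if h : 0 < (x.1.2 : ℕ) then LinearMap.proj (D.at' x.1.1 (x.1.2 - 1)
    (by have := x.2; omega)) else 0

theorem shiftN_apply (v : D.Idx → F) (x : D.Idx) :
    D.shiftN v x = if h : 0 < (x.1.2 : ℕ) then v (D.at' x.1.1 (x.1.2 - 1) (by have := x.2; omega)) else 0 := by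
  simp only [shiftN, LinearMap.pi_apply]
  split_ifs <;> rfl

theorem shiftN_pow_apply (s : ℕ) (v : D.Idx → F) (x : D.Idx) :
    (D.shiftN ^ s) v x = if h : s ≤ (x.1.2 : ℕ) then v (D.at' x.1.1 (x.1.2 - s) (by have := x.2; omega)) else 0 := by
  induction s generalizing x with
  | zero =>
    simp only [pow_zero, Module.End.one_apply, Nat.zero_le, dif_pos, Nat.sub_zero]
    exact congrArg v (D.idx_ext rfl rfl)
  | succ s ih =>
    rw [pow_succ_apply, shiftN_apply]
    by_cases h : 0 < (x.1.2 : ℕ)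
    · rw [dif_pos h, ih]
      by_cases h' : s + 1 ≤ (x.1.2 : ℕ)
      · rw [dif_pos h']
        refine (dif_pos (show s ≤ (x.1.2 : ℕ) - 1 by omega)).trans ?_
        exact congrArg v (D.idx_ext rfl (by show (x.1.2 : ℕ) - 1 - s = (x.1.2 : ℕ) - (s + 1); omega))
      · rw [dif_neg h']
        exact dif_neg (show ¬ s ≤ (x.1.2 : ℕ) - 1 by omega)
    · rw [dif_neg h, dif_neg (by omega)]

theorem shiftN_pow_eq_zero : D.shiftN ^ p = 0 :=
  LinearMap.ext fun v => funext fun x => by
    rw [shiftN_pow_apply, dif_neg (by have := x.1.2.isLt; omega)]; rfl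

/-- Moving one step along a block. -/
def stepUp (x : {x : D.Idx // (x.1.2 : ℕ) + 1 < D.size x.1.1}) : {x : D.Idx // 0 < (x.1.2 : ℕ)} :=
  ⟨D.at' x.1.1.1 ((x.1.1.2 : ℕ) + 1) x.2, Nat.succ_pos _⟩

theorem shiftN_skew (u v : D.Idx → F) : D.bil (D.shiftN u) v = - D.bil u (D.shiftN v) := by
  classical
  rw [bil_apply, bil_apply, ← Finset.sum_neg_distrib,
    ← Fintype.sum_subtype_add_sum_subtype (fun x : D.Idx => 0 < (x.1.2 : ℕ)),
    ← Fintype.sum_subtype_add_sum_subtype (fun x : D.Idx => (x.1.2 : ℕ) + 1 < D.size x.1.1)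
      (fun x => -(D.coefB x * (u x * D.shiftN v (D.opp x))))]
  have h1 : ∀ x : {x : D.Idx // ¬ 0 < (x.1.2 : ℕ)}, D.coefB x.1 * (D.shiftN u x.1 * v (D.opp x.1)) = 0 :=
    fun x => by rw [shiftN_apply, dif_neg x.2]; ring
  have h2 : ∀ x : {x : D.Idx // ¬ (x.1.2 : ℕ) + 1 < D.size x.1.1},
      -(D.coefB x.1 * (u x.1 * D.shiftN v (D.opp x.1))) = 0 := fun x => by
    rw [shiftN_apply, dif_neg (by rw [opp_snd]; have := x.2; have := x.1.2; omega)]; ring
  rw [Finset.sum_eq_zero fun x _ => h1 x, Finset.sum_eq_zero fun x _ => h2 x, add_zero, add_zero]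
  symm
  refine Fintype.sum_bijective D.stepUp ⟨fun x y h => ?_, fun y => ?_⟩ _ _ fun x => ?_
  · have h1 := congrArg (fun z : {x : D.Idx // 0 < (x.1.2 : ℕ)} => z.1.1.1) h
    have h2 := congrArg (fun z : {x : D.Idx // 0 < (x.1.2 : ℕ)} => (z.1.1.2 : ℕ)) h
    exact Subtype.ext (D.idx_ext h1 (Nat.succ_injective h2))
  · refine ⟨⟨D.at' y.1.1.1 ((y.1.1.2 : ℕ) - 1) (by have := y.1.2; omega), ?_⟩,
      Subtype.ext (D.idx_ext rfl ?_)⟩
    · show (y.1.1.2 : ℕ) - 1 + 1 < _
      have := y.2; have := y.1.2; simp only [at']; omega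
    · show (y.1.1.2 : ℕ) - 1 + 1 = _
      have := y.2; omega
  · obtain ⟨⟨⟨k, i⟩, hi⟩, hx⟩ := x
    simp only at hx hi
    have e1 : D.shiftN u (D.stepUp ⟨⟨(k, i), hi⟩, hx⟩).1 = u ⟨(k, i), hi⟩ := by
      rw [shiftN_apply, dif_pos (D.stepUp ⟨⟨(k, i), hi⟩, hx⟩).2]
      exact congrArg u (D.idx_ext rfl (Nat.add_sub_cancel (i : ℕ) 1))
    have e2 : D.shiftN v (D.opp ⟨(k, i), hi⟩) = v (D.opp (D.stepUp ⟨⟨(k, i), hi⟩, hx⟩).1) := by
      rw [shiftN_apply, dif_pos (by rw [opp_snd]; simp only; omega)]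
      exact congrArg v (D.idx_ext rfl (show D.size k - 1 - (i : ℕ) - 1 = D.size k - 1 - ((i : ℕ) + 1) by omega))
    rw [e1, e2]
    show _ = ((-1) ^ ((i : ℕ) + 1) * D.wt k) * _
    rw [pow_succ, coefB]
    ring

theorem lay_shiftN (s : ℕ) : layDim D.shiftN ⊤ s = (Finset.univ.filter fun k => s < D.size k).card := by
  classical
  let K := {k : κ // s < D.size k}
  let last : K → D.Idx := fun k => D.at' k.1 (D.size k.1 - 1) (by have := D.size_pos k.1; omega)
  have hlast : Function.Injective last := fun k k' h => Subtype.ext (congrArg (fun x : D.Idx => x.1.1) h)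
  let L : (K → F) →ₗ[F] (D.Idx → F) := Function.ExtendByZero.linearMap F last
  have hL : ∀ f k, L f (last k) = f k := fun f k => hlast.extend_apply _ _ _
  have hL0 : ∀ f x, (∀ k, last k ≠ x) → L f x = 0 := fun f x h =>
    Function.extend_apply' f (0 : D.Idx → F) x fun ⟨k, hk⟩ => h k hk
  have e : lay D.shiftN ⊤ s = LinearMap.range L := by
    apply le_antisymm
    · rintro _ ⟨hy, w, -, rfl⟩
      refine ⟨fun k => (D.shiftN ^ s) w (last k), funext fun x => ?_⟩
      by_cases hx : ∃ k, last k = x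
      · obtain ⟨k, rfl⟩ := hx; rw [hL]
      · rw [hL0 _ _ fun k hk => hx ⟨k, hk⟩, shiftN_pow_apply]
        by_cases hs : s ≤ (x.1.2 : ℕ)
        · have hx2 := x.2
          by_cases hlt : (x.1.2 : ℕ) + 1 < D.size x.1.1
          · have h0 := congrFun (LinearMap.mem_ker.mp hy) (D.stepUp ⟨x, hlt⟩).1
            rw [shiftN_apply, dif_pos (D.stepUp ⟨x, hlt⟩).2,
              show D.at' (D.stepUp ⟨x, hlt⟩).1.1.1 (((D.stepUp ⟨x, hlt⟩).1.1.2 : ℕ) - 1) _ = x from
                D.idx_ext rfl (Nat.add_sub_cancel (x.1.2 : ℕ) 1), shiftN_pow_apply] at h0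
            exact h0.symm
          · exact absurd ⟨⟨x.1.1, by omega⟩, D.idx_ext rfl (show D.size x.1.1 - 1 = (x.1.2 : ℕ) by omega)⟩ hx
        · rw [dif_neg hs]
    · rintro _ ⟨f, rfl⟩
      refine ⟨funext fun x => ?_, ?_⟩
      · rw [shiftN_apply]
        by_cases h : 0 < (x.1.2 : ℕ)
        · rw [dif_pos h, hL0]
          · rfl
          intro k hk
          have h1 : k.1 = x.1.1 := congrArg (fun z : D.Idx => z.1.1) hk
          have h2 : D.size k.1 - 1 = (x.1.2 : ℕ) - 1 := congrArg (fun z : D.Idx => (z.1.2 : ℕ)) hk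
          rw [h1] at h2
          have := x.2
          omega
        · rw [dif_neg h]; rfl
      · refine ⟨fun y => if h : s < D.size y.1.1 ∧ (y.1.2 : ℕ) + 1 + s = D.size y.1.1 then f ⟨y.1.1, h.1⟩ else 0,
          trivial, funext fun x => ?_⟩
        rw [shiftN_pow_apply]
        have hx2 := x.2
        by_cases hx : ∃ k, last k = x
        · obtain ⟨k, rfl⟩ := hx
          have hk := k.2
          rw [hL]
          exact (dif_pos (show s ≤ D.size k.1 - 1 by omega)).trans
            (dif_pos ⟨k.2, show D.size k.1 - 1 - s + 1 + s = D.size k.1 by omega⟩)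
        · rw [hL0 _ _ fun k hk => hx ⟨k, hk⟩]
          by_cases hs : s ≤ (x.1.2 : ℕ)
          · rw [dif_pos hs, dif_neg]
            rintro ⟨h1, h2⟩
            simp only [at'] at h2
            exact hx ⟨⟨x.1.1, h1⟩, D.idx_ext rfl (show D.size x.1.1 - 1 = (x.1.2 : ℕ) by omega)⟩
          · rw [dif_neg hs]
  rw [layDim, e, LinearMap.finrank_range_of_inj (fun f f' h => funext fun k => by rw [← hL f, h, hL]),
    Module.finrank_pi, Fintype.card_subtype]

theorem card_idx : Fintype.card D.Idx = ∑ k, D.size k := by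
  let e : D.Idx ≃ Σ k, Fin (D.size k) :=
    { toFun := fun x => ⟨x.1.1, ⟨x.1.2, x.2⟩⟩
      invFun := fun x => D.at' x.1 x.2 x.2.isLt
      left_inv := fun x => rfl
      right_inv := fun x => rfl }
  rw [Fintype.card_congr e, Fintype.card_sigma]
  simp

/-- The quadratic form. -/
noncomputable def quad : QuadraticForm F (D.Idx → F) :=
  LinearMap.BilinMap.toQuadraticMap ((2⁻¹ : F) • D.bil)

theorem quad_apply (v : D.Idx → F) : D.quad v = 2⁻¹ * D.bil v v := rfl

theorem polar_quad (h2 : (2 : F) ≠ 0) (u v : D.Idx → F) : QuadraticMap.polar D.quad u v = D.bil u v := by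
  simp only [QuadraticMap.polar, quad_apply, map_add, LinearMap.add_apply, D.bil_comm v u]
  field_simp
  ring

theorem polarNondeg_quad (h2 : (2 : F) ≠ 0) : PolarNondeg D.quad := fun v hv =>
  D.bil_nondeg.1 v fun w => (D.polar_quad h2 v w).symm.trans (hv w)

/-- The Cayley transform of the shift. -/
theorem exists_isometry [Fact p.Prime] [CharP F p] (h2 : (2 : F) ≠ 0) :
    ∃ g : qAut D.quad, g ^ p = 1 ∧ ∀ s, layDim (dd g.1) ⊤ s = (Finset.univ.filter fun k => s < D.size k).card := by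
  set N := D.shiftN with hN
  have hnil : IsNilpotent N := ⟨p, D.shiftN_pow_eq_zero⟩
  obtain ⟨u₁, hu₁⟩ := hnil.isUnit_one_sub
  obtain ⟨u₂, hu₂⟩ := hnil.isUnit_one_add
  let U : (Module.End F (D.Idx → F))ˣ := u₂ * u₁⁻¹
  let e : (D.Idx → F) ≃ₗ[F] (D.Idx → F) := LinearMap.GeneralLinearGroup.generalLinearEquiv F _ U
  have he : ∀ v, e v = (U : Module.End F (D.Idx → F)) v := fun v => rfl
  have hone : ∀ v, e ((u₁ : Module.End F (D.Idx → F)) v) = (u₂ : Module.End F (D.Idx → F)) v := fun v => by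
    rw [he, ← Module.End.mul_apply, ← Units.val_mul, inv_mul_cancel_right]
  have hiso : ∀ v, D.quad (e v) = D.quad v := fun v => by
    obtain ⟨w, rfl⟩ : ∃ w, (u₁ : Module.End F (D.Idx → F)) w = v :=
      ⟨((u₁⁻¹ : _ˣ) : Module.End F (D.Idx → F)) v, by
        rw [← Module.End.mul_apply, ← Units.val_mul, mul_inv_cancel, Units.val_one, Module.End.one_apply]⟩
    rw [hone, hu₁, hu₂, quad_apply, quad_apply]
    simp only [LinearMap.sub_apply, LinearMap.add_apply, Module.End.one_apply, map_add, map_sub]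
    rw [D.shiftN_skew w w]
    ring
  let A : (Module.End F (D.Idx → F))ˣ :=
    (Units.map (algebraMap F (Module.End F (D.Idx → F))).toMonoidHom) (Units.mk0 2 h2) * u₁⁻¹
  have hdd : dd e = N * (A : Module.End F (D.Idx → F)) := by
    have h1 : dd e = ((u₂ : Module.End F (D.Idx → F)) - u₁) * ((u₁⁻¹ : _ˣ) : Module.End F (D.Idx → F)) := by
      rw [sub_mul, ← Units.val_mul, ← Units.val_mul, mul_inv_cancel, Units.val_one]; rfl
    rw [h1, hu₁, hu₂, Units.val_mul, ← mul_assoc]
    congr 1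
    show _ = N * algebraMap F _ (2 : F)
    rw [← Algebra.commutes, map_ofNat, two_mul]
    abel
  have hc : Commute N (A : Module.End F (D.Idx → F)) := by
    refine Commute.mul_right ?_ ?_
    · exact (Algebra.commutes _ _).symm
    · refine Commute.units_inv_right ?_
      rw [hu₁]
      exact Commute.sub_right (Commute.one_right _) (Commute.refl _)
  have hA : ∀ s, Function.Bijective ((A : Module.End F (D.Idx → F)) ^ s : Module.End F (D.Idx → F)) := fun s => by
    rw [← Module.End.isUnit_iff]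
    exact ⟨A ^ s, Units.val_pow_eq_pow_val A s⟩
  have hlay : ∀ s, lay (dd e) ⊤ s = lay N ⊤ s := fun s => by
    rw [lay, lay, hdd, hc.mul_pow, Submodule.map_top, Submodule.map_top, hc.eq]
    congr 1
    · exact LinearMap.ker_comp_of_ker_eq_bot _ (LinearMap.ker_eq_bot.mpr (by simpa using (hA 1).1))
    · exact LinearMap.range_comp_of_range_eq_top _ (LinearMap.range_eq_top.mpr (hA s).2)
  refine ⟨⟨e, hiso⟩, ?_, fun s => by rw [layDim, hlay, ← layDim, hN, lay_shiftN]⟩
  have hzero : (dd e) ^ p = 0 := by rw [hdd, hc.mul_pow, hN, D.shiftN_pow_eq_zero, zero_mul]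
  haveI : Nonempty D.Idx ∨ IsEmpty D.Idx := (isEmpty_or_nonempty _).symm
  refine qAut_ext fun v => ?_
  have hpow : ∀ (n : ℕ) (w : D.Idx → F), ((⟨e, hiso⟩ : qAut D.quad) ^ n).1 w =
      (((e : (D.Idx → F) →ₗ[F] (D.Idx → F)) : Module.End F (D.Idx → F)) ^ n) w := by
    intro n
    induction n with
    | zero => intro w; simp
    | succ n ih => intro w; rw [pow_succ', qAut_mul_apply, ih, pow_succ_apply]; rfl
  rw [hpow]
  rcases isEmpty_or_nonempty D.Idx with hE | hE
  · exact Subsingleton.elim _ _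
  haveI : CharP (Module.End F (D.Idx → F)) p :=
    charP_of_injective_algebraMap (FaithfulSMul.algebraMap_injective F (Module.End F (D.Idx → F))) p
  have := sub_pow_char_of_commute (p := p) (Commute.one_right (e.toLinearMap : Module.End F (D.Idx → F)))
  rw [show ((e.toLinearMap : Module.End F (D.Idx → F)) - 1) = dd e from rfl, hzero, one_pow,
    eq_comm, sub_eq_zero] at this
  rw [this]
  rfl

/-- The determinant under a change of weights. -/
theorem det_gram_change (D' : Blocks F κ p) (hs : D'.size = D.size) (hp : D'.pair = D.pair) (t : κ → F)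
    (hw : ∀ k, D'.wt k = t k * D.wt k) :
    ∃ e : D.Idx ≃ D'.Idx, ((Matrix.of fun x y => if y = D'.opp x then D'.coefB x else 0 : Matrix D'.Idx D'.Idx F)).det =
      (∏ k, t k ^ D.size k) * (Matrix.of fun x y => if y = D.opp x then D.coefB x else 0 : Matrix D.Idx D.Idx F).det := by
  let e : D.Idx ≃ D'.Idx := Equiv.subtypeEquivRight fun x => by rw [hs]
  refine ⟨e, ?_⟩
  have hee : ∀ x, e (D.opp x) = D'.opp (e x) := fun x => D'.idx_ext
    (show D.pair x.1.1 = D'.pair x.1.1 by rw [hp])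
    (show D.size x.1.1 - 1 - (x.1.2 : ℕ) = D'.size x.1.1 - 1 - (x.1.2 : ℕ) by rw [hs])
  rw [← Matrix.det_submatrix_equiv_self e,
    show (Matrix.of fun x y => if y = D'.opp x then D'.coefB x else 0 : Matrix D'.Idx D'.Idx F).submatrix e e =
      Matrix.diagonal (fun x : D.Idx => t x.1.1) *
        (Matrix.of fun x y => if y = D.opp x then D.coefB x else 0 : Matrix D.Idx D.Idx F) from ?_,
    Matrix.det_mul, Matrix.det_diagonal]
  · congr 1
    let ε : D.Idx ≃ Σ k, Fin (D.size k) :=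
      { toFun := fun x => ⟨x.1.1, ⟨x.1.2, x.2⟩⟩
        invFun := fun x => D.at' x.1 x.2 x.2.isLt
        left_inv := fun x => rfl
        right_inv := fun x => rfl }
    rw [← ε.symm.prod_comp, Fintype.prod_sigma]
    exact Finset.prod_congr rfl fun k _ => by simp [ε, at']
  · refine Matrix.ext fun x y => ?_
    rw [Matrix.diagonal_mul, Matrix.submatrix_apply, Matrix.of_apply, Matrix.of_apply]
    by_cases h : y = D.opp x
    · rw [if_pos (by rw [h, hee]), if_pos h, coefB, coefB, show D'.wt (e x).1.1 = _ from hw x.1.1]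
      show (-1) ^ (x.1.2 : ℕ) * (t x.1.1 * D.wt x.1.1) = _
      ring
    · rw [if_neg (fun h' => h (e.injective (h'.trans (hee x).symm))), if_neg h, mul_zero]

end Blocks

end CfsgLib.Classical.Elusive
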