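/-
Elements of order `p` of orthogonal groups fixing a non-degenerate subspace: partition conditions.
-/
import Cfsg.Agent.Lib.Classical.Elusive.UnipotentModel
import Cfsg.Agent.Lib.Classical.SylowTwo.Main
import Cfsg.Prelude.Def_GeometricClasses

set_option autoImplicit false

namespace CfsgLib.Classical.Elusive

open Matrix

universe u

variable {F : Type u} [Field F] {p : ℕ}

/-- The admissible partitions of `n`. -/
def Part (p n : ℕ) (μ : Multiset ℕ) : Prop :=
  (∀ e ∈ μ, 0 < e ∧ e ≤ p) ∧ (∀ e : ℕ, Even e → Even (μ.count e)) ∧ μ.sum = n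

theorem dd_pow_char [Fact p.Prime] [CharP F p] {V : Type*} [AddCommGroup V] [Module F V]
    {g : V ≃ₗ[F] V} (h : ∀ v, ((g : V →ₗ[F] V) ^ p) v = v) : (dd g) ^ p = 0 := by
  rcases subsingleton_or_nontrivial V with hV | hV
  · exact LinearMap.ext fun v => Subsingleton.elim _ _
  haveI : CharP (Module.End F V) p :=
    charP_of_injective_algebraMap (FaithfulSMul.algebraMap_injective F (Module.End F V)) p
  have h' := sub_pow_char_of_commute (p := p) (Commute.one_right (g.toLinearMap : Module.End F V))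
  rw [show ((g.toLinearMap : Module.End F V) - 1) = dd g from rfl, one_pow] at h'
  rw [h', show (g.toLinearMap : Module.End F V) ^ p = 1 from LinearMap.ext h, sub_self]

theorem countP_lt_succ (μ : Multiset ℕ) (s : ℕ) :
    μ.countP (fun e => s < e) = μ.countP (fun e => s + 1 < e) + μ.count (s + 1) := by
  induction μ using Multiset.induction_on with
  | empty => simp
  | cons a μ ih =>
    simp only [Multiset.countP_cons, Multiset.count_cons, ih]
    split_ifs <;> omega

theorem exists_pairing (μ : Multiset ℕ) (heven : ∀ e : ℕ, Even e → Even (μ.count e)) :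
    ∃ h : Multiset ℕ, μ = μ.filter (fun e => ¬ Even e) + (h + h) ∧ ∀ e ∈ h, Even e := by
  refine ⟨∑ e ∈ (μ.filter (fun e => Even e)).toFinset, Multiset.replicate (μ.count e / 2) e, ?_, ?_⟩
  · refine Multiset.ext.mpr fun a => ?_
    have hs : (∑ e ∈ (μ.filter (fun e => Even e)).toFinset, Multiset.replicate (μ.count e / 2) e).count a =
        if Even a then μ.count a / 2 else 0 := by
      rw [Multiset.count_sum']
      simp only [Multiset.count_replicate]
      by_cases ha : Even a
      · rw [if_pos ha, Finset.sum_eq_single a (fun b _ hb => by rw [if_neg hb])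
          (fun h => by
            rw [Multiset.mem_toFinset, Multiset.mem_filter, not_and_or] at h
            rcases h with h | h
            · simp [Multiset.count_eq_zero.mpr h]
            · exact absurd ha h)]
        simp
      · rw [if_neg ha]
        refine Finset.sum_eq_zero fun b hb => if_neg fun hba => ha ?_
        rw [Multiset.mem_toFinset, Multiset.mem_filter] at hb
        exact hba ▸ hb.2
    rw [Multiset.count_add, Multiset.count_add, Multiset.count_filter, hs]
    by_cases ha : Even a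
    · obtain ⟨c, hc⟩ := heven a ha
      rw [if_neg (not_not_intro ha), if_pos ha, hc]
      omega
    · rw [if_pos ha, if_neg ha]
      rfl
  · intro e he
    obtain ⟨b, hb, hbe⟩ := Multiset.mem_sum.mp he
    rw [Multiset.mem_toFinset, Multiset.mem_filter] at hb
    rw [Multiset.eq_of_mem_replicate hbe]
    exact hb.2

variable {ι : Type} [Fintype ι] [DecidableEq ι]

theorem exists_isometry_of_congr (h2 : (2 : F) ≠ 0) {κ : Type} [Fintype κ] [DecidableEq κ]
    (Q : QuadraticForm F (ι → F)) (Q' : QuadraticForm F (κ → F))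
    (h : CfsgLib.Forms.Congr (polarGram Q) (polarGram Q')) :
    ∃ e : (κ → F) ≃ₗ[F] (ι → F), ∀ v, Q (e v) = Q' v := by
  obtain ⟨x, y, hxy, hyx, hB⟩ := h
  refine ⟨LinearEquiv.ofLinearMap (Matrix.mulVecLin x) (Matrix.mulVecLin y)
      (by rw [← Matrix.mulVecLin_mul, hxy, Matrix.mulVecLin_one])
      (by rw [← Matrix.mulVecLin_mul, hyx, Matrix.mulVecLin_one]), fun v => mul_left_cancel₀ h2 ?_⟩
  show 2 * Q (x *ᵥ v) = 2 * Q' v
  have hh : (x *ᵥ v) ⬝ᵥ (polarGram Q *ᵥ (x *ᵥ v)) = v ⬝ᵥ ((xᵀ * polarGram Q * x) *ᵥ v) := by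
    rw [← mulVec_mulVec, ← mulVec_mulVec, dotProduct_mulVec v, vecMul_transpose]
  rw [← quad_polar_self, SylowTwo.polarGram_form, hh, hB, ← SylowTwo.polarGram_form, quad_polar_self]

theorem layDim_map {V W : Type*} [AddCommGroup V] [Module F V] [AddCommGroup W] [Module F W]
    [FiniteDimensional F V] (e : V ≃ₗ[F] W) (N : V →ₗ[F] V) (M : W →ₗ[F] W)
    (h : ∀ v, M (e v) = e (N v)) (s : ℕ) : layDim M ⊤ s = layDim N ⊤ s := by
  have hp : ∀ v, (M ^ s) (e v) = e ((N ^ s) v) := by
    induction s with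
    | zero => intro v; simp
    | succ s ih => intro v; rw [pow_succ_apply, pow_succ_apply, ih, h]
  have e' : (lay N ⊤ s).map e.toLinearMap = lay M ⊤ s := by
    apply le_antisymm
    · rintro _ ⟨y, ⟨hy, v, -, rfl⟩, rfl⟩
      refine ⟨?_, e v, trivial, hp v⟩
      show M (e _) = 0
      rw [h, LinearMap.mem_ker.mp hy, map_zero]
    · rintro _ ⟨hy, w, -, rfl⟩
      obtain ⟨v, rfl⟩ := e.surjective w
      refine ⟨(N ^ s) v, ⟨?_, v, trivial, rfl⟩, (hp v).symm⟩
      apply e.injective
      rw [map_zero, ← h, ← hp]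
      exact hy
  rw [layDim, layDim, ← e', LinearEquiv.finrank_map_eq]

variable [Fintype F] [Fact p.Prime] [CharP F p]

/-- An isometry of order `p` with given block sizes. -/
theorem exists_witness (h2 : (2 : F) ≠ 0) (Q : QuadraticForm F (ι → F)) (hQ : PolarNondeg Q)
    {μ : Multiset ℕ} (hμ : Part p (Fintype.card ι) μ) (hodd : ∃ e ∈ μ, ¬ Even e) :
    ∃ g : qAut Q, g ^ p = 1 ∧ ∀ s, layDim (dd g.1) ⊤ s = μ.countP (fun e => s < e) := by
  classical
  obtain ⟨hb, heven, hsum⟩ := hμ
  obtain ⟨h, hμe, he⟩ := exists_pairing μ heven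
  set o := μ.filter (fun e => ¬ Even e) with ho
  let lo := o.toList
  let lh := h.toList
  let κ := Fin lo.length ⊕ (Fin lh.length ⊕ Fin lh.length)
  let a : κ → ℕ := Sum.elim (fun i => lo.get i) (Sum.elim (fun i => lh.get i) fun i => lh.get i)
  have hmap : (Finset.univ : Finset κ).val.map a = μ := by
    have hl : ∀ l : List ℕ, (Finset.univ : Finset (Fin l.length)).val.map (fun i => l.get i) = (l : Multiset ℕ) :=
      fun l => by simp [Fin.univ_val_map]
    conv_rhs => rw [hμe]
    show (Multiset.disjSum _ (Multiset.disjSum _ _)).map a = _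
    rw [Multiset.disjSum, Multiset.disjSum, Multiset.map_add, Multiset.map_map, Multiset.map_map,
      Multiset.map_add, Multiset.map_map, Multiset.map_map]
    simp only [a, Function.comp_def, Sum.elim_inl, Sum.elim_inr, hl, lo, lh, Multiset.coe_toList]
  have hmem : ∀ k, a k ∈ μ := fun k => hmap ▸ Multiset.mem_map_of_mem a (Finset.mem_univ k)
  have hoddl : ∀ i, ¬ Even (lo.get i) := fun i =>
    (Multiset.mem_filter.mp (Multiset.mem_toList.mp (List.get_mem lo i))).2
  have hevl : ∀ i, Even (lh.get i) := fun i => he _ (Multiset.mem_toList.mp (List.get_mem lh i))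
  obtain ⟨i₀⟩ : Nonempty (Fin lo.length) := by
    obtain ⟨e, he1, he2⟩ := hodd
    have : lo ≠ [] := by
      intro hl
      have hmem : e ∈ lo := Multiset.mem_toList.mpr (Multiset.mem_filter.mpr ⟨he1, he2⟩)
      rw [hl] at hmem
      simp at hmem
    exact ⟨⟨0, List.length_pos_iff.mpr this⟩⟩
  let pr : κ → κ := Sum.elim Sum.inl (Sum.elim (fun i => Sum.inr (Sum.inr i)) fun i => Sum.inr (Sum.inl i))
  let w : F → κ → F := fun t => Sum.elim (fun i => if i = i₀ then t else 1)
    (Sum.elim (fun _ => 1) fun _ => -1)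
  have hpar : ∀ t k, w t (pr k) = (-1) ^ (a k + 1) * w t k := by
    intro t k
    rcases k with i | i | i
    · have h1 : Even (a (Sum.inl i) + 1) := Nat.even_add_one.mpr (hoddl i)
      rw [h1.neg_one_pow, one_mul]; rfl
    · have h1 : Odd (a (Sum.inr (Sum.inl i)) + 1) := (hevl i).add_one
      rw [h1.neg_one_pow]; simp [w, pr]
    · have h1 : Odd (a (Sum.inr (Sum.inr i)) + 1) := (hevl i).add_one
      rw [h1.neg_one_pow]; simp [w, pr]
  let D : ∀ t : F, t ≠ 0 → Blocks F κ p := fun t ht =>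
    { size := a
      size_pos := fun k => (hb _ (hmem k)).1
      size_le := fun k => (hb _ (hmem k)).2
      pair := pr
      pair_pair := fun k => by rcases k with i | i | i <;> rfl
      size_pair := fun k => by rcases k with i | i | i <;> rfl
      wt := w t
      wt_ne := fun k => by
        rcases k with i | i | i
        · show (if i = i₀ then t else (1 : F)) ≠ 0
          split_ifs
          exacts [ht, one_ne_zero]
        · exact one_ne_zero
        · exact neg_ne_zero.mpr one_ne_zero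
      wt_pair := hpar t }
  have hgram : ∀ t ht, polarGram (D t ht).quad =
      Matrix.of fun x y => if y = (D t ht).opp x then (D t ht).coefB x else 0 := fun t ht => by
    refine Matrix.ext fun x y => ?_
    rw [polarGram, Matrix.of_apply, Blocks.polar_quad _ h2, Blocks.bil, Matrix.toBilin'_single]
  have hcard : ∀ t ht, Fintype.card (D t ht).Idx = Fintype.card ι := fun t ht => by
    rw [Blocks.card_idx, ← hsum, ← hmap]; rfl
  have hT0 : (polarGram Q).det ≠ 0 := SylowTwo.det_polarGram_ne Q hQ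
  obtain ⟨lam, hlam⟩ := FiniteField.exists_nonsquare (F := F) (fun h => h2 (by
    haveI : CharP F 2 := h ▸ ringChar.charP F
    exact CharTwo.two_eq_zero))
  have hlam0 : lam ≠ 0 := by rintro rfl; exact hlam IsSquare.zero
  obtain ⟨t, ht, hsq⟩ : ∃ t, ∃ ht : t ≠ 0,
      IsSquare ((polarGram (D t ht).quad).det * (polarGram Q).det) := by
    by_cases hs : IsSquare ((polarGram (D 1 one_ne_zero).quad).det * (polarGram Q).det)
    · exact ⟨1, one_ne_zero, hs⟩
    refine ⟨lam, hlam0, ?_⟩
    obtain ⟨e, hdet⟩ := Blocks.det_gram_change (D 1 one_ne_zero) (D lam hlam0) rfl rfl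
      (fun k => Sum.elim (fun i => if i = i₀ then lam else 1) (fun _ => 1) k) fun k => by
        rcases k with i | i | i
        · show (if i = i₀ then lam else (1 : F)) = (if i = i₀ then lam else 1) * (if i = i₀ then 1 else 1)
          split_ifs <;> simp
        · show (1 : F) = 1 * 1
          simp
        · show (-1 : F) = 1 * -1
          simp
    rw [hgram lam hlam0, hdet, ← hgram 1 one_ne_zero, mul_assoc]
    rw [Fintype.prod_eq_single (Sum.inl i₀) fun k hk => by
      rcases k with i | i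
      · have : i ≠ i₀ := fun h => hk (by rw [h])
        simp [this]
      · simp]
    simp only [Sum.elim_inl, if_true]
    obtain ⟨c, hc⟩ := Nat.not_even_iff_odd.mp (hoddl i₀)
    have e1 : (D 1 one_ne_zero).size (Sum.inl i₀) = 2 * c + 1 := hc
    rw [e1, show lam ^ (2 * c + 1) * ((polarGram (D 1 one_ne_zero).quad).det * (polarGram Q).det) =
      lam ^ c * lam ^ c * (lam * ((polarGram (D 1 one_ne_zero).quad).det * (polarGram Q).det)) by ring]
    exact IsSquare.mul (show IsSquare (lam ^ c * lam ^ c) from ⟨lam ^ c, rfl⟩) (isSquare_mul_of_not_isSquare h2 hlam hs)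
  set Q' := (D t ht).quad with hQ'
  have hD0 : (polarGram Q').det ≠ 0 := SylowTwo.det_polarGram_ne Q' ((D t ht).polarNondeg_quad h2)
  obtain ⟨r, hr⟩ := hsq
  obtain ⟨e, he⟩ := exists_isometry_of_congr h2 Q Q' (CfsgLib.Forms.congr_of_det h2
    (SylowTwo.polarGram_transpose Q) (SylowTwo.polarGram_transpose Q') (Fintype.equivOfCardEq (hcard t ht)) hT0
    (t := r / (polarGram Q).det) (div_ne_zero (by
      rintro rfl
      rw [mul_zero, mul_eq_zero] at hr
      exact hr.elim hD0 hT0) hT0) (by rw [div_pow, sq r, ← hr]; field_simp))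
  obtain ⟨g, hgp, hgl⟩ := (D t ht).exists_isometry h2
  refine ⟨qAutCongr e he g, by rw [← map_pow, hgp, map_one], fun s => ?_⟩
  rw [layDim_map e (dd g.1) _ (fun v => ?_) s, hgl]
  · rw [← hmap, Multiset.countP_map]
    rfl
  · show e (g.1 (e.symm (e v))) - e v = e (g.1 v - v)
    rw [e.symm_apply_apply, map_sub]

/-- The block sizes of an isometry on an invariant non-degenerate subspace. -/
theorem exists_subpartition (h2 : (2 : F) ≠ 0) (Q : QuadraticForm F (ι → F)) (hQ : PolarNondeg Q)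
    {μ : Multiset ℕ} {g : qAut Q} (hgp : g ^ p = 1)
    (hlay : ∀ s, layDim (dd g.1) ⊤ s = μ.countP (fun e => s < e))
    {W : Submodule F (ι → F)} {m : ℕ} (hW : Module.finrank F W = m)
    (hWn : ∀ w ∈ W, (∀ x ∈ W, QuadraticMap.polar Q w x = 0) → w = 0) (hinv : ∀ w ∈ W, g.1 w ∈ W) :
    ∃ ν, ν ≤ μ ∧ ν.sum = m ∧ (∀ e : ℕ, Even e → Even (ν.count e)) ∧
      ((∀ e ∈ ν, Even e) → Cfsg.Geo.IsPlusTypeOn ⇑Q W) := by
  classical
  set B : LinearMap.BilinForm F (ι → F) := QuadraticMap.polarBilin Q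
  have hB : ∀ u v, B u v = QuadraticMap.polar Q u v := fun _ _ => rfl
  have hBs : ∀ u v, B u v = B v u := fun u v => QuadraticMap.polar_comm _ _ _
  have hBg : ∀ u v, B (g.1 u) (g.1 v) = B u v := qAut_polar g
  set N := dd g.1
  have hNW : ∀ w ∈ W, N w ∈ W := fun w hw => sub_mem (hinv w hw) hw
  set W' := B.orthogonal W
  have hgW : W.map (g.1 : (ι → F) →ₗ[F] (ι → F)) = W :=
    Submodule.eq_of_le_of_finrank_eq (by rintro _ ⟨w, hw, rfl⟩; exact hinv w hw) (LinearEquiv.finrank_map_eq _ _)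
  have hNW' : ∀ w ∈ W', N w ∈ W' := fun w hw => by
    refine sub_mem (fun x hx => ?_) hw
    obtain ⟨y, hy, rfl⟩ := (show x ∈ W.map (g.1 : (ι → F) →ₗ[F] (ι → F)) from hgW.symm ▸ hx)
    exact (hBg y w).trans (hw y hy)
  have hcompl : IsCompl W W' := by
    have hdis : W ⊓ W' = ⊥ := by
      rw [Submodule.eq_bot_iff]
      rintro x ⟨hx, hx'⟩
      exact hWn x hx fun y hy => (QuadraticMap.polar_comm _ _ _).trans (hx' y hy)
    refine IsCompl.of_eq hdis (Submodule.eq_top_of_finrank_eq ?_)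
    have h1 := Submodule.finrank_sup_add_finrank_inf_eq W W'
    have h3 := Submodule.finrank_le W
    have h4 : Module.finrank F W' = Module.finrank F (ι → F) - Module.finrank F W :=
      LinearMap.BilinForm.finrank_orthogonal (B := B) (PolarNondeg.nondegenerate hQ) W
    rw [hdis, finrank_bot, h4] at h1
    omega
  have hNp : N ^ p = 0 := dd_pow_char fun v => by
    have hpow : ∀ (n : ℕ) (w : ι → F), ((g.1 : (ι → F) →ₗ[F] (ι → F)) ^ n) w = (g ^ n).1 w := by
      intro n
      induction n with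
      | zero => intro w; simp
      | succ n ih => intro w; rw [pow_succ_apply, ih, pow_succ', qAut_mul_apply]; rfl
    rw [hpow, hgp]; rfl
  set dW := layDim N W
  let gW : W ≃ₗ[F] W := g.1.ofSubmodules W W hgW
  have hgWv : ∀ w : W, (gW w : ι → F) = g.1 w := fun w => rfl
  have hNrest : dd gW = N.restrict hNW := LinearMap.ext fun w => Subtype.ext rfl
  have hdW : ∀ s, layDim (dd gW) ⊤ s = dW s := fun s => by rw [hNrest, layDim_restrict]
  set BW := B.restrict W
  have hBWn : BW.Nondegenerate := by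
    have h : ∀ w : W, (∀ x : W, BW w x = 0) → w = 0 := fun w hw =>
      Subtype.ext (hWn w w.2 fun x hx => hw ⟨x, hx⟩)
    exact ⟨h, fun w hw => h w fun x => (hBs _ _).trans (hw x)⟩
  have hBWs : ∀ u v : W, BW u v = BW v u := fun u v => hBs u v
  have hBWg : ∀ u v : W, BW (gW u) (gW v) = BW u v := fun u v => hBg u v
  let c : ℕ → ℕ := fun s => dW s - dW (s + 1)
  let ν : Multiset ℕ := ∑ s ∈ Finset.range p, Multiset.replicate (c s) (s + 1)
  have hcount : ∀ e, ν.count e = if 1 ≤ e ∧ e ≤ p then c (e - 1) else 0 := by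
    intro e
    rw [Multiset.count_sum']
    simp only [Multiset.count_replicate]
    split_ifs with he
    · rw [Finset.sum_eq_single (e - 1) (fun b _ hb => if_neg (by omega))
        (fun h => absurd (Finset.mem_range.mpr (by omega)) h), if_pos (by omega)]
    · exact Finset.sum_eq_zero fun b hb => if_neg (by have := Finset.mem_range.mp hb; omega)
  have hsucc : ∀ s, dW (s + 1) ≤ dW s := fun s => Submodule.finrank_mono (lay_succ_le hNW s)
  have hdp : dW p = 0 := by
    show Module.finrank F (lay N W p) = 0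
    rw [lay, hNp, Submodule.map_zero, inf_bot_eq, finrank_bot]
  refine ⟨ν, ?_, ?_, ?_, ?_⟩
  · rw [Multiset.le_iff_count]
    intro e
    rw [hcount]
    split_ifs with he
    · obtain ⟨s, rfl⟩ : ∃ s, e = s + 1 := ⟨e - 1, by omega⟩
      have h1 := layDim_compl hNW hNW' hcompl s
      have h2' := layDim_compl hNW hNW' hcompl (s + 1)
      have h3 : layDim N W' (s + 1) ≤ layDim N W' s := Submodule.finrank_mono (lay_succ_le hNW' s)
      have h4 := countP_lt_succ μ s
      have h5 := hsucc s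
      rw [← hlay, ← hlay] at h4
      show dW (s + 1 - 1) - dW (s + 1 - 1 + 1) ≤ _
      rw [Nat.add_sub_cancel]
      show layDim N W s - layDim N W (s + 1) ≤ _
      omega
    · exact Nat.zero_le _
  · have hsum : ∀ k, (∑ s ∈ Finset.range k, (s + 1) * c s) + k * dW k = ∑ s ∈ Finset.range k, dW s := by
      intro k
      induction k with
      | zero => simp
      | succ k ih =>
        rw [Finset.sum_range_succ, Finset.sum_range_succ, ← ih]
        obtain ⟨x, hx⟩ : ∃ x, dW k = dW (k + 1) + x := ⟨_, (Nat.add_sub_of_le (hsucc k)).symm⟩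
        simp only [c, hx, Nat.add_sub_cancel_left]
        ring
    have h := sum_lay N W p
    rw [hNp, Submodule.map_zero, finrank_bot, zero_add, hW] at h
    have h' := hsum p
    rw [hdp, mul_zero, add_zero] at h'
    have hcoe : ν.sum = ∑ s ∈ Finset.range p, (s + 1) * c s := by
      show (Multiset.sumAddMonoidHom : Multiset ℕ →+ ℕ) ν = _
      rw [map_sum]
      refine Finset.sum_congr rfl fun s _ => ?_
      show (Multiset.replicate (c s) (s + 1)).sum = _
      rw [Multiset.sum_replicate, smul_eq_mul, mul_comm]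
    rw [hcoe, h', ← h]
  · intro e he
    rw [hcount]
    split_ifs with h1
    · obtain ⟨s, rfl⟩ : ∃ s, e = s + 1 := ⟨e - 1, by omega⟩
      have := (even_drop BW hBWs hBWn gW hBWg h2
        (s := s) (Nat.not_even_iff_odd.mp (Nat.even_add_one.mp he))).2
      rw [hdW, hdW] at this
      simpa [c] using this
    · exact ⟨0, rfl⟩
  · intro hev
    have hC : ∀ j, layDim (dd gW) ⊤ (2 * j) = layDim (dd gW) ⊤ (2 * j + 1) := fun j => by
      rw [hdW, hdW]
      have h1 := hsucc (2 * j)
      rcases Nat.lt_or_ge (2 * j) p with hj | hj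
      · have h0 : ν.count (2 * j + 1) = 0 :=
          Multiset.count_eq_zero.mpr fun h => Nat.not_even_two_mul_add_one j (hev _ h)
        rw [hcount, if_pos ⟨by omega, hj⟩, Nat.add_sub_cancel] at h0
        have : dW (2 * j) - dW (2 * j + 1) = 0 := h0
        omega
      · have hle : ∀ k, p ≤ k → dW k = 0 := fun k hk => by
          induction k, hk using Nat.le_induction with
          | base => exact hdp
          | succ k _ ih => have := hsucc k; omega
        rw [hle _ hj, hle _ (by omega)]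
    have hrange : LinearMap.range ((dd gW) ^ p) = ⊥ := by
      rw [LinearMap.range_eq_bot, hNrest]
      exact LinearMap.ext fun w => Subtype.ext (by rw [restrict_pow_apply, hNp]; rfl)
    obtain ⟨U, hU, hUd⟩ := exists_half_isotropic BW hBWs hBWn gW hBWg hrange hC
    refine ⟨U.map W.subtype, Submodule.map_subtype_le W U, ?_, ?_⟩
    · rintro _ ⟨u, hu, rfl⟩
      have h := hU u hu u hu
      change QuadraticMap.polar Q (u : ι → F) u = 0 at h
      rw [quad_polar_self] at h
      exact (mul_eq_zero.mp h).resolve_left h2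
    · rw [← (Submodule.equivMapOfInjective _ W.injective_subtype U).finrank_eq, hUd]

/-- The criterion. -/
theorem criterion (h2 : (2 : F) ≠ 0) (Q : QuadraticForm F (ι → F)) (hQ : PolarNondeg Q) (hp : p ≠ 2) {m : ℕ}
    (P : Submodule F (ι → F) → Prop)
    (h : ∀ g : qAut Q, g ∈ commutator (qAut Q) → g ^ p = 1 → g ≠ 1 →
      ∃ W : Submodule F (ι → F), Module.finrank F W = m ∧
        (∀ w ∈ W, (∀ x ∈ W, QuadraticMap.polar Q w x = 0) → w = 0) ∧ P W ∧ ∀ w ∈ W, g.1 w ∈ W)
    {μ : Multiset ℕ} (hμ : Part p (Fintype.card ι) μ) (hodd : ∃ e ∈ μ, ¬ Even e) (hbig : ∃ e ∈ μ, 2 ≤ e) :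
    ∃ ν, ν ≤ μ ∧ ν.sum = m ∧ (∀ e : ℕ, Even e → Even (ν.count e)) ∧
      ((∀ e ∈ ν, Even e) → ∃ W, P W ∧ Cfsg.Geo.IsPlusTypeOn ⇑Q W) := by
  classical
  obtain ⟨g, hgp, hlay⟩ := exists_witness h2 Q hQ hμ hodd
  obtain ⟨e, he, he2⟩ := hbig
  have hg1 : g ≠ 1 := fun hg => by
    have h1 := hlay 1
    have h0 : dd g.1 = 0 := by
      rw [hg]
      exact LinearMap.ext fun v => sub_self v
    rw [layDim, lay, h0, pow_one, Submodule.map_zero, inf_bot_eq, finrank_bot] at h1
    have hpos : 0 < μ.countP (fun e => 1 < e) := Multiset.countP_pos.mpr ⟨e, he, (show 1 < e by omega)⟩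
    exact hpos.ne h1
  have hn : 2 ≤ Module.finrank F (ι → F) := by
    rw [Module.finrank_pi]
    have := Multiset.le_sum_of_mem he
    rw [hμ.2.2] at this
    omega
  have hmem : g ∈ commutator (qAut Q) := by
    have h4 : g ^ 4 ∈ commutator (qAut Q) := by
      have := Subgroup.pow_index_mem (commutator (qAut Q)) g
      rwa [index_commutator_odd Q h2 hQ hn] at this
    have hcop : Nat.gcd 4 p = 1 := by
      have hpp : p.Prime := Fact.out
      exact (show Nat.Coprime (2 ^ 2) p from ((Nat.coprime_primes Nat.prime_two hpp).mpr (Ne.symm hp)).pow_left 2)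
    have key := Nat.gcd_eq_gcd_ab 4 p
    rw [hcop] at key
    have : g = (g ^ 4) ^ Nat.gcdA 4 p * (g ^ p) ^ Nat.gcdB 4 p := by
      rw [← zpow_natCast g 4, ← zpow_natCast g p, ← _root_.zpow_mul, ← _root_.zpow_mul, ← _root_.zpow_add, ← key]
      simp
    rw [this, hgp, _root_.one_zpow, mul_one]
    exact Subgroup.zpow_mem _ h4 _
  obtain ⟨W, hW, hWn, hP, hinv⟩ := h g hmem hgp hg1
  obtain ⟨ν, h1, h2', h3, h4⟩ := exists_subpartition h2 Q hQ hgp hlay hW hWn hinv
  exact ⟨ν, h1, h2', h3, fun he => ⟨W, hP, h4 he⟩⟩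

/-- The partition condition of the three statements. -/
theorem partition_condition (h2 : (2 : F) ≠ 0) (Q : QuadraticForm F (ι → F)) (hQ : PolarNondeg Q) (hp : p ≠ 2)
    {m : ℕ} (hm : Even m) (hmn : m ≤ Fintype.card ι) (P : Submodule F (ι → F) → Prop)
    (h : ∀ g : qAut Q, g ∈ commutator (qAut Q) → g ^ p = 1 → g ≠ 1 →
      ∃ W : Submodule F (ι → F), Module.finrank F W = m ∧
        (∀ w ∈ W, (∀ x ∈ W, QuadraticMap.polar Q w x = 0) → w = 0) ∧ P W ∧ ∀ w ∈ W, g.1 w ∈ W)
    (μ : Multiset ℕ) (hb : ∀ e ∈ μ, 0 < e ∧ e ≤ p) (heven : ∀ e : ℕ, Even e → Even (μ.count e))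
    (hsum : μ.sum = Fintype.card ι) :
    ∃ ν : Multiset ℕ, ν ≤ μ ∧ ν.sum = m ∧ ∀ e : ℕ, Even e → Even (ν.count e) := by
  classical
  have hpo : ¬ Even p := Nat.not_even_iff_odd.mpr ((Fact.out : p.Prime).odd_of_ne_two hp)
  by_cases hbig : ∃ e ∈ μ, 2 ≤ e
  swap
  · push Not at hbig
    have h1 : μ = Multiset.replicate (Multiset.card μ) 1 :=
      Multiset.eq_replicate_card.mpr fun e he => by have := hb e he; have := hbig e he; omega
    refine ⟨Multiset.replicate m 1, ?_, by simp, fun e he => ?_⟩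
    · rw [h1]
      refine Multiset.le_iff_count.mpr fun x => ?_
      rw [Multiset.count_replicate, Multiset.count_replicate]
      split_ifs
      swap
      · exact le_rfl
      rw [h1, Multiset.sum_replicate, smul_eq_mul, mul_one] at hsum
      omega
    · rw [Multiset.count_replicate, if_neg (fun h => by rw [← h] at he; exact Nat.not_even_one he)]
      exact ⟨0, rfl⟩
  by_cases hodd : ∃ e ∈ μ, ¬ Even e
  · obtain ⟨ν, h1, h2', h3, -⟩ := criterion h2 Q hQ hp P h ⟨hb, heven, hsum⟩ hodd hbig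
    exact ⟨ν, h1, h2', h3⟩
  push Not at hodd
  obtain ⟨a, ha, ha2⟩ := hbig
  have haev := hodd a ha
  have hap : a < p := lt_of_le_of_ne (hb a ha).2 fun h => hpo (h ▸ haev)
  have hacount : 2 ≤ μ.count a := by
    obtain ⟨c, hc⟩ := heven a haev
    have := Multiset.count_pos.mpr ha
    omega
  set ρ := μ - Multiset.replicate 2 a with hρ
  have hμρ : μ = ρ + Multiset.replicate 2 a :=
    (Multiset.sub_add_cancel (Multiset.le_count_iff_replicate_le.mp hacount)).symm
  have hρev : ∀ e ∈ ρ, Even e := fun e he => hodd e (hμρ ▸ Multiset.mem_add.mpr (Or.inl he))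
  obtain ⟨c, hc⟩ := haev
  have hne1 : ∀ e, Even e → e ≠ a - 1 ∧ e ≠ a + 1 := fun e he => by
    obtain ⟨d, hd⟩ := he; omega
  let μ' := ρ + {a - 1, a + 1}
  have hμ' : Part p (Fintype.card ι) μ' := by
    refine ⟨fun e he => ?_, fun e he => ?_, ?_⟩
    · rcases Multiset.mem_add.mp he with h' | h'
      · exact hb e (hμρ ▸ Multiset.mem_add.mpr (Or.inl h'))
      · simp at h'; omega
    · obtain ⟨n1, n2⟩ := hne1 e he
      have h1 : μ.count e = ρ.count e + (Multiset.replicate 2 a).count e := by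
        conv_lhs => rw [hμρ, Multiset.count_add]
      have h2' : μ'.count e = ρ.count e := by
        simp [μ', Multiset.count_cons, n1, n2]
      rw [h2']
      obtain ⟨d, hd⟩ := heven e he
      rw [Multiset.count_replicate] at h1
      split_ifs at h1 with hea
      · exact ⟨d - 1, by omega⟩
      · exact ⟨d, by omega⟩
    · rw [← hsum, hμρ]; simp [μ']; omega
  obtain ⟨ν', hle, hs, hev, -⟩ := criterion h2 Q hQ hp P h hμ'
    ⟨a + 1, by simp [μ'], by rw [Nat.even_add_one, not_not]; exact ⟨c, hc⟩⟩ ⟨a + 1, by simp [μ'], by omega⟩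
  set ν₁ := ν'.filter (fun e => Even e)
  set ν₂ := ν'.filter (fun e => ¬ Even e)
  have hν : ν₁ + ν₂ = ν' := Multiset.filter_add_not _ _
  have hν1 : ν₁ ≤ ρ := by
    refine (Multiset.filter_le_filter _ hle).trans ?_
    rw [Multiset.filter_add, (Multiset.filter_eq_nil (s := ({a - 1, a + 1} : Multiset ℕ))).mpr fun e he hee => ?_,
      add_zero]
    · exact Multiset.filter_le _ _
    · obtain ⟨n1, n2⟩ := hne1 e hee
      simp at he; omega
  have hν2 : ν₂ ≤ {a - 1, a + 1} := by
    refine (Multiset.filter_le_filter _ hle).trans ?_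
    rw [Multiset.filter_add, Multiset.filter_eq_nil.mpr fun e he hee => hee (hρev e he), zero_add]
    exact Multiset.filter_le _ _
  have hs1 : Even ν₁.sum := (even_iff_two_dvd).mpr (Multiset.dvd_sum fun e he =>
    even_iff_two_dvd.mp (Multiset.mem_filter.mp he).2)
  have hev1 : ∀ e : ℕ, Even e → Even (ν₁.count e) := fun e he => by
    rw [Multiset.count_filter, if_pos he]; exact hev e he
  have hsum12 : ν₁.sum + ν₂.sum = m := by rw [← Multiset.sum_add, hν, hs]
  obtain ⟨k, hk⟩ := hs1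
  obtain ⟨l, hl⟩ := hm
  have hν2' : ν₂ = 0 ∨ ν₂ = {a + 1} ∨ {a - 1} = ν₂ ∨ (a - 1) ::ₘ {a + 1} = ν₂ := by
    have := Multiset.mem_powerset.mpr hν2
    simpa [or_assoc] using this
  rcases hν2' with h0 | h0 | h0 | h0
  · refine ⟨ν₁, hν1.trans (hμρ ▸ Multiset.le_add_right _ _), ?_, hev1⟩
    rw [h0] at hsum12
    simpa using hsum12
  · rw [h0] at hsum12; simp at hsum12; omega
  · rw [← h0] at hsum12; simp at hsum12; omega
  · refine ⟨ν₁ + Multiset.replicate 2 a, hμρ ▸ Multiset.add_le_add_right hν1, ?_, fun e he => ?_⟩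
    · rw [← h0] at hsum12
      simp at hsum12
      simp
      omega
    · rw [Multiset.count_add, Multiset.count_replicate]
      refine (hev1 e he).add ?_
      split_ifs
      exacts [even_two, ⟨0, rfl⟩]

/-- Sub-multisets of twos and a few odd numbers. -/
theorem subpartition_twos {k : ℕ} {o ν : Multiset ℕ} (ho : ∀ e ∈ o, ¬ Even e)
    (hle : ν ≤ Multiset.replicate k 2 + o) (hev : ∀ e : ℕ, Even e → Even (ν.count e)) :
    ∃ c ν₂, ν₂ ≤ o ∧ ν.sum = 4 * c + ν₂.sum ∧ (ν₂ = 0 → ∀ e ∈ ν, Even e) := by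
  classical
  refine ⟨ν.count 2 / 2, ν.filter (fun e => ¬ Even e), ?_, ?_, fun h0 e he => ?_⟩
  · refine (Multiset.filter_le_filter _ hle).trans ?_
    rw [Multiset.filter_add, Multiset.filter_eq_nil.mpr fun e he h => h (by
      rw [Multiset.eq_of_mem_replicate he]; exact even_two), zero_add]
    exact Multiset.filter_le _ _
  · have h1 : ν.filter (fun e => Even e) = Multiset.replicate (ν.count 2) 2 := by
      rw [← Multiset.filter_eq' ν 2]
      refine Multiset.filter_congr fun e he => ⟨fun h => ?_, fun h => h ▸ even_two⟩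
      rcases Multiset.mem_add.mp (Multiset.mem_of_le hle he) with h' | h'
      · exact Multiset.eq_of_mem_replicate h'
      · exact absurd h (ho e h')
    obtain ⟨d, hd⟩ := hev 2 even_two
    have h2 : ν.filter (fun e => Even e) + ν.filter (fun e => ¬ Even e) = ν := Multiset.filter_add_not _ _
    have h3 := congrArg Multiset.sum h2
    rw [Multiset.sum_add, h1, Multiset.sum_replicate, smul_eq_mul] at h3
    omega
  · by_contra h
    have : e ∈ ν.filter (fun e => ¬ Even e) := Multiset.mem_filter.mpr ⟨he, h⟩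
    rw [h0] at this
    simp at this

theorem part_twos {n k : ℕ} {o : Multiset ℕ} (hk : Even k) (hp : 3 ≤ p) (ho : ∀ e ∈ o, e = 1 ∨ e = 3)
    (hn : 2 * k + o.sum = n) : Part p n (Multiset.replicate k 2 + o) := by
  refine ⟨fun e he => ?_, fun e he => ?_, by simp; omega⟩
  · rcases Multiset.mem_add.mp he with h | h
    · rw [Multiset.eq_of_mem_replicate h]; omega
    · rcases ho e h with rfl | rfl <;> omega
  · rw [Multiset.count_add, Multiset.count_replicate,
      Multiset.count_eq_zero.mpr (fun h => by rcases ho e h with rfl | rfl <;> simp [Nat.even_iff] at he)]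
    split_ifs
    · simpa using hk
    · exact ⟨0, rfl⟩

/-- The congruence for hyperbolic subspaces in odd dimension. -/
theorem mod_four_odd (h2 : (2 : F) ≠ 0) (Q : QuadraticForm F (ι → F)) (hQ : PolarNondeg Q) (hp : p ≠ 2)
    {d m : ℕ} (hd : 2 ≤ d) (hι : Fintype.card ι = 2 * d + 1) (hm : Even m) (P : Submodule F (ι → F) → Prop)
    (h : ∀ g : qAut Q, g ∈ commutator (qAut Q) → g ^ p = 1 → g ≠ 1 →
      ∃ W : Submodule F (ι → F), Module.finrank F W = m ∧
        (∀ w ∈ W, (∀ x ∈ W, QuadraticMap.polar Q w x = 0) → w = 0) ∧ P W ∧ ∀ w ∈ W, g.1 w ∈ W) :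
    m % 4 = 0 := by
  have hp3 : 3 ≤ p := by have := (Fact.out : p.Prime).two_le; omega
  obtain ⟨o, k, hk, ho, hn, hk2, ho2⟩ : ∃ (o k : ℕ), Even k ∧ (o = 1 ∨ o = 3) ∧ 2 * k + o = 2 * d + 1 ∧
      2 ≤ k ∧ ¬ Even o := by
    rcases Nat.even_or_odd d with he | he
    · exact ⟨1, d, he, Or.inl rfl, rfl, hd, Nat.not_even_one⟩
    · obtain ⟨c, rfl⟩ := he
      exact ⟨3, 2 * c, even_two_mul c, Or.inr rfl, by omega, by omega, by decide⟩
  obtain ⟨ν, hle, hs, hev, -⟩ := criterion h2 Q hQ hp P h (μ := Multiset.replicate k 2 + {o})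
    (part_twos hk hp3 (by simpa using ho) (by simp; omega)) ⟨o, by simp, ho2⟩
    ⟨2, Multiset.mem_add.mpr (Or.inl (Multiset.mem_replicate.mpr ⟨by omega, rfl⟩)), le_rfl⟩
  obtain ⟨c, ν₂, hle2, hsum, -⟩ := subpartition_twos (by simpa using ho2) hle hev
  rcases Multiset.le_singleton.mp hle2 with h0 | h0 <;> rw [h0] at hsum <;> simp at hsum
  · omega
  · obtain ⟨l, hl⟩ := hm; omega

/-- The congruence for elliptic subspaces in even dimension. -/
theorem mod_four_even (h2 : (2 : F) ≠ 0) (Q : QuadraticForm F (ι → F)) (hQ : PolarNondeg Q) (hp : p ≠ 2)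
    {d m : ℕ} (hd : 3 ≤ d) (hι : Fintype.card ι = 2 * d) (hm : Even m) (P : Submodule F (ι → F) → Prop)
    (hP : ∀ W, P W → ¬ Cfsg.Geo.IsPlusTypeOn ⇑Q W)
    (h : ∀ g : qAut Q, g ∈ commutator (qAut Q) → g ^ p = 1 → g ≠ 1 →
      ∃ W : Submodule F (ι → F), Module.finrank F W = m ∧
        (∀ w ∈ W, (∀ x ∈ W, QuadraticMap.polar Q w x = 0) → w = 0) ∧ P W ∧ ∀ w ∈ W, g.1 w ∈ W) :
    (2 * d) % 4 = m % 4 := by
  classical
  have hp3 : 3 ≤ p := by have := (Fact.out : p.Prime).two_le; omega
  obtain ⟨o, k, hk, ho, hn, hk2⟩ : ∃ (o k : ℕ), Even k ∧ (o = 1 ∨ o = 3) ∧ 2 * k + (1 + o) = 2 * d ∧ 2 ≤ k := by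
    rcases Nat.even_or_odd d with he | he
    · obtain ⟨c, rfl⟩ := he
      exact ⟨3, 2 * (c - 1), even_two_mul _, Or.inr rfl, by omega, by omega⟩
    · obtain ⟨c, rfl⟩ := he
      exact ⟨1, 2 * c, even_two_mul c, Or.inl rfl, by omega, by omega⟩
  have ho2 : ¬ Even o := by rcases ho with rfl | rfl <;> decide
  obtain ⟨ν, hle, hs, hev, hplus⟩ := criterion h2 Q hQ hp P h (μ := Multiset.replicate k 2 + {1, o})
    (part_twos hk hp3 (by simpa using ho) (by simp; omega))
    ⟨1, by simp, Nat.not_even_one⟩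
    ⟨2, Multiset.mem_add.mpr (Or.inl (Multiset.mem_replicate.mpr ⟨by omega, rfl⟩)), le_rfl⟩
  obtain ⟨c, ν₂, hle2, hsum, hall⟩ := subpartition_twos (by simp [Nat.not_even_one, ho2, Nat.not_even_iff_odd.mp ho2]) hle hev
  have hne : ν₂ ≠ 0 := fun h0 => by
    obtain ⟨W, hW, hW'⟩ := hplus (hall h0)
    exact hP W hW hW'
  have hν2' : ν₂ = 0 ∨ ν₂ = {o} ∨ {1} = ν₂ ∨ 1 ::ₘ {o} = ν₂ := by
    have := Multiset.mem_powerset.mpr hle2
    simpa [or_assoc] using this
  obtain ⟨l, hl⟩ := hm
  obtain ⟨k', hk'⟩ := hk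
  rcases hν2' with h0 | h0 | h0 | h0
  · exact absurd h0 hne
  · rw [h0] at hsum; simp at hsum; omega
  all_goals rw [← h0] at hsum; simp at hsum; omega

omit [Fintype F] in
/-- From matrices to automorphisms. -/
theorem qAut_version (Q : QuadraticForm F (ι → F)) [Nonempty ι] {m : ℕ} (P : Submodule F (ι → F) → Prop)
    (h : ∀ x : GL ι F, x ∈ Cfsg.Geo.omegaGL ⇑Q → x ^ p = 1 →
      (∀ z : F, (x : Matrix ι ι F) ≠ z • (1 : Matrix ι ι F)) →
      ∃ W : Submodule F (ι → F), (Module.finrank F W = m ∧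
        Cfsg.Geo.IsNondegenerateOn (QuadraticMap.polar ⇑Q) W ∧ P W) ∧
        W.map (Matrix.toLin' (x : Matrix ι ι F)) ≤ W) :
    ∀ g : qAut Q, g ∈ commutator (qAut Q) → g ^ p = 1 → g ≠ 1 →
      ∃ W : Submodule F (ι → F), Module.finrank F W = m ∧
        (∀ w ∈ W, (∀ x ∈ W, QuadraticMap.polar Q w x = 0) → w = 0) ∧ P W ∧ ∀ w ∈ W, g.1 w ∈ W := by
  intro g hg hgp hg1
  obtain ⟨g', rfl⟩ := (isoEquiv Q).surjective g
  have hmem : (g' : GL ι F) ∈ Cfsg.Geo.omegaGL ⇑Q :=
    Subgroup.mem_map_of_mem (Cfsg.isometryGroup F ⇑Q).subtype ((mem_Omega_iff Q).mpr hg)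
  have hpow : g' ^ p = 1 := (isoEquiv Q).injective (by rw [map_pow, hgp, map_one])
  have hx : (g' : GL ι F) ^ p = 1 := by rw [← Subgroup.coe_pow, hpow]; rfl
  obtain ⟨W, ⟨hW, hWn, hP⟩, hWx⟩ := h g' hmem hx fun z hz => hg1 (by
    have hx' : ((g' : GL ι F) : Matrix ι ι F) ^ p = 1 := by
      rw [← Units.val_pow_eq_pow_val, hx, Units.val_one]
    rw [hz, smul_pow, one_pow] at hx'
    obtain ⟨i⟩ := ‹Nonempty ι›
    have hzp : z ^ p = 1 := by simpa using congrFun (congrFun hx' i) i
    have hz1 : z = 1 := frobenius_inj F p (by simpa [frobenius_def] using hzp)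
    refine (map_eq_one_iff (isoEquiv Q) (isoEquiv Q).injective).mpr (Subtype.ext (Units.ext ?_))
    rw [hz, hz1, one_smul]; rfl)
  refine ⟨W, hW, fun w hw hall => ?_, hP, fun w hw => hWx ⟨w, hw, rfl⟩⟩
  by_contra h0
  obtain ⟨x, hxW, hne⟩ := (hWn w hw h0).2
  exact hne (hall x hxW)

end CfsgLib.Classical.Elusive
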