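/-
Elements of prime order of the special linear group with a fixed symmetric form up to a scalar.
-/
import Cfsg.Agent.Lib.Classical.Elusive.SLFormBasic
import Cfsg.Agent.Lib.Classical.FiniteFieldSq
import Mathlib.FieldTheory.KummerPolynomial

set_option autoImplicit false

namespace CfsgLib.Classical.Elusive.SLForm

open Matrix CfsgLib.Forms

variable {F : Type*} [Field F] [Fintype F] {n : ℕ}

/-- An element whose square is a square scalar. -/
theorem fixes_square (hn : 1 ≤ n) (h2 : (2 : F) ≠ 0) {A : Matrix (Fin n) (Fin n) F} (hAs : Aᵀ = A) (hA : A.det ≠ 0)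
    {x : GL (Fin n) F} {α : Fˣ} (hx : (x : Matrix (Fin n) (Fin n) F) ^ 2 = ((α : F) ^ 2) • 1) : Fixes A x := by
  classical
  haveI : Nonempty (Fin n) := ⟨⟨0, hn⟩⟩
  let s : GL (Fin n) F := diagGL fun _ => α
  have hs : ∀ M : Matrix (Fin n) (Fin n) F, ((s⁻¹ : GL (Fin n) F) : Matrix (Fin n) (Fin n) F) * M = ((α⁻¹ : Fˣ) : F) • M :=
    fun M => by
      show (Matrix.diagonal fun _ => ((α⁻¹ : Fˣ) : F)) * M = _
      rw [← smul_eq_diagonal_mul]
  have hy : (s⁻¹ * x) ^ 2 = 1 := by
    apply Units.ext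
    rw [Units.val_pow_eq_pow_val, Units.val_mul, hs, smul_pow, hx, smul_smul, ← mul_pow, ← Units.val_mul,
      inv_mul_cancel, Units.val_one, one_pow, one_smul]
    rfl
  have hω : IsPrimitiveRoot (-1 : Fˣ) 2 := by
    rw [← IsPrimitiveRoot.coe_units_iff]
    refine IsPrimitiveRoot.mk_of_lt _ (by norm_num) (by simp) fun l hl0 hl => ?_
    obtain rfl : l = 1 := by omega
    simp only [Units.val_neg, Units.val_one, pow_one]
    exact fun h => h2 (by linear_combination -h)
  obtain ⟨y, a, hya⟩ := exists_diag hω (s⁻¹ * x) hy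
  let v : Fin n → Fˣ := fun i => α * (-1) ^ (a i : ℕ)
  obtain ⟨d, hd⟩ := exists_congr_diagonal h2 hAs
  refine fixes_of_model hd.formEquiv (x₀ := diagGL v) (y₀ := y) ?_ ?_ (diag_centralizer_det v)
  · have hcomm : y⁻¹ * s = s * y⁻¹ := Units.ext (by
      rw [Units.val_mul, Units.val_mul, show (s : Matrix (Fin n) (Fin n) F) = Matrix.diagonal fun _ => (α : F) from rfl,
        ← smul_eq_mul_diagonal, ← smul_eq_diagonal_mul])
    have e : y⁻¹ * x * y = s * (y⁻¹ * (s⁻¹ * x) * y) := by
      rw [← mul_assoc, ← mul_assoc, ← hcomm]; group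
    rw [e, hya]
    apply Units.ext
    rw [Units.val_mul, show (s : Matrix (Fin n) (Fin n) F) = Matrix.diagonal fun _ => (α : F) from rfl,
      diagGL_val, diagGL_val, diagonal_mul_diagonal]
    simp [v]
  · refine mem_simBil.2 ⟨α ^ 2, ?_⟩
    rw [diagGL_val, diagonal_transpose, diagonal_mul_diagonal, diagonal_mul_diagonal, ← diagonal_smul]
    congr 1
    funext i
    simp only [v, Pi.smul_apply, smul_eq_mul, Units.val_mul, Units.val_pow_eq_pow_val, Units.val_neg, Units.val_one]
    have h1 : ((-1 : F) ^ (a i : ℕ)) * ((-1 : F) ^ (a i : ℕ)) = 1 := by rw [← mul_pow]; norm_num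
    linear_combination ((α : F) ^ 2 * d i) * h1

/-- An element whose square is a non-square scalar. -/
theorem fixes_nonsquare (hn : 1 ≤ n) (h2 : (2 : F) ≠ 0) {A : Matrix (Fin n) (Fin n) F} (hAs : Aᵀ = A) (hA : A.det ≠ 0)
    {x : GL (Fin n) F} {z : F} (hz : ¬ IsSquare z) (hx : (x : Matrix (Fin n) (Fin n) F) ^ 2 = z • 1) :
    Fixes A x := by
  classical
  open Polynomial in
  have hz0 : z ≠ 0 := fun h => hz (h ▸ IsSquare.zero)
  let P : Polynomial F := Polynomial.X ^ 2 - Polynomial.C z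
  have hP : Irreducible P := X_pow_sub_C_irreducible_of_prime Nat.prime_two fun b hb => hz ⟨b, by rw [← hb, sq]⟩
  haveI : Fact (Irreducible P) := ⟨hP⟩
  have hdeg : P.natDegree = 2 := Polynomial.natDegree_X_pow_sub_C
  have hann : ∀ M : Matrix (Fin n) (Fin n) F, M ^ 2 = z • 1 →
      Polynomial.aeval (Matrix.toLinAlgEquiv' M : Module.End F (Fin n → F)) P = 0 := fun M hM => by
    simp only [P, map_sub, map_pow, Polynomial.aeval_X, Polynomial.aeval_C]
    rw [← map_pow, hM, map_smul, map_one, Algebra.algebraMap_eq_smul_one, sub_self]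
  have hdvd := CfsgLib.Classical.Primary.natDegree_dvd_finrank P _ (hann _ hx)
  rw [hdeg, Module.finrank_pi, Fintype.card_fin] at hdvd
  obtain ⟨k, hk⟩ := hdvd
  let e : Fin 2 × Fin k ≃ Fin n := Fintype.equivOfCardEq (by simp [hk])
  let R : (Fin k → Matrix (Fin 2) (Fin 2) F) → Matrix (Fin n) (Fin n) F := fun M =>
    (Matrix.blockDiagonal M).submatrix e.symm e.symm
  have hRmul : ∀ M N, R M * R N = R fun l => M l * N l := fun M N => by
    simp only [R]
    rw [submatrix_mul_equiv, ← blockDiagonal_mul]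
  have hRdet : ∀ M, (R M).det = ∏ l, (M l).det := fun M => by
    simp only [R]; rw [det_submatrix_equiv_self, det_blockDiagonal]
  have hRt : ∀ M, (R M)ᵀ = R fun l => (M l)ᵀ := fun M => by
    simp only [R]; rw [transpose_submatrix, blockDiagonal_transpose]
  have hRs : ∀ (c : F) M, R (fun l => c • M l) = c • R M := fun c M => by
    simp only [R]; rw [show (fun l => c • M l) = c • M from rfl, blockDiagonal_smul]; rfl
  have hR1 : R (fun _ => 1) = 1 := by
    simp only [R]; rw [show (fun _ : Fin k => (1 : Matrix (Fin 2) (Fin 2) F)) = 1 from rfl, blockDiagonal_one, submatrix_one_equiv]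
  -- the model element
  let M0 : Matrix (Fin 2) (Fin 2) F := !![0, z; 1, 0]
  have hX2 : R (fun _ => M0) ^ 2 = z • 1 := by
    rw [sq, hRmul, ← hR1, ← hRs]
    congr 1; funext l; ext i j
    fin_cases i <;> fin_cases j <;> simp [M0, Matrix.mul_apply, Fin.sum_univ_two]
  have hXdet : (R fun _ => M0).det ≠ 0 := by
    rw [hRdet]; exact Finset.prod_ne_zero_iff.2 fun l _ => by simp [M0, Matrix.det_fin_two, hz0]
  let x₀ : GL (Fin n) F := GeneralLinearGroup.mkOfDetNeZero _ hXdet
  obtain ⟨E, hE⟩ := CfsgLib.Classical.Primary.exists_intertwine P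
    (Matrix.toLinAlgEquiv' (R fun _ => M0)) (hann _ hX2) (Matrix.toLinAlgEquiv' (x : Matrix (Fin n) (Fin n) F)) (hann _ hx) rfl
  let Y := LinearMap.toMatrix' E.toLinearMap
  have hYdet : Y.det ≠ 0 := by
    rw [LinearMap.det_toMatrix']
    exact (LinearEquiv.isUnit_det' E).ne_zero
  let y : GL (Fin n) F := GeneralLinearGroup.mkOfDetNeZero Y hYdet
  have hy : y⁻¹ * x * y = x₀ := by
    rw [mul_assoc, inv_mul_eq_iff_eq_mul]
    apply Units.ext
    show (x : Matrix (Fin n) (Fin n) F) * Y = Y * R fun _ => M0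
    refine Matrix.ext_of_mulVec_single fun i => ?_
    rw [← mulVec_mulVec, ← mulVec_mulVec, LinearMap.toMatrix'_mulVec, LinearMap.toMatrix'_mulVec]
    exact (hE _).symm
  -- the form
  have hk0 : 0 < k := by omega
  let l₀ : Fin k := ⟨0, hk0⟩
  obtain ⟨a, b, hab⟩ := CfsgLib.Classical.exists_mul_sq_add_mul_sq h2 hz0 (b := -1) (by simp) (A.det / z ^ (k - 1))
  let D0 : Fin k → Matrix (Fin 2) (Fin 2) F := fun l => if l = l₀ then !![a, b; b, z * a] else !![1, 0; 0, z]
  have hDs : (R D0)ᵀ = R D0 := by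
    rw [hRt]; congr 1; funext l; ext i j
    by_cases h : l = l₀ <;> fin_cases i <;> fin_cases j <;> simp [D0, h]
  have hDdet : (R D0).det = 1 ^ 2 * A.det := by
    rw [hRdet, ← Finset.mul_prod_erase _ _ (Finset.mem_univ l₀),
      Finset.prod_eq_pow_card (b := z) (fun l hl => by simp [D0, Finset.ne_of_mem_erase hl, Matrix.det_fin_two]),
      Finset.card_erase_of_mem (Finset.mem_univ _), Finset.card_univ, Fintype.card_fin]
    simp only [D0, if_true, Matrix.det_fin_two_of, one_pow, one_mul]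
    rw [show a * (z * a) - b * b = A.det / z ^ (k - 1) by linear_combination hab, div_mul_cancel₀ _ (pow_ne_zero _ hz0)]
  refine fixes_of_model (congr_of_det h2 hAs hDs (Equiv.refl _) hA one_ne_zero hDdet).formEquiv hy ?_ ?_
  · refine mem_simBil.2 ⟨Units.mk0 z hz0, ?_⟩
    show (R fun _ => M0)ᵀ * R D0 * (R fun _ => M0) = z • R D0
    rw [hRt, hRmul, hRmul, ← hRs]
    congr 1; funext l; ext i j
    by_cases h : l = l₀ <;> fin_cases i <;> fin_cases j <;>
      simp [D0, M0, h, Matrix.mul_apply, Fin.sum_univ_two] <;> ring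
  · intro t
    obtain ⟨u, w, huw⟩ := CfsgLib.Classical.exists_mul_sq_add_mul_sq h2 (a := (1 : F)) one_ne_zero (b := -z) (by simp [hz0]) (t : F)
    let T : Fin k → Matrix (Fin 2) (Fin 2) F := fun l => if l = l₀ then !![u, z * w; w, u] else 1
    have hTdet : (R T).det = t := by
      rw [hRdet, ← Finset.mul_prod_erase _ _ (Finset.mem_univ l₀),
        Finset.prod_eq_one (fun l hl => by simp [T, Finset.ne_of_mem_erase hl]), mul_one]
      simp only [T, if_true, Matrix.det_fin_two_of]
      linear_combination huw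
    refine ⟨GeneralLinearGroup.mkOfDetNeZero _ (hTdet ▸ t.ne_zero), Units.ext ?_, Units.ext hTdet⟩
    show R T * (R fun _ => M0) = (R fun _ => M0) * R T
    rw [hRmul, hRmul]
    congr 1; funext l; ext i j
    by_cases h : l = l₀ <;> fin_cases i <;> fin_cases j <;>
      simp [T, M0, h, Matrix.mul_apply, Fin.sum_univ_two] <;> ring

/-- Involutions and fixed points of permutations of three and five letters. -/
theorem exists_reflection {r : ℕ} (hr : r = 3 ∨ r = 5) (f : Fin r → ZMod r) (hf : ∑ i, f i = 0) :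
    ∃ (σ : Equiv.Perm (Fin r)) (s : ZMod r), (∀ i, σ (σ i) = i) ∧ ∀ i, f i + f (σ i) = s := by
  rcases hr with rfl | rfl
  · have key : ∀ a b : ZMod 3, ∀ i : Fin 3,
        ![a, b, -a - b] i + ![a, b, -a - b] (Equiv.swap (1 : Fin 3) 2 i) = 2 * a := by decide
    have he : f = ![f 0, f 1, -f 0 - f 1] := by
      funext i; rw [Fin.sum_univ_three] at hf
      fin_cases i
      · rfl
      · rfl
      · show f 2 = _; simp; linear_combination hf
    refine ⟨Equiv.swap 1 2, 2 * f 0, Equiv.swap_apply_self 1 2, fun i => ?_⟩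
    have := key (f 0) (f 1) i
    rwa [← he] at this
  · let tbl : Fin 15 → Fin 5 → Fin 5 :=
      ![![0, 2, 1, 4, 3], ![0, 3, 4, 1, 2], ![0, 4, 3, 2, 1],
        ![2, 1, 0, 4, 3], ![3, 1, 4, 0, 2], ![4, 1, 3, 2, 0],
        ![1, 0, 2, 4, 3], ![3, 4, 2, 0, 1], ![4, 3, 2, 1, 0],
        ![1, 0, 4, 3, 2], ![2, 4, 0, 3, 1], ![4, 2, 1, 3, 0],
        ![1, 0, 3, 2, 4], ![2, 3, 0, 1, 4], ![3, 2, 1, 0, 4]]
    have hinv : ∀ j i, tbl j (tbl j i) = i := by decide +kernel
    have hfix : ∀ b c d : ZMod 5, ∃ j : Fin 15, ∀ i : Fin 5,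
        ![0, b, c, d, -b - c - d] i + ![0, b, c, d, -b - c - d] (tbl j i) =
          ![0, b, c, d, -b - c - d] 0 + ![0, b, c, d, -b - c - d] (tbl j 0) := by decide +kernel
    set g : Fin 5 → ZMod 5 := fun i => f i - f 0 with hg
    have he : g = ![0, g 1, g 2, g 3, -g 1 - g 2 - g 3] := by
      funext i; rw [Fin.sum_univ_five] at hf
      have h5 : (5 : ZMod 5) = 0 := by decide
      fin_cases i
      · simp [g]
      · rfl
      · rfl
      · rfl
      · show g 4 = _
        simp [g]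
        linear_combination hf - f 0 * h5
    obtain ⟨j, hj⟩ := hfix (g 1) (g 2) (g 3)
    rw [← he] at hj
    refine ⟨⟨tbl j, tbl j, hinv j, hinv j⟩, f 0 + f (tbl j 0), hinv j, fun i => ?_⟩
    have := hj i
    simp only [g] at this
    show f i + f (tbl j i) = _
    linear_combination this

/-- Normal form in the exceptional case `n = r ∈ {3, 5}`. -/
theorem exceptional_normal_form {r : ℕ} [Fact r.Prime] (hr : r = 3 ∨ r = 5) (hnr : n = r)
    (hv : padicValNat r (Fintype.card F - 1) = 1) {x : GL (Fin n) F}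
    (hdet : GeneralLinearGroup.det x = 1) {z : F} (hx : ((x ^ r : GL (Fin n) F) : Matrix (Fin n) (Fin n) F) = z • 1) :
    ∃ (y : GL (Fin n) F) (v : Fin n → Fˣ) (σ : Equiv.Perm (Fin n)) (c : Fˣ),
      y⁻¹ * x * y = diagGL v ∧ (∀ i, σ (σ i) = i) ∧ (∀ i, v i * v (σ i) = c) ∧ ∀ i, v i ^ r = 1 := by
  classical
  subst hnr
  haveI : NeZero n := ⟨(Fact.out : n.Prime).ne_zero⟩
  haveI : Nonempty (Fin n) := ⟨⟨0, NeZero.pos n⟩⟩
  have hzn : z ^ n = 1 := by
    have h := congrArg Matrix.det hx
    rw [det_smul, det_one, mul_one, Fintype.card_fin, Units.val_pow_eq_pow_val, det_pow,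
      show (x : Matrix (Fin n) (Fin n) F).det = 1 from congrArg Units.val hdet, one_pow] at h
    exact h.symm
  have hq0 : Fintype.card F - 1 ≠ 0 := fun h => by rw [h, padicValNat.zero] at hv; omega
  have hz1 : z = 1 := by
    by_contra hne
    by_cases hroot : ∃ α : F, α ^ n = z
    · obtain ⟨α, rfl⟩ := hroot
      have hα0 : α ≠ 0 := fun h => by
        rw [h, zero_pow (NeZero.ne n), zero_pow (NeZero.ne n)] at hzn; exact zero_ne_one hzn
      have ho : orderOf α = n ^ (1 + 1) := orderOf_eq_prime_pow (by rwa [pow_one])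
        (by rw [show n ^ (1 + 1) = n * n by ring, pow_mul]; exact hzn)
      have hd : n ^ (1 + 1) ∣ Fintype.card F - 1 := ho ▸ orderOf_dvd_of_pow_eq_one (FiniteField.pow_card_sub_one_eq_one α hα0)
      have := (padicValNat_dvd_iff_le hq0).1 hd
      omega
    · push Not at hroot
      let P : Polynomial F := Polynomial.X ^ n - Polynomial.C z
      have hP : Irreducible P := X_pow_sub_C_irreducible_of_prime Fact.out hroot
      have hmon : P.Monic := Polynomial.monic_X_pow_sub_C z (NeZero.ne n)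
      have hann : Polynomial.aeval (x : Matrix (Fin n) (Fin n) F) P = 0 := by
        simp only [P, map_sub, map_pow, Polynomial.aeval_X, Polynomial.aeval_C]
        rw [← Units.val_pow_eq_pow_val, hx, Algebra.algebraMap_eq_smul_one, sub_self]
      have hmin : P = minpoly F (x : Matrix (Fin n) (Fin n) F) := minpoly.eq_of_irreducible_of_monic hP hann hmon
      have hchar : (x : Matrix (Fin n) (Fin n) F).charpoly = P :=
        (Polynomial.eq_of_monic_of_dvd_of_natDegree_le hmon (Matrix.charpoly_monic _)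
          (hmin ▸ Matrix.minpoly_dvd_charpoly _) (by
            rw [Matrix.charpoly_natDegree_eq_dim, Fintype.card_fin, Polynomial.natDegree_X_pow_sub_C]))
      have hd := Matrix.det_eq_sign_charpoly_coeff (x : Matrix (Fin n) (Fin n) F)
      rw [hchar, show (x : Matrix (Fin n) (Fin n) F).det = 1 from congrArg Units.val hdet, Fintype.card_fin] at hd
      have hodd : Odd n := by rcases hr with rfl | rfl <;> decide
      simp [P, hodd.neg_one_pow, Polynomial.coeff_X_pow, (NeZero.ne n).symm] at hd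
      exact hne hd.symm
  rw [hz1, one_smul] at hx
  have hxn : x ^ n = 1 := Units.ext hx
  obtain ⟨ω, hω⟩ := exists_prime_orderOf_dvd_card (G := Fˣ) n (by
    rw [Fintype.card_units]
    exact dvd_of_one_le_padicValNat (by omega))
  have hprim : IsPrimitiveRoot ω n := hω ▸ IsPrimitiveRoot.orderOf ω
  obtain ⟨y, a, hya⟩ := exists_diag hprim x hxn
  have hsum : ∑ i, ((a i : ℕ) : ZMod n) = 0 := by
    have h1 : GeneralLinearGroup.det (y⁻¹ * x * y) = 1 := by
      rw [map_mul, map_mul, hdet, mul_one, map_inv, inv_mul_cancel]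
    rw [hya, det_diagGL, Finset.prod_pow_eq_pow_sum] at h1
    have := orderOf_dvd_of_pow_eq_one h1
    rw [hω, ← ZMod.natCast_eq_zero_iff, Nat.cast_sum] at this
    exact this
  obtain ⟨σ, s, hσ, hs⟩ := exists_reflection hr (fun i => ((a i : ℕ) : ZMod n)) hsum
  refine ⟨y, _, σ, ω ^ s.val, hya, hσ, fun i => ?_, fun i => by
    rw [← pow_mul, mul_comm, pow_mul, (show ω ^ n = 1 from orderOf_dvd_iff_pow_eq_one.1 hω.dvd), one_pow]⟩
  rw [← pow_add, pow_eq_pow_iff_modEq, hω, ← ZMod.natCast_eq_natCast_iff, Nat.cast_add, ZMod.natCast_zmod_val]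
  exact hs i

/-- The exceptional case `n = r ∈ {3, 5}`. -/
theorem fixes_exceptional {r : ℕ} [Fact r.Prime] (hr : r = 3 ∨ r = 5) (hnr : n = r)
    (hv : padicValNat r (Fintype.card F - 1) = 1) (h2 : (2 : F) ≠ 0)
    {A : Matrix (Fin n) (Fin n) F} (hAs : Aᵀ = A) (hA : A.det ≠ 0) {x : GL (Fin n) F}
    (hdet : GeneralLinearGroup.det x = 1) {z : F} (hx : ((x ^ r : GL (Fin n) F) : Matrix (Fin n) (Fin n) F) = z • 1) :
    Fixes A x := by
  classical
  haveI : Nonempty (Fin n) := ⟨⟨0, by rcases hr with rfl | rfl <;> omega⟩⟩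
  obtain ⟨y, v, σ, c, hy, hσ, hvv, -⟩ := exceptional_normal_form hr hnr hv hdet hx
  exact fixes_of_model (formEquiv_of_odd h2 hAs (perm_form_symm σ hσ) (Equiv.refl _) hA (perm_form_det σ)
    (by rw [Fintype.card_fin, hnr]; rcases hr with rfl | rfl <;> decide)) hy
    (diagGL_mem_perm v c σ hvv) (diag_centralizer_det _)

end CfsgLib.Classical.Elusive.SLForm
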