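/-
The index of the orthogonal similitudes in the special linear group, and the minus-parity witness.
-/
import Cfsg.Agent.Lib.Classical.Elusive.SLFormSemisimple
import Cfsg.Agent.Lib.Classical.GLOrder
import Cfsg.Agent.Lib.Classical.QuadDisc
import Cfsg.Agent.Lib.KnownSimple.Forms.Even

set_option autoImplicit false

namespace CfsgLib.Classical.Elusive.SLForm

open Matrix CfsgLib.Forms CfsgLib.Classical.QuadSign

universe u

variable {F : Type u} [Field F] [Fintype F] {p : ℕ} [Fact p.Prime] [CharP F p] {r : ℕ} [Fact r.Prime]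

theorem not_dvd_card (hrp : r ≠ p) : ¬ r ∣ Fintype.card F := fun h =>
  cast_card_ne_zero (F := F) hrp ((ZMod.natCast_eq_zero_iff _ _).2 h)

omit [Fact p.Prime] [CharP F p] in
theorem pow_sub_one_ne_zero {j : ℕ} (hj : j ≠ 0) : Fintype.card F ^ j - 1 ≠ 0 := by
  have := Nat.one_lt_pow hj (Fintype.one_lt_card (α := F))
  omega

theorem padic_SL (hrp : r ≠ p) (hr1 : ¬ r ∣ Fintype.card F - 1) (n : ℕ) (hn : 1 ≤ n) :
    padicValNat r (Nat.card (SpecialLinearGroup (Fin n) F)) =
      ∑ j ∈ Finset.range n, padicValNat r (Fintype.card F ^ (j + 1) - 1) := by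
  set q := Fintype.card F with hq
  have hq1 : 1 < q := Fintype.one_lt_card
  have h := congrArg (padicValNat r) (CfsgLib.Classical.card_SL_mul (F := F) (q := q) rfl n hn)
  rw [padicValNat.mul (by omega) Nat.card_pos.ne', padicValNat.eq_zero_of_not_dvd hr1, zero_add] at h
  rw [h, Fin.prod_univ_eq_prod_range (fun i => q ^ n - q ^ i)]
  have hfac : ∀ i, i < n → q ^ n - q ^ i = q ^ i * (q ^ (n - i) - 1) := fun i hi => by
    rw [Nat.mul_sub, mul_one, ← pow_add, Nat.add_sub_cancel' hi.le]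
  have hprod : ∀ m, m ≤ n → padicValNat r (∏ i ∈ Finset.range m, (q ^ n - q ^ i)) =
      ∑ i ∈ Finset.range m, padicValNat r (q ^ (n - i) - 1) := by
    intro m hm
    induction m with
    | zero => simp
    | succ m ih =>
      have hne : ∀ i, i < n → q ^ n - q ^ i ≠ 0 := fun i hi => by
        have := Nat.pow_lt_pow_right hq1 hi; omega
      rw [Finset.prod_range_succ, Finset.sum_range_succ,
        padicValNat.mul (Finset.prod_ne_zero_iff.2 fun i hi => hne i (by
          have := Finset.mem_range.1 hi; omega)) (hne m (by omega)), ih (by omega), hfac m (by omega),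
        padicValNat.mul (pow_ne_zero _ (by omega)) (by
          have := Nat.one_lt_pow (show n - m ≠ 0 by omega) hq1; omega),
        padicValNat.eq_zero_of_not_dvd (fun h' => not_dvd_card (F := F) hrp ((Fact.out : r.Prime).dvd_of_dvd_pow h')),
        zero_add]
  rw [hprod n le_rfl, ← Finset.sum_range_reflect]
  refine Finset.sum_congr rfl fun j hj => ?_
  rw [show n - (n - 1 - j) = j + 1 by have := Finset.mem_range.1 hj; omega]

theorem sum_pairs (hrp : r ≠ p) (heven : Even (orderOf ((Fintype.card F : ℕ) : ZMod r))) (m : ℕ) :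
    (∑ j ∈ Finset.range (2 * m), padicValNat r (Fintype.card F ^ (j + 1) - 1) =
        ∑ t ∈ Finset.range m, padicValNat r (Fintype.card F ^ (2 * (t + 1)) - 1)) ∧
    (∑ j ∈ Finset.range (2 * m + 1), padicValNat r (Fintype.card F ^ (j + 1) - 1) =
        ∑ t ∈ Finset.range m, padicValNat r (Fintype.card F ^ (2 * (t + 1)) - 1)) := by
  have h0 : ∀ j, Odd j → padicValNat r (Fintype.card F ^ j - 1) = 0 := fun j hj => padicValNat.eq_zero_of_not_dvd fun h => by
    have h1 := heven.two_dvd.trans ((dvd_pow_sub_one_iff j).1 h)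
    exact (Nat.not_even_iff_odd.2 hj) (even_iff_two_dvd.2 h1)
  induction m with
  | zero => simpa using h0 1 odd_one
  | succ m ih =>
    have e1 : ∑ j ∈ Finset.range (2 * (m + 1)), padicValNat r (Fintype.card F ^ (j + 1) - 1) =
        ∑ t ∈ Finset.range (m + 1), padicValNat r (Fintype.card F ^ (2 * (t + 1)) - 1) := by
      rw [show 2 * (m + 1) = 2 * m + 1 + 1 by ring, Finset.sum_range_succ, ih.2, Finset.sum_range_succ,
        show 2 * m + 1 + 1 = 2 * (m + 1) by ring]
    exact ⟨e1, by rw [Finset.sum_range_succ, e1, h0 _ (by exact ⟨m + 1, by ring⟩), add_zero]⟩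

omit [Fintype F] [Fact p.Prime] [CharP F p] in
theorem card_qAut_similar {V W : Type u} [AddCommGroup V] [Module F V] [AddCommGroup W] [Module F W]
    (Q : QuadraticForm F V) (P : QuadraticForm F W) (e : W ≃ₗ[F] V) {c : F} (hc : c ≠ 0)
    (he : ∀ x, Q (e x) = c * P x) : Nat.card (qAut Q) = Nat.card (qAut P) := by
  have h1 : Nat.card (qAut Q) = Nat.card (qAut (c • P)) :=
    (Nat.card_congr (qAutCongr (Q := c • P) (Q' := Q) e (fun v => by
      rw [he, QuadraticMap.smul_apply, smul_eq_mul])).toEquiv).symm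
  rw [h1]
  refine Nat.card_congr (Equiv.subtypeEquivRight fun g => ⟨fun h v => ?_, fun h v => ?_⟩)
  · have := h v
    rw [QuadraticMap.smul_apply, QuadraticMap.smul_apply, smul_eq_mul, smul_eq_mul] at this
    exact mul_left_cancel₀ hc this
  · rw [QuadraticMap.smul_apply, QuadraticMap.smul_apply, h v]

/-- The `r`-part of `SL` is contained in that of the orthogonal group, unless `q ^ m = -ε`. -/
theorem padic_le (h2 : (2 : F) ≠ 0) (hr2 : r ≠ 2) (hrp : r ≠ p) (hr1 : ¬ r ∣ Fintype.card F - 1)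
    (heven : Even (orderOf ((Fintype.card F : ℕ) : ZMod r))) {n : ℕ} (hn : 1 ≤ n)
    (Q : QuadraticForm F (Fin n → F)) (hQ : PolarNondeg Q)
    (hno : ¬ ∃ (m : ℕ) (ε : ℤ), n = 2 * m ∧ HasSign Q m ε ∧ ((Fintype.card F : ℕ) : ZMod r) ^ m + (ε : ZMod r) = 0) :
    padicValNat r (Nat.card (SpecialLinearGroup (Fin n) F)) ≤ padicValNat r (Nat.card (qAut Q)) := by
  set q := Fintype.card F with hq
  have hq1 : 1 < q := Fintype.one_lt_card
  have hrd : ¬ r ∣ q := not_dvd_card hrp
  have hv2 : padicValNat r 2 = 0 := padicValNat.eq_zero_of_not_dvd fun h =>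
    hr2 ((Nat.prime_dvd_prime_iff_eq Fact.out Nat.prime_two).1 h)
  have hvq : ∀ k, padicValNat r (q ^ k) = 0 := fun k =>
    padicValNat.eq_zero_of_not_dvd fun h => hrd ((Fact.out : r.Prime).dvd_of_dvd_pow h)
  have hne : ∀ t, q ^ (2 * (t + 1)) - 1 ≠ 0 := fun t => pow_sub_one_ne_zero (by omega)
  have hP0 : ∀ m, ∏ i ∈ Finset.range m, (q ^ (2 * (i + 1)) - 1) ≠ 0 := fun m =>
    Finset.prod_ne_zero_iff.2 fun i _ => hne i
  have hprod : ∀ m, padicValNat r (∏ i ∈ Finset.range m, (q ^ (2 * (i + 1)) - 1)) =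
      ∑ t ∈ Finset.range m, padicValNat r (q ^ (2 * (t + 1)) - 1) := by
    intro m
    induction m with
    | zero => simp
    | succ m ih => rw [Finset.prod_range_succ, Finset.sum_range_succ, padicValNat.mul (hP0 m) (hne m), ih]
  rw [padic_SL hrp hr1 n hn]
  rcases Nat.even_or_odd' n with ⟨m, rfl | rfl⟩
  · obtain ⟨m, rfl⟩ : ∃ m', m = m' + 1 := ⟨m - 1, by omega⟩
    obtain ⟨ε, hε, hsg⟩ := exists_hasSign (m + 1) Q hQ (by rw [Module.finrank_pi, Fintype.card_fin])
    rw [(sum_pairs hrp heven (m + 1)).1, Finset.sum_range_succ, ← hprod]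
    have hne' : ((q : ℕ) : ZMod r) ^ (m + 1) + (ε : ZMod r) ≠ 0 := fun h => hno ⟨m + 1, ε, rfl, hsg, h⟩
    have hsplit : q ^ (2 * (m + 1)) - 1 = (q ^ (m + 1) + 1) * (q ^ (m + 1) - 1) := by
      rw [show q ^ (2 * (m + 1)) = (q ^ (m + 1)) ^ 2 by ring]
      simpa using Nat.sq_sub_sq (q ^ (m + 1)) 1
    have hm1 : q ^ (m + 1) - 1 ≠ 0 := pow_sub_one_ne_zero (by omega)
    rw [← hq, hsplit, padicValNat.mul (by omega) hm1]
    rcases hε with rfl | rfl
    · have h0 : padicValNat r (q ^ (m + 1) + 1) = 0 := padicValNat.eq_zero_of_not_dvd fun h => hne' (by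
        rw [← ZMod.natCast_eq_zero_iff] at h; push_cast at h ⊢; exact h)
      obtain ⟨e, he⟩ := exists_isometry_of_hasSign (m + 1) (qExt (m + 1) (0 : QuadraticForm F (Fin 0 → F))) Q 1
        (polarNondeg_qExt polarNondeg_empty (m + 1)) hQ (by rw [Module.finrank_pi]; simp; omega)
        (by rw [Module.finrank_pi, Fintype.card_fin])
        (hasSign_congr (plusLin (m + 1) F).symm (fun v => by
          rw [← qPlus_plusLin, LinearEquiv.apply_symm_apply]) (hasSign_qPlus (m + 1))) hsg
      rw [card_qAut_similar Q _ e one_ne_zero (fun x => by rw [he, one_mul]), card_qAut_plus,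
        padicValNat.mul (mul_ne_zero (mul_ne_zero two_ne_zero (pow_ne_zero _ (by omega))) hm1) (hP0 m),
        padicValNat.mul (mul_ne_zero two_ne_zero (pow_ne_zero _ (by omega))) hm1,
        padicValNat.mul two_ne_zero (pow_ne_zero _ (by omega)), hv2, hvq]
      rw [← hq] at *
      omega
    · have h0 : padicValNat r (q ^ (m + 1) - 1) = 0 := padicValNat.eq_zero_of_not_dvd fun h => hne' (by
        rw [← ZMod.natCast_eq_zero_iff, Nat.cast_sub (Nat.one_le_pow _ _ (by omega))] at h
        push_cast at h ⊢; linear_combination h)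
      obtain ⟨a, b, hab⟩ := exists_anisotropic h2
      obtain ⟨e, he⟩ := exists_isometry_of_hasSign (m + 1) (qExt m (qBin a b)) Q (-1)
        (polarNondeg_qExt (polarNondeg_qBin hab) m) hQ (by rw [Module.finrank_pi]; simp; omega)
        (by rw [Module.finrank_pi, Fintype.card_fin]) (hasSign_qExt_qBin hab m) hsg
      rw [card_qAut_similar Q _ e one_ne_zero (fun x => by rw [he, one_mul]), card_qAut_minus hab,
        padicValNat.mul (mul_ne_zero (mul_ne_zero two_ne_zero (pow_ne_zero _ (by omega))) (by omega)) (hP0 m),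
        padicValNat.mul (mul_ne_zero two_ne_zero (pow_ne_zero _ (by omega))) (by omega),
        padicValNat.mul two_ne_zero (pow_ne_zero _ (by omega)), hv2, hvq]
      rw [← hq] at *
      omega
  · obtain ⟨c, e, hc, he⟩ := exists_similar_line h2 m Q hQ (by rw [Module.finrank_pi, Fintype.card_fin])
    rw [(sum_pairs hrp heven m).2, ← hprod, card_qAut_similar Q _ e hc he, card_qAut_line h2,
      padicValNat.mul (mul_ne_zero two_ne_zero (pow_ne_zero _ (by omega))) (hP0 m)]
    omega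

/-- When `r` can divide the index. -/
theorem cases_of_dvd_index (h2 : (2 : F) ≠ 0) (hr2 : r ≠ 2) (hrp : r ≠ p) (hr1 : ¬ r ∣ Fintype.card F - 1)
    {n : ℕ} (hn : 1 ≤ n) (Q : QuadraticForm F (Fin n → F)) (hQ : PolarNondeg Q)
    (hΩ : r ∣ (Cfsg.Geo.quadSimilarityGroup (F := F) ⇑Q).relIndex (Cfsg.Geo.specialLinear (Fin n) F)) :
    (Odd (orderOf ((Fintype.card F : ℕ) : ZMod r)) ∧ orderOf ((Fintype.card F : ℕ) : ZMod r) ≤ n) ∨
    (∃ (m : ℕ) (ε : ℤ), n = 2 * m ∧ HasSign Q m ε ∧ ((Fintype.card F : ℕ) : ZMod r) ^ m + (ε : ZMod r) = 0) := by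
  classical
  set H := Cfsg.Geo.quadSimilarityGroup (F := F) ⇑Q
  set S := Cfsg.Geo.specialLinear (Fin n) F
  set O := Cfsg.isometryGroup F ⇑Q
  have hS : Nat.card S = Nat.card (SpecialLinearGroup (Fin n) F) := CfsgLib.Classical.card_ker_det
  have hmul : H.relIndex S * Nat.card (H.subgroupOf S) = Nat.card S := Subgroup.index_mul_card _
  have hrS : r ∣ Nat.card (SpecialLinearGroup (Fin n) F) := hS ▸ hmul ▸ dvd_mul_of_dvd_left hΩ _
  rcases Nat.even_or_odd (orderOf ((Fintype.card F : ℕ) : ZMod r)) with heven | hodd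
  · by_contra hc
    push Not at hc
    have hle := padic_le h2 hr2 hrp hr1 heven hn Q hQ (by
      rintro ⟨m, ε, hm, hs, he⟩; exact hc.2 m ε hm hs he)
    have hOH : O.subgroupOf S ≤ H.subgroupOf S := fun g hg => by
      have hg' : (g : GL (Fin n) F) ∈ O := hg
      exact ⟨1, fun v => by
        rw [Units.val_one, one_mul]
        exact hg' v v⟩
    have hdiv := Subgroup.card_dvd_of_le hOH
    let dO : O →* Fˣ := GeneralLinearGroup.det.comp O.subtype
    have hker : Nat.card dO.ker = Nat.card (O.subgroupOf S) :=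
      Nat.card_congr ⟨fun g => ⟨⟨g.1.1, g.2⟩, g.1.2⟩, fun g => ⟨⟨g.1.1, g.2⟩, g.1.2⟩, fun _ => rfl, fun _ => rfl⟩
    have hrange : Nat.card dO.range ∣ 2 := by
      have hsq : ∀ x ∈ dO.range, x ∈ (powMonoidHom 2 : Fˣ →* Fˣ).ker := by
        rintro x ⟨g, rfl⟩
        rw [MonoidHom.mem_ker]
        apply Units.ext
        show ((g : GL (Fin n) F) : Matrix (Fin n) (Fin n) F).det ^ 2 = 1
        have hg : ∀ v, Q (((g : GL (Fin n) F) : Matrix (Fin n) (Fin n) F) *ᵥ v) = Q v :=
          fun v => g.2 v v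
        obtain ⟨e, he⟩ : ∃ e : (Fin n → F) ≃ₗ[F] (Fin n → F), ∀ v, e v = ((g : GL (Fin n) F) : Matrix (Fin n) (Fin n) F) *ᵥ v :=
          ⟨(isoEquiv Q g).1, fun v => rfl⟩
        set G := ((g : GL (Fin n) F) : Matrix (Fin n) (Fin n) F)
        have hG : polarGram Q = Gᵀ * polarGram Q * G := by
          rw [← form_eq_iff]
          intro u v
          rw [← mulVec_form, ← SylowTwo.polarGram_form, ← SylowTwo.polarGram_form, QuadraticMap.polar, QuadraticMap.polar,
            ← mulVec_add, hg, hg, hg]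
        have hd := congrArg Matrix.det hG
        rw [det_mul, det_mul, det_transpose] at hd
        have hd0 := SylowTwo.det_polarGram_ne Q hQ
        exact mul_right_cancel₀ hd0 (by linear_combination -hd)
      have hcyc : Nat.card (powMonoidHom 2 : Fˣ →* Fˣ).ker ∣ 2 := by
        have h := Subgroup.card_dvd_of_le (le_refl (powMonoidHom 2 : Fˣ →* Fˣ).ker)
        rw [IsCyclic.card_powMonoidHom_ker]
        exact Nat.gcd_dvd_right _ _
      exact (Subgroup.card_dvd_of_le hsq).trans hcyc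
    have hO : padicValNat r (Nat.card (qAut Q)) = padicValNat r (Nat.card (O.subgroupOf S)) := by
      rw [← card_isometryGroup_coe Q rfl, ← Subgroup.index_mul_card dO.ker, Subgroup.index_ker, hker,
        padicValNat.mul Nat.card_pos.ne' Nat.card_pos.ne', padicValNat.eq_zero_of_not_dvd (fun h => hr2
          ((Nat.prime_dvd_prime_iff_eq Fact.out Nat.prime_two).1 (h.trans hrange))), zero_add]
    have h3 : padicValNat r (Nat.card (O.subgroupOf S)) ≤ padicValNat r (Nat.card (H.subgroupOf S)) := by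
      obtain ⟨k, hk⟩ := hdiv
      rw [hk, padicValNat.mul Nat.card_pos.ne' (fun h => by rw [h, mul_zero] at hk; exact Nat.card_pos.ne' hk)]
      omega
    have h4 : 1 ≤ padicValNat r (H.relIndex S) := one_le_padicValNat_of_dvd (fun h => by
      rw [h, zero_mul] at hmul; exact Nat.card_pos.ne hmul) hΩ
    have h5 := congrArg (padicValNat r) hmul
    rw [padicValNat.mul (fun h => by rw [h, zero_mul] at hmul; exact Nat.card_pos.ne hmul) Nat.card_pos.ne', hS] at h5
    omega
  · refine Or.inl ⟨hodd, ?_⟩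
    have h1 : 1 ≤ padicValNat r (Nat.card (SpecialLinearGroup (Fin n) F)) := one_le_padicValNat_of_dvd Nat.card_pos.ne' hrS
    rw [padic_SL hrp hr1 n hn] at h1
    obtain ⟨j, hj, hj0⟩ := Finset.exists_ne_zero_of_sum_ne_zero (show (∑ j ∈ Finset.range n, padicValNat r (Fintype.card F ^ (j + 1) - 1)) ≠ 0 by omega)
    have hd := (dvd_pow_sub_one_iff (j + 1)).1 (dvd_of_one_le_padicValNat (Nat.pos_of_ne_zero hj0))
    have := Nat.le_of_dvd (by omega) hd
    have := Finset.mem_range.1 hj
    omega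

omit [Fact p.Prime] [CharP F p] [Fact r.Prime] in
theorem sign_pm {n m : ℕ} (hnm : n = 2 * m) {Q : QuadraticForm F (Fin n → F)} (hQ : PolarNondeg Q) {ε : ℤ}
    (hs : HasSign Q m ε) : ε = 1 ∨ ε = -1 := by
  obtain ⟨ε', hε', hs'⟩ := exists_hasSign m Q hQ (by rw [Module.finrank_pi, Fintype.card_fin, hnm])
  exact hasSign_unique hs hs' ▸ hε'

/-- A fixed-point-free element is not conjugate into the group of the wrong type. -/
theorem bad_even (hr2 : r ≠ 2) (hrp : r ≠ p) (hr1 : ¬ r ∣ Fintype.card F - 1) {n m : ℕ} (hnm : n = 2 * m)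
    (hm : 0 < m) (Q : QuadraticForm F (Fin n → F)) (hQ : PolarNondeg Q) {ε : ℤ} (hs : HasSign Q m ε)
    (he : ((Fintype.card F : ℕ) : ZMod r) ^ m + (ε : ZMod r) = 0) :
    ∃ x : GL (Fin n) F, x ∈ Cfsg.Geo.specialLinear (Fin n) F ∧ x ^ r = 1 ∧
      (∀ z : F, (x : Matrix (Fin n) (Fin n) F) ≠ z • 1) ∧
      ¬ ∃ g ∈ Cfsg.Geo.specialLinear (Fin n) F, g⁻¹ * x * g ∈ Cfsg.Geo.quadSimilarityGroup (F := F) ⇑Q := by
  classical
  set q := Fintype.card F with hq
  set i := orderOf ((q : ℕ) : ZMod r) with hi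
  have hεε : (ε : ZMod r) ^ 2 = 1 → ((q : ℕ) : ZMod r) ^ n = 1 := fun h => by
    rw [hnm, mul_comm, pow_mul, eq_neg_of_add_eq_zero_left he, neg_sq, h]
  have h1 : (ε : ZMod r) ^ 2 = 1 := by
    rcases sign_pm hnm hQ hs with rfl | rfl <;> norm_num
  have hin : i ∣ n := orderOf_dvd_of_pow_eq_one (hεε h1)
  obtain ⟨k, hk⟩ := hin
  obtain ⟨P, x, hirr, hdeg, -, hP1, hxr, hxdet, -, -, hker⟩ := exists_elt (F := F) (n := n) hrp hr1 k (by rw [← hi, hk, mul_comm])
  have hinj : ∀ v, linOf x v = v → v = 0 := fun v hv => by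
    have hmem : v ∈ LinearMap.ker (Polynomial.aeval (linOf x) (Polynomial.X - Polynomial.C (1 : F))) := by
      rw [LinearMap.mem_ker, map_sub, Polynomial.aeval_X, Polynomial.aeval_C, map_one, LinearMap.sub_apply, hv]
      exact sub_self v
    rw [← hi, show n - k * i = 0 by rw [hk, mul_comm, Nat.sub_self]] at hker
    haveI := Module.finrank_zero_iff.1 hker
    simpa using congrArg Subtype.val (Subsingleton.elim (⟨v, hmem⟩ : LinearMap.ker _) 0)
  refine ⟨x, hxdet, hxr, fun z hz => ?_, ?_⟩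
  · have h0 : ((x ^ r : GL (Fin n) F) : Matrix (Fin n) (Fin n) F) = z ^ r • 1 := by
      rw [Units.val_pow_eq_pow_val, hz, smul_pow, one_pow]
    haveI : Nonempty (Fin n) := ⟨⟨0, by omega⟩⟩
    rw [hxr, Units.val_one] at h0
    have hzr : z ^ r = 1 := by
      have := congrFun (congrFun h0 ⟨0, by omega⟩) ⟨0, by omega⟩
      simpa [eq_comm] using this
    have hz1 : z = 1 := by
      refine orderOf_eq_one_iff.1 (Nat.dvd_one.1 ?_)
      have hcop : Nat.Coprime r (q - 1) := (Nat.Prime.coprime_iff_not_dvd Fact.out).2 hr1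
      rw [← hcop.gcd_eq_one]
      refine Nat.dvd_gcd (orderOf_dvd_of_pow_eq_one hzr) (orderOf_dvd_of_pow_eq_one ?_)
      exact FiniteField.pow_card_sub_one_eq_one z (fun h => by
        rw [h, zero_pow (Fact.out : r.Prime).ne_zero] at hzr; exact zero_ne_one hzr)
    have hone : ∀ v, linOf x v = v := fun v => by
      show ((x : Matrix (Fin n) (Fin n) F)) *ᵥ v = v
      rw [hz, hz1, one_smul, one_mulVec]
    exact (Pi.single_ne_zero_iff.2 one_ne_zero : (Pi.single (⟨0, by omega⟩ : Fin n) (1 : F)) ≠ 0) (hinj _ (hone _))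
  · rintro ⟨g, -, c, hc⟩
    set y := g⁻¹ * x * g with hy
    set Y := (y : Matrix (Fin n) (Fin n) F) with hYdef
    have hyr : y ^ r = 1 := by rw [hy]; simpa [hxr] using (conj_pow (i := r) (a := g⁻¹) (b := x))
    have hyfix : ∀ v, Y *ᵥ v = v → v = 0 := fun v hv => by
      have h' := hinj ((g : Matrix (Fin n) (Fin n) F) *ᵥ v) (by
        show (x : Matrix (Fin n) (Fin n) F) *ᵥ ((g : Matrix (Fin n) (Fin n) F) *ᵥ v) = _
        rw [mulVec_mulVec, ← Units.val_mul, show x * g = g * y by rw [hy]; group, Units.val_mul, ← mulVec_mulVec]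
        exact congrArg _ hv)
      have := congrArg (fun w => ((g⁻¹ : GL (Fin n) F) : Matrix (Fin n) (Fin n) F) *ᵥ w) h'
      simpa [mulVec_mulVec] using this
    have hck : ∀ (k : ℕ) v, Q (Y ^ k *ᵥ v) = (c : F) ^ k * Q v := by
      intro k
      induction k with
      | zero => simp
      | succ k ih => intro v; rw [pow_succ', ← mulVec_mulVec, hc, ih]; ring
    have hYr : Y ^ r = 1 := by rw [hYdef, ← Units.val_pow_eq_pow_val, hyr, Units.val_one]
    have hQne : ∃ v, Q v ≠ 0 := by
      by_contra hcc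
      push Not at hcc
      have h0 := hs 1
      have hr0 : reps Q (1 : F) = 0 := Nat.card_eq_zero.2 (Or.inl ⟨fun v => one_ne_zero (v.2.symm.trans (hcc v.1))⟩)
      rw [hr0, dfun, if_neg one_ne_zero, Nat.cast_zero, mul_zero] at h0
      have hq1 : 1 < (q : ℤ) := by exact_mod_cast Fintype.one_lt_card
      have hε' := sign_pm hnm hQ hs
      have h2m : (q : ℤ) ^ m < (q : ℤ) ^ (2 * m) := pow_lt_pow_right₀ hq1 (by omega)
      rcases hε' with rfl | rfl <;> nlinarith [pow_pos (show (0 : ℤ) < q by omega) m]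
    obtain ⟨v₀, hv₀⟩ := hQne
    have hc1 : (c : F) = 1 := by
      refine orderOf_eq_one_iff.1 (Nat.dvd_one.1 ?_)
      have hcop : Nat.Coprime r (q - 1) := (Nat.Prime.coprime_iff_not_dvd Fact.out).2 hr1
      rw [← hcop.gcd_eq_one]
      refine Nat.dvd_gcd (orderOf_dvd_of_pow_eq_one ?_) (orderOf_dvd_of_pow_eq_one (FiniteField.pow_card_sub_one_eq_one _ c.ne_zero))
      have := hck r v₀
      rw [hYr, one_mulVec] at this
      exact (mul_eq_right₀ hv₀).1 this.symm
    let σ : Function.End {v : Fin n → F // Q v = 0} := fun v => ⟨Y *ᵥ v.1, by rw [hc, v.2, mul_zero]⟩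
    have hσk : ∀ (k : ℕ) v, ((σ ^ k) v).1 = Y ^ k *ᵥ v.1 := by
      intro k
      induction k with
      | zero => intro v; simp; rfl
      | succ k ih => intro v; rw [pow_succ', pow_succ', ← mulVec_mulVec]; show Y *ᵥ ((σ ^ k) v).1 = _; rw [ih]
    have hσr : σ ^ r ^ 1 = 1 := funext fun v => Subtype.ext (by rw [pow_one, hσk, hYr, one_mulVec]; rfl)
    have hmod := Equiv.Perm.card_fixedPoints_modEq hσr
    have hone : Fintype.card (Function.fixedPoints σ) = 1 := by
      rw [Fintype.card_eq_one_iff]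
      refine ⟨⟨⟨0, map_zero Q⟩, by show σ _ = _; exact Subtype.ext (mulVec_zero Y)⟩, fun v => ?_⟩
      exact Subtype.ext (Subtype.ext (hyfix _ (congrArg Subtype.val v.2)))
    rw [hone, ← ZMod.natCast_eq_natCast_iff, Nat.cast_one, ← Nat.card_eq_fintype_card] at hmod
    have hcount := congrArg (fun z : ℤ => (z : ZMod r)) (hs 0)
    simp only [reps, dfun, if_true] at hcount
    push_cast at hcount
    rw [hmod, mul_one, mul_comm 2 m, pow_mul, eq_neg_of_add_eq_zero_left he] at hcount
    have : ((q : ℕ) : ZMod r) = 1 := by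
      have h3 : (2 : ZMod r) * ((q : ℕ) : ZMod r) = 2 * 1 := by linear_combination hcount + (2 - ((q : ℕ) : ZMod r)) * h1
      exact mul_left_cancel₀ (by
        intro h; exact hr2 ((Nat.prime_dvd_prime_iff_eq Fact.out Nat.prime_two).1 ((ZMod.natCast_eq_zero_iff 2 r).1 (by exact_mod_cast h)))) h3
    refine hr1 ?_
    rw [← ZMod.natCast_eq_zero_iff, Nat.cast_sub (Fintype.card_pos), this, Nat.cast_one, sub_self]

end CfsgLib.Classical.Elusive.SLForm
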