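/-
Elements of the special linear group and the similarity groups of hermitian forms: transfer lemmas.
-/
import Cfsg.Agent.Lib.Classical.Elusive.SLFormWitness
import Cfsg.Agent.Lib.Classical.HermBasic
import Cfsg.Agent.S0755

set_option autoImplicit false

namespace CfsgLib.Classical.Elusive.SLUnit

open Matrix CfsgLib.Classical.Elusive.SLForm

variable {F : Type*} [Field F] {n : ℕ}

/-- The sesquilinear form with matrix `A`. -/
def hForm (σ : F →+* F) (A : Matrix (Fin n) (Fin n) F) (u v : Fin n → F) : F := u ⬝ᵥ (A *ᵥ (σ ∘ v))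

/-- `x` fixes a form in the class of `A` under the special linear group. -/
def UFixes (σ : F →+* F) (A : Matrix (Fin n) (Fin n) F) (x : GL (Fin n) F) : Prop :=
  ∃ g ∈ Cfsg.Geo.specialLinear (Fin n) F, g⁻¹ * x * g ∈ Cfsg.Geo.similarityGroup (hForm σ A)

theorem hForm_mulVec (σ : F →+* F) (A k : Matrix (Fin n) (Fin n) F) (u v : Fin n → F) :
    hForm σ A (k *ᵥ u) (k *ᵥ v) = hForm σ (kᵀ * A * k.map σ) u v := by
  have e : σ ∘ (k *ᵥ v) = k.map σ *ᵥ (σ ∘ v) := funext fun i => RingHom.map_mulVec σ k v i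
  rw [hForm, hForm, e, Matrix.mul_assoc, ← mulVec_mulVec, ← mulVec_mulVec, dotProduct_mulVec u kᵀ, vecMul_transpose]

theorem hForm_single (σ : F →+* F) (A : Matrix (Fin n) (Fin n) F) (i j : Fin n) :
    hForm σ A (Pi.single i 1) (Pi.single j 1) = A i j := by
  have e : σ ∘ (Pi.single j (1 : F) : Fin n → F) = Pi.single j 1 := funext fun k => by
    by_cases h : k = j
    · subst h; simp
    · simp [h]
  rw [hForm, e, mulVec_single_one, single_one_dotProduct, col_apply]

theorem mem_simHerm {σ : F →+* F} {A : Matrix (Fin n) (Fin n) F} {k : GL (Fin n) F} :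
    k ∈ Cfsg.Geo.similarityGroup (hForm σ A) ↔
      ∃ c : Fˣ, (k : Matrix (Fin n) (Fin n) F)ᵀ * A * (k : Matrix (Fin n) (Fin n) F).map σ = (c : F) • A := by
  refine exists_congr fun c => ⟨fun h => ?_, fun h u v => ?_⟩
  · ext i j
    have h' := h (Pi.single i 1) (Pi.single j 1)
    rwa [hForm_mulVec, hForm_single, hForm_single] at h'
  · show hForm σ A _ _ = (c : F) * hForm σ A u v
    rw [hForm_mulVec, h, hForm, hForm, smul_mulVec, dotProduct_smul, smul_eq_mul]

theorem map_map_eq {σ : F →+* F} (hinv : ∀ a, σ (σ a) = a) (M : Matrix (Fin n) (Fin n) F) :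
    (M.map σ).map σ = M := by ext i j; simp [hinv]

/-- A fixed element preserves a hermitian form up to a fixed scalar. -/
theorem preserved {σ : F →+* F} (hinv : ∀ a, σ (σ a) = a) {A : Matrix (Fin n) (Fin n) F} (hn : 1 ≤ n)
    (hAh : Aᵀ = A.map σ) (hA : A.det ≠ 0) {x : GL (Fin n) F} (h : UFixes σ A x) :
    ∃ (c : F) (B : Matrix (Fin n) (Fin n) F), c ≠ 0 ∧ σ c = c ∧ B.det ≠ 0 ∧
      (x : Matrix (Fin n) (Fin n) F)ᵀ * B * (x : Matrix (Fin n) (Fin n) F).map σ = c • B := by
  obtain ⟨g, -, hg⟩ := h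
  obtain ⟨c, hc⟩ := mem_simHerm.1 hg
  set X := (x : Matrix (Fin n) (Fin n) F) with hX
  set G := ((g⁻¹ : GL (Fin n) F).1) with hG
  set B := Gᵀ * A * G.map σ with hB
  have hd : G.det ≠ 0 := (Matrix.isUnits_det_units _).ne_zero
  have hBd : B.det ≠ 0 := by
    rw [hB, det_mul, det_mul, det_transpose]
    refine mul_ne_zero (mul_ne_zero hd hA) ?_
    rw [show G.map σ = σ.mapMatrix G from rfl, ← RingHom.map_det]
    exact (map_ne_zero σ).2 hd
  have e : G * X = (g⁻¹ * x * g : GL (Fin n) F).1 * G := by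
    rw [hX, hG, ← Units.val_mul, ← Units.val_mul]; congr 1; group
  have hx : Xᵀ * B * X.map σ = (c : F) • B := by
    calc Xᵀ * B * X.map σ = (G * X)ᵀ * A * (G * X).map σ := by
          rw [hB, transpose_mul, Matrix.map_mul]; simp only [Matrix.mul_assoc]
      _ = Gᵀ * ((g⁻¹ * x * g : GL (Fin n) F).1ᵀ * A * (g⁻¹ * x * g : GL (Fin n) F).1.map σ) * G.map σ := by
          rw [e, transpose_mul, Matrix.map_mul]; simp only [Matrix.mul_assoc]
      _ = _ := by rw [hc, Matrix.mul_smul, Matrix.smul_mul, hB]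
  refine ⟨c, B, c.ne_zero, ?_, hBd, hx⟩
  have hBh : Bᵀ = B.map σ := by
    rw [hB, Matrix.map_mul, Matrix.map_mul, transpose_mul, transpose_mul, transpose_transpose, map_map_eq hinv, hAh,
      Matrix.mul_assoc, transpose_map]
  have h1 := congrArg Matrix.transpose hx
  rw [transpose_mul, transpose_mul, transpose_transpose, transpose_smul, hBh, ← Matrix.mul_assoc, ← transpose_map] at h1
  have h2 := congrArg (fun M : Matrix (Fin n) (Fin n) F => M.map σ) hx
  simp only [Matrix.map_mul, map_map_eq hinv] at h2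
  rw [h1, Matrix.map_smul' σ _ _ (map_mul σ)] at h2
  have hne : B.map σ ≠ 0 := fun h0 => by
    haveI : Nonempty (Fin n) := ⟨⟨0, hn⟩⟩
    refine hBd ?_
    have : B = 0 := by rw [← map_map_eq hinv B, h0]; simp
    simp [this]
  exact (smul_left_injective F hne h2).symm

variable [Finite F]

/-- Non-degenerate hermitian matrices are congruent to the identity. -/
theorem exists_congr_one {σ : F →+* F} (hne : σ ≠ RingHom.id F) (hinv : ∀ a, σ (σ a) = a)
    {B : Matrix (Fin n) (Fin n) F} (hBh : Bᵀ = B.map σ) (hB : B.det ≠ 0) :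
    ∃ W : GL (Fin n) F, (W : Matrix (Fin n) (Fin n) F)ᵀ * B * (W : Matrix (Fin n) (Fin n) F).map σ = 1 := by
  classical
  let Φ : (Fin n → F) →ₛₗ[σ] (Fin n → F) →ₗ[F] F :=
    LinearMap.mk₂'ₛₗ σ (RingHom.id F) (fun u v => hForm σ B v u)
      (fun u₁ u₂ v => by
        simp only [hForm]
        rw [show σ ∘ (u₁ + u₂) = σ ∘ u₁ + σ ∘ u₂ from funext fun i => map_add σ _ _, mulVec_add, dotProduct_add])
      (fun a u v => by
        simp only [hForm]
        rw [show σ ∘ (a • u) = σ a • (σ ∘ u) from funext fun i => map_mul σ _ _, mulVec_smul, dotProduct_smul])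
      (fun u v₁ v₂ => by simp only [hForm, add_dotProduct])
      (fun a u v => by simp only [hForm, smul_dotProduct, RingHom.id_apply])
  have hΦ : ∀ u v, Φ u v = hForm σ B v u := fun u v => rfl
  have hsym : ∀ u v, σ (hForm σ B v u) = hForm σ B u v := by
    intro u v
    simp only [hForm]
    rw [RingHom.map_dotProduct, show σ ∘ (B *ᵥ (σ ∘ u)) = B.map σ *ᵥ u from funext fun i => by
      show σ _ = _
      rw [RingHom.map_mulVec]
      congr 1
      funext j; exact hinv (u j), ← hBh,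
      dotProduct_mulVec, vecMul_transpose, dotProduct_comm]
  have hleft : Φ.SeparatingLeft := fun u hu => by
    have h0 : B *ᵥ (σ ∘ u) = 0 := funext fun i => by
      have := hu (Pi.single i 1)
      rwa [hΦ, hForm, single_one_dotProduct] at this
    have h1 := Matrix.eq_zero_of_mulVec_eq_zero hB h0
    funext i
    exact (map_eq_zero σ).1 (congrFun h1 i)
  have hnd : Φ.Nondegenerate := ⟨hleft, fun v hv => hleft v fun w => by
    have h := hv w
    rw [hΦ] at h ⊢
    rw [← hsym w v, h, map_zero]⟩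
  obtain ⟨b, hb⟩ := Cfsg.Agent.S0755.result σ hne hinv Φ ⟨fun u v => by rw [hΦ, hΦ]; exact hsym u v⟩ hnd
  have hrk : Module.finrank F (Fin n → F) = n := by rw [Module.finrank_pi, Fintype.card_fin]
  let b' := b.reindex (finCongr hrk)
  let W : Matrix (Fin n) (Fin n) F := Matrix.of fun k i => b' i k
  have hW : W.det ≠ 0 := by
    have : W = (Pi.basisFun F (Fin n)).toMatrix b' := by ext k i; simp [W, Module.Basis.toMatrix_apply]
    rw [this]
    exact ((Pi.basisFun F (Fin n)).isUnit_det b').ne_zero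
  refine ⟨GeneralLinearGroup.mkOfDetNeZero W hW, ?_⟩
  ext i j
  show (Wᵀ * B * W.map σ) i j = _
  rw [← hForm_single σ (Wᵀ * B * W.map σ) i j, ← hForm_mulVec, mulVec_single_one, mulVec_single_one]
  have := hb ((finCongr hrk).symm j) ((finCongr hrk).symm i)
  rw [hΦ] at this
  simp only [Module.Basis.reindex_apply, b', W] at *
  refine (show hForm σ B (fun k => b ((finCongr hrk).symm i) k) (fun k => b ((finCongr hrk).symm j) k) = _ from this).trans ?_
  rw [Matrix.one_apply]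
  simp [eq_comm]

/-- An element similar to a similitude of some hermitian form, whose centraliser has all determinants,
has a fixed point. -/
theorem ufixes_of_model {σ : F →+* F} (hne : σ ≠ RingHom.id F) (hinv : ∀ a, σ (σ a) = a)
    {A D : Matrix (Fin n) (Fin n) F} (hAh : Aᵀ = A.map σ) (hA : A.det ≠ 0) (hDh : Dᵀ = D.map σ) (hD : D.det ≠ 0)
    {x x₀ y₀ : GL (Fin n) F} (hy : y₀⁻¹ * x * y₀ = x₀) (c : Fˣ)
    (hx₀ : (x₀ : Matrix (Fin n) (Fin n) F)ᵀ * D * (x₀ : Matrix (Fin n) (Fin n) F).map σ = (c : F) • D)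
    (hdet : ∀ t : Fˣ, ∃ z : GL (Fin n) F, Commute z x₀ ∧ GeneralLinearGroup.det z = t) : UFixes σ A x := by
  obtain ⟨WA, hWA⟩ := exists_congr_one hne hinv hAh hA
  obtain ⟨WD, hWD⟩ := exists_congr_one hne hinv hDh hD
  set W : GL (Fin n) F := WA * WD⁻¹ with hWdef
  have hcancel : ∀ (P : GL (Fin n) F),
      (P : Matrix (Fin n) (Fin n) F) * ((P⁻¹ : GL (Fin n) F) : Matrix (Fin n) (Fin n) F) = 1 := fun P => by
    rw [← Units.val_mul, mul_inv_cancel, Units.val_one]
  have hmapone : ∀ (P : GL (Fin n) F), (P : Matrix (Fin n) (Fin n) F).map σ *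
      ((P⁻¹ : GL (Fin n) F) : Matrix (Fin n) (Fin n) F).map σ = 1 := fun P => by
    rw [← Matrix.map_mul, hcancel, Matrix.map_one σ (map_zero σ) (map_one σ)]
  have hW : (W : Matrix (Fin n) (Fin n) F)ᵀ * A * (W : Matrix (Fin n) (Fin n) F).map σ = D := by
    calc _ = ((WD⁻¹ : GL (Fin n) F).1)ᵀ * ((WA.1)ᵀ * A * WA.1.map σ) * (WD⁻¹ : GL (Fin n) F).1.map σ := by
          rw [hWdef, Units.val_mul, transpose_mul, Matrix.map_mul]; simp only [Matrix.mul_assoc]
      _ = (WD.1 * (WD⁻¹ : GL (Fin n) F).1)ᵀ * D * (WD.1.map σ * (WD⁻¹ : GL (Fin n) F).1.map σ) := by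
          rw [hWA, ← hWD, transpose_mul]; simp only [Matrix.mul_assoc]
      _ = D := by rw [hcancel, hmapone, transpose_one, Matrix.one_mul, Matrix.mul_one]
  have hu : W * x₀ * W⁻¹ ∈ Cfsg.Geo.similarityGroup (hForm σ A) := by
    refine mem_simHerm.2 ⟨c, ?_⟩
    calc _ = ((W⁻¹ : GL (Fin n) F).1)ᵀ * (x₀.1ᵀ * (W.1ᵀ * A * W.1.map σ) * x₀.1.map σ) *
          (W⁻¹ : GL (Fin n) F).1.map σ := by
          rw [Units.val_mul, Units.val_mul, transpose_mul, transpose_mul, Matrix.map_mul, Matrix.map_mul]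
          simp only [Matrix.mul_assoc]
      _ = (c : F) • ((W.1 * (W⁻¹ : GL (Fin n) F).1)ᵀ * A * (W.1.map σ * (W⁻¹ : GL (Fin n) F).1.map σ)) := by
          rw [hW, hx₀, Matrix.mul_smul, Matrix.smul_mul, ← hW, transpose_mul]; simp only [Matrix.mul_assoc]
      _ = _ := by rw [hcancel, hmapone, transpose_one, Matrix.one_mul, Matrix.mul_one]
  obtain ⟨z, hz, hzd⟩ := hdet (GeneralLinearGroup.det y₀ * GeneralLinearGroup.det W⁻¹)⁻¹
  refine ⟨y₀ * z * W⁻¹, ?_, ?_⟩
  · show GeneralLinearGroup.det (y₀ * z * W⁻¹) = 1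
    rw [map_mul, map_mul, hzd, mul_right_comm, mul_inv_cancel]
  · have e : (y₀ * z * W⁻¹)⁻¹ * x * (y₀ * z * W⁻¹) = W * (z⁻¹ * (y₀⁻¹ * x * y₀) * z) * W⁻¹ := by
      simp [mul_assoc, _root_.mul_inv_rev]
    rw [e, hy, mul_assoc z⁻¹, ← hz.eq, inv_mul_cancel_left]
    exact hu

end CfsgLib.Classical.Elusive.SLUnit
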