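/-
Elements of prime order of the special linear group with a fixed hermitian form up to a scalar.
-/
import Cfsg.Agent.Lib.Classical.Elusive.SLUnitBasic
import Cfsg.Agent.Lib.Classical.Elusive.SLFormFix
import Cfsg.Agent.Lib.Classical.JordanType

set_option autoImplicit false

namespace CfsgLib.Classical.Elusive.SLUnit

open Matrix CfsgLib.Classical.Elusive.SLForm

variable {F : Type*} [Field F] {n : ℕ}

/-- A square root of a scalar. -/
theorem exists_sq_model {k : ℕ} (hk : n = 2 * k) {z : F} (hz : z ≠ 0) :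
    ∃ x : GL (Fin n) F, (x : Matrix (Fin n) (Fin n) F) ^ 2 = z • 1 ∧
      (x : Matrix (Fin n) (Fin n) F).det = (-z) ^ k ∧ (0 < k → ∀ w : F, (x : Matrix (Fin n) (Fin n) F) ≠ w • 1) := by
  classical
  let e : Fin 2 × Fin k ≃ Fin n := Fintype.equivOfCardEq (by simp [hk])
  let M0 : Matrix (Fin 2) (Fin 2) F := !![0, z; 1, 0]
  let X : Matrix (Fin n) (Fin n) F := (Matrix.blockDiagonal fun _ : Fin k => M0).submatrix e.symm e.symm
  have hdet : X.det = (-z) ^ k := by
    simp only [X]
    rw [det_submatrix_equiv_self, det_blockDiagonal, Finset.prod_const, Finset.card_univ, Fintype.card_fin]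
    simp [M0, Matrix.det_fin_two]
  refine ⟨GeneralLinearGroup.mkOfDetNeZero X (by rw [hdet]; exact pow_ne_zero _ (neg_ne_zero.2 hz)), ?_, hdet, fun hk0 w hw => ?_⟩
  · show X ^ 2 = z • 1
    have e1 : (fun _ : Fin k => M0 * M0) = z • (1 : Fin k → Matrix (Fin 2) (Fin 2) F) := by
      funext l; ext i j
      fin_cases i <;> fin_cases j <;> simp [M0, Matrix.mul_apply, Fin.sum_univ_two]
    simp only [X]
    rw [sq, submatrix_mul_equiv, ← blockDiagonal_mul, e1, blockDiagonal_smul, blockDiagonal_one]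
    ext i j
    simp [Matrix.one_apply]
  · have h := congrFun (congrFun hw (e (1, ⟨0, hk0⟩))) (e (0, ⟨0, hk0⟩))
    rw [show (GeneralLinearGroup.mkOfDetNeZero X _ : GL (Fin n) F).1 = X from rfl] at h
    simp [X, M0, Matrix.one_apply, Matrix.blockDiagonal_apply] at h

/-- The determinant of a square root of a non-square scalar. -/
theorem det_of_sq_nonsquare {x : GL (Fin n) F} {z : F} (hz : ¬ IsSquare z)
    (hx : (x : Matrix (Fin n) (Fin n) F) ^ 2 = z • 1) :
    ∃ k, n = 2 * k ∧ (x : Matrix (Fin n) (Fin n) F).det = (-z) ^ k := by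
  classical
  have hz0 : z ≠ 0 := fun h => hz (h ▸ IsSquare.zero)
  let P : Polynomial F := Polynomial.X ^ 2 - Polynomial.C z
  have hP : Irreducible P := X_pow_sub_C_irreducible_of_prime Nat.prime_two fun b hb => hz ⟨b, by rw [← hb, sq]⟩
  haveI : Fact (Irreducible P) := ⟨hP⟩
  have hdeg : P.natDegree = 2 := Polynomial.natDegree_X_pow_sub_C
  have hann : ∀ M : Matrix (Fin n) (Fin n) F, M ^ 2 = z • 1 →
      Polynomial.aeval (Matrix.toLinAlgEquiv' M : Module.End F (Fin n → F)) P = 0 := fun M hM => by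
    simp only [P, map_sub, map_pow, Polynomial.aeval_X, Polynomial.aeval_C]
    rw [← map_pow, hM, map_smul, map_one, Algebra.algebraMap_eq_smul_one, sub_self]
  have hdvd := CfsgLib.Classical.Primary.natDegree_dvd_finrank P _ (hann _ hx)
  rw [hdeg, Module.finrank_pi, Fintype.card_fin] at hdvd
  obtain ⟨k, hk⟩ := hdvd
  obtain ⟨x₀, hx₀, hd₀, -⟩ := exists_sq_model hk hz0
  obtain ⟨E, hE⟩ := CfsgLib.Classical.Primary.exists_intertwine P
    (Matrix.toLinAlgEquiv' (x₀ : Matrix (Fin n) (Fin n) F)) (hann _ hx₀)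
    (Matrix.toLinAlgEquiv' (x : Matrix (Fin n) (Fin n) F)) (hann _ hx) rfl
  refine ⟨k, hk, ?_⟩
  have hY : (x : Matrix (Fin n) (Fin n) F) * LinearMap.toMatrix' E.toLinearMap =
      LinearMap.toMatrix' E.toLinearMap * (x₀ : Matrix (Fin n) (Fin n) F) := by
    refine Matrix.ext_of_mulVec_single fun i => ?_
    rw [← mulVec_mulVec, ← mulVec_mulVec, LinearMap.toMatrix'_mulVec, LinearMap.toMatrix'_mulVec]
    exact (hE _).symm
  have hYdet : (LinearMap.toMatrix' E.toLinearMap).det ≠ 0 := by
    rw [LinearMap.det_toMatrix']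
    exact (LinearEquiv.isUnit_det' E).ne_zero
  have := congrArg Matrix.det hY
  rw [det_mul, det_mul, hd₀, mul_comm] at this
  exact mul_left_cancel₀ hYdet this

variable [Fintype F] {σ : F →+* F} (hne : σ ≠ RingHom.id F) (hinv : ∀ a, σ (σ a) = a)
  {A : Matrix (Fin n) (Fin n) F} (hAh : Aᵀ = A.map σ) (hA : A.det ≠ 0)
include hne hinv hAh hA

/-- An element whose square is a square scalar, in odd characteristic. -/
theorem ufixes_square (hn : 1 ≤ n) (h2 : (2 : F) ≠ 0) {x : GL (Fin n) F} {α : Fˣ}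
    (hx : (x : Matrix (Fin n) (Fin n) F) ^ 2 = ((α : F) ^ 2) • 1) : UFixes σ A x := by
  classical
  haveI : Nonempty (Fin n) := ⟨⟨0, hn⟩⟩
  let s : GL (Fin n) F := diagGL fun _ => α
  have hs : ∀ M : Matrix (Fin n) (Fin n) F, ((s⁻¹ : GL (Fin n) F) : Matrix (Fin n) (Fin n) F) * M = ((α⁻¹ : Fˣ) : F) • M :=
    fun M => by
      show (Matrix.diagonal fun _ => ((α⁻¹ : Fˣ) : F)) * M = _
      rw [← smul_eq_diagonal_mul]
  have hy : (s⁻¹ * x) ^ 2 = 1 := by
    apply Units.ext
    rw [Units.val_pow_eq_pow_val, Units.val_mul, hs, smul_pow, hx, smul_smul, ← mul_pow, ← Units.val_mul,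
      inv_mul_cancel, Units.val_one, one_pow, one_smul]
    rfl
  have hω : IsPrimitiveRoot (-1 : Fˣ) 2 := by
    rw [← IsPrimitiveRoot.coe_units_iff]
    refine IsPrimitiveRoot.mk_of_lt _ (by norm_num) (by simp) fun l hl0 hl => ?_
    obtain rfl : l = 1 := by omega
    simp only [Units.val_neg, Units.val_one, pow_one]
    exact fun h => h2 (by linear_combination -h)
  obtain ⟨y, a, hya⟩ := exists_diag hω (s⁻¹ * x) hy
  let v : Fin n → Fˣ := fun i => α * (-1) ^ (a i : ℕ)
  refine ufixes_of_model hne hinv hAh hA (D := 1) (x₀ := diagGL v) (y₀ := y)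
    (by rw [transpose_one, Matrix.map_one σ (map_zero σ) (map_one σ)]) (by rw [det_one]; exact one_ne_zero) ?_
    (α * Units.map σ.toMonoidHom α) ?_ (diag_centralizer_det v)
  · have hcomm : y⁻¹ * s = s * y⁻¹ := Units.ext (by
      rw [Units.val_mul, Units.val_mul, show (s : Matrix (Fin n) (Fin n) F) = Matrix.diagonal fun _ => (α : F) from rfl,
        ← smul_eq_mul_diagonal, ← smul_eq_diagonal_mul])
    have e : y⁻¹ * x * y = s * (y⁻¹ * (s⁻¹ * x) * y) := by
      rw [← mul_assoc, ← mul_assoc, ← hcomm]; group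
    rw [e, hya]
    apply Units.ext
    rw [Units.val_mul, show (s : Matrix (Fin n) (Fin n) F) = Matrix.diagonal fun _ => (α : F) from rfl,
      diagGL_val, diagGL_val, diagonal_mul_diagonal]
    simp [v]
  · rw [diagGL_val, diagonal_transpose, Matrix.mul_one, diagonal_map (map_zero σ), diagonal_mul_diagonal,
      Matrix.smul_one_eq_diagonal]
    congr 1
    funext i
    show (v i : F) * σ (v i) = ((α * Units.map σ.toMonoidHom α : Fˣ) : F)
    simp only [v, Units.val_mul, Units.val_pow_eq_pow_val, Units.val_neg, Units.val_one, map_mul, map_pow,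
      map_neg, map_one, Units.coe_map]
    have h1 : ((-1 : F) ^ (a i : ℕ)) * ((-1 : F) ^ (a i : ℕ)) = 1 := by rw [← mul_pow]; norm_num
    show _ = (α : F) * σ (α : F)
    linear_combination ((α : F) * σ (α : F)) * h1

/-- An element whose square is scalar, in characteristic two. -/
theorem ufixes_char_two [CharP F 2] (hn : 1 ≤ n) {x : GL (Fin n) F} {z : F}
    (hx : (x : Matrix (Fin n) (Fin n) F) ^ 2 = z • 1) : UFixes σ A x := by
  classical
  haveI : Nonempty (Fin n) := ⟨⟨0, hn⟩⟩
  obtain ⟨α, hα⟩ := FiniteField.isSquare_of_char_two (ringChar.eq F 2) z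
  have hz0 : z ≠ 0 := fun h => by
    have hd := congrArg Matrix.det hx
    rw [det_pow, h, zero_smul, det_zero] at hd
    exact (Matrix.isUnits_det_units x).ne_zero (pow_eq_zero_iff two_ne_zero |>.1 hd)
  have hα0 : α ≠ 0 := fun h => hz0 (by rw [hα, h, mul_zero])
  set g : Module.End F (Fin n → F) := Matrix.toLinAlgEquiv' (x : Matrix (Fin n) (Fin n) F) with hg
  have hg2 : ∀ v, g (g v) = z • v := fun v => by
    have h := congrArg (fun M => M *ᵥ v) hx
    simp only [sq, ← mulVec_mulVec, smul_mulVec, one_mulVec] at h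
    exact h
  let N : Module.End F (Fin n → F) := α⁻¹ • g + 1
  have hN : N ^ 2 = 0 := by
    refine LinearMap.ext fun v => ?_
    simp only [N, sq, Module.End.mul_apply, LinearMap.add_apply, LinearMap.smul_apply, Module.End.one_apply, map_add,
      map_smul, hg2, LinearMap.zero_apply, smul_smul]
    rw [smul_add, smul_smul, show α⁻¹ * (α⁻¹ * z) = 1 by rw [hα]; field_simp, one_smul]
    rw [show v + α⁻¹ • g v + (α⁻¹ • g v + v) = (v + v) + (α⁻¹ • g v + α⁻¹ • g v) by abel]
    ext i
    simp [CharTwo.add_self_eq_zero]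
  obtain ⟨t, d, b, hd, hb⟩ := CfsgLib.Classical.JordanType.exists_jBasis hN
  let E : ((k : Fin t) × Fin (d k)) ≃ Fin n := Fintype.equivOfCardEq (by
    rw [← Module.finrank_eq_card_basis b, Module.finrank_pi, Fintype.card_fin])
  let b' := b.reindex E
  let π₀ : ((k : Fin t) × Fin (d k)) → ((k : Fin t) × Fin (d k)) := fun s => ⟨s.1, s.2.rev⟩
  have hπ : ∀ s, π₀ (π₀ s) = s := fun s => by simp [π₀]
  let π : Equiv.Perm (Fin n) := (⟨π₀, π₀, hπ, hπ⟩ : Equiv.Perm ((k : Fin t) × Fin (d k))).trans (Equiv.refl _) |> E.permCongr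
  let J : Matrix (Fin n) (Fin n) F := Matrix.of fun r c =>
    if (E.symm c).1 = (E.symm r).1 ∧ ((E.symm c).2 : ℕ) + 1 = ((E.symm r).2 : ℕ) then 1 else 0
  let X₀ : Matrix (Fin n) (Fin n) F := α • (1 + J)
  let W : Matrix (Fin n) (Fin n) F := Matrix.of fun k i => b' i k
  have hW : W.det ≠ 0 := by
    have : W = (Pi.basisFun F (Fin n)).toMatrix b' := by ext k i; simp [W, Module.Basis.toMatrix_apply]
    rw [this]
    exact ((Pi.basisFun F (Fin n)).isUnit_det b').ne_zero
  let y : GL (Fin n) F := GeneralLinearGroup.mkOfDetNeZero W hW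
  have hbasis : ∀ i : Fin n, N (b' i) = ∑ r, J r i • b' r := by
    intro i
    simp only [b', Module.Basis.reindex_apply, J, Matrix.of_apply, ite_smul, one_smul, zero_smul]
    rw [hb]
    split_ifs with h
    · rw [Finset.sum_eq_single (E ⟨(E.symm i).1, ⟨((E.symm i).2 : ℕ) + 1, h⟩⟩)]
      · rw [Equiv.symm_apply_apply, if_pos ⟨rfl, rfl⟩]
      · intro r _ hr
        rw [if_neg]
        rintro ⟨h1, h2⟩
        refine hr (E.symm.injective ?_)
        rw [Equiv.symm_apply_apply]
        rcases hr' : E.symm r with ⟨k, j⟩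
        rw [hr'] at h1 h2
        simp only at h1 h2
        subst h1
        exact congrArg _ (Fin.ext h2.symm)
      · simp
    · refine (Finset.sum_eq_zero fun r _ => ?_).symm
      rw [if_neg]
      rintro ⟨h1, h2⟩
      refine h ?_
      have := (E.symm r).2.isLt
      rw [h2]
      rw [show d (E.symm i).1 = d (E.symm r).1 by rw [h1]]
      exact this
  have hXW : (x : Matrix (Fin n) (Fin n) F) * W = W * X₀ := by
    refine Matrix.ext_of_mulVec_single fun i => ?_
    rw [← mulVec_mulVec, ← mulVec_mulVec, show W *ᵥ Pi.single i 1 = b' i by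
      rw [mulVec_single_one]; rfl]
    have hgb : g (b' i) = α • (b' i + N (b' i)) := by
      simp only [N, LinearMap.add_apply, LinearMap.smul_apply, Module.End.one_apply]
      rw [show b' i + (α⁻¹ • g (b' i) + b' i) = α⁻¹ • g (b' i) + (b' i + b' i) by abel,
        show b' i + b' i = 0 from funext fun k => CharTwo.add_self_eq_zero _, add_zero, smul_smul,
        mul_inv_cancel₀ hα0, one_smul]
    show g (b' i) = _
    rw [hgb, hbasis]
    simp only [X₀, smul_mulVec, add_mulVec, one_mulVec, mulVec_smul, mulVec_add]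
    congr 2
    · rw [mulVec_single_one]; rfl
    · funext k
      rw [Finset.sum_apply, mulVec, dotProduct]
      refine Finset.sum_congr rfl fun r _ => ?_
      rw [mulVec_single_one]
      simp [W, mul_comm]
  have hdetX : X₀.det ≠ 0 := fun h => by
    have := congrArg Matrix.det hXW
    rw [det_mul, det_mul, h, mul_zero] at this
    exact mul_ne_zero (Matrix.isUnits_det_units x).ne_zero hW this
  let x₀ : GL (Fin n) F := GeneralLinearGroup.mkOfDetNeZero X₀ hdetX
  have hy : y⁻¹ * x * y = x₀ := by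
    rw [mul_assoc, inv_mul_eq_iff_eq_mul]
    exact Units.ext hXW
  set D : Matrix (Fin n) (Fin n) F := Matrix.of fun i j => if π i = j then (1 : F) else 0 with hD
  have hππ : ∀ i, π (π i) = i := fun i => by simp [π, Equiv.permCongr_apply, hπ]
  have hDh : Dᵀ = D.map σ := by
    rw [hD, perm_form_symm π hππ]
    ext i j
    by_cases h : π i = j <;> simp [h]
  have hJσ : J.map σ = J := by
    ext i j
    simp only [J, map_apply, Matrix.of_apply]
    split_ifs <;> simp
  have hπE : ∀ i, E.symm (π i) = π₀ (E.symm i) := fun i => by simp [π, Equiv.permCongr_apply]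
  have hsym : Jᵀ * D = D * J := by
    ext i j
    simp only [hD, Matrix.mul_apply, Matrix.transpose_apply, Matrix.of_apply, mul_ite, mul_one, mul_zero, ite_mul,
      one_mul, zero_mul, Finset.sum_ite_eq, Finset.mem_univ, if_true]
    rw [Finset.sum_eq_single (π j) (fun r _ hr => by rw [if_neg]; intro h; exact hr (by rw [← h, hππ])) (by simp),
      hππ, if_pos rfl]
    simp only [J, Matrix.of_apply]
    refine if_congr ?_ rfl rfl
    generalize hsi : E.symm (π i) = si
    generalize hsj : E.symm (π j) = sj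
    rw [hπE] at hsi hsj
    subst hsi; subst hsj
    rcases E.symm i with ⟨a, u⟩
    rcases E.symm j with ⟨c, w⟩
    simp only [π₀]
    simp only [Fin.val_rev]
    constructor
    · rintro ⟨h1, h2⟩; subst h1; exact ⟨rfl, by omega⟩
    · rintro ⟨h1, h2⟩; subst h1; exact ⟨rfl, by omega⟩
  have hJ2 : J * J = 0 := by
    ext i j
    rw [Matrix.mul_apply, Matrix.zero_apply]
    refine Finset.sum_eq_zero fun r _ => ?_
    simp only [J, Matrix.of_apply]
    split_ifs with h1 h2
    · exfalso
      have := (E.symm i).2.isLt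
      have := (hd (E.symm i).1).2
      omega
    all_goals simp
  refine ufixes_of_model hne hinv hAh hA hDh (perm_form_det π) hy (Units.mk0 α hα0 * Units.map σ.toMonoidHom (Units.mk0 α hα0)) ?_ ?_
  · show X₀ᵀ * D * X₀.map σ = _
    simp only [X₀, transpose_smul, transpose_add, transpose_one, Matrix.map_smul' σ _ _ (map_mul σ),
      Matrix.map_add σ (map_add σ), Matrix.map_one σ (map_zero σ) (map_one σ), hJσ, Matrix.smul_mul, Matrix.mul_smul,
      smul_smul, Matrix.add_mul, Matrix.one_mul, Matrix.mul_add, Matrix.mul_one, hsym]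
    rw [Matrix.mul_assoc D J J, hJ2, Matrix.mul_zero, add_zero, ← smul_add, smul_smul,
      show D + D * J + D * J = D + (D * J + D * J) by abel,
      show D * J + D * J = 0 from Matrix.ext fun i j => CharTwo.add_self_eq_zero _, add_zero]
    congr 1
    simp [mul_comm]
  · intro u
    have ht0 : 0 < t := Nat.pos_of_ne_zero fun h => by
      subst h
      exact (E.symm ⟨0, hn⟩).1.elim0
    let k₀ : Fin t := ⟨0, ht0⟩
    obtain ⟨a, ha⟩ : ∃ a : Fˣ, a ^ d k₀ = u := by
      rcases (show d k₀ = 1 ∨ d k₀ = 2 by have := hd k₀; omega) with h | h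
      · exact ⟨u, by rw [h, pow_one]⟩
      · obtain ⟨a, ha⟩ := FiniteField.isSquare_of_char_two (ringChar.eq F 2) (u : F)
        have ha0 : a ≠ 0 := fun h0 => u.ne_zero (by rw [ha, h0, mul_zero])
        exact ⟨Units.mk0 a ha0, Units.ext (by rw [h, Units.val_pow_eq_pow_val, Units.val_mk0, sq, ← ha])⟩
    let w : Fin n → Fˣ := fun i => if (E.symm i).1 = k₀ then a else 1
    refine ⟨diagGL w, Units.ext ?_, ?_⟩
    · show (diagGL w : Matrix (Fin n) (Fin n) F) * X₀ = X₀ * (diagGL w : Matrix (Fin n) (Fin n) F)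
      simp only [X₀, Matrix.mul_smul, Matrix.smul_mul, Matrix.mul_add, Matrix.add_mul, Matrix.mul_one, Matrix.one_mul]
      congr 2
      ext i j
      rw [diagGL_val, diagonal_mul, mul_diagonal]
      simp only [J, Matrix.of_apply]
      split_ifs with h
      · simp [w, h.1]
      · simp
    · rw [det_diagGL, ← E.prod_comp, Fintype.prod_sigma, Finset.prod_eq_single k₀]
      · simp [w, ha]
      · intro c _ hc; simp [w, hc]
      · simp

/-- The exceptional case `n = r ∈ {3, 5}`. -/
theorem ufixes_exceptional {r : ℕ} [Fact r.Prime] (hr : r = 3 ∨ r = 5) (hnr : n = r)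
    (hv : padicValNat r (Fintype.card F - 1) = 1) (hroot : ∀ a : F, a ^ r = 1 → σ a = a) {x : GL (Fin n) F}
    (hdet : GeneralLinearGroup.det x = 1) {z : F} (hx : ((x ^ r : GL (Fin n) F) : Matrix (Fin n) (Fin n) F) = z • 1) :
    UFixes σ A x := by
  classical
  haveI : Nonempty (Fin n) := ⟨⟨0, by rcases hr with rfl | rfl <;> omega⟩⟩
  obtain ⟨y, v, π, c, hy, hπ, hvv, hvr⟩ := exceptional_normal_form hr hnr hv hdet hx
  have hfix : ∀ i, σ (v i : F) = v i := fun i => hroot _ (by rw [← Units.val_pow_eq_pow_val, hvr i, Units.val_one])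
  set D : Matrix (Fin n) (Fin n) F := Matrix.of fun i j => if π i = j then (1 : F) else 0 with hD
  have hDh : Dᵀ = D.map σ := by
    rw [hD, perm_form_symm π hπ]
    ext i j
    by_cases h : π i = j <;> simp [h]
  refine ufixes_of_model hne hinv hAh hA hDh (perm_form_det π) hy c ?_ (diag_centralizer_det v)
  rw [diagGL_val, diagonal_map (map_zero σ)]
  simp only [Function.comp_def, hfix]
  obtain ⟨c', hc'⟩ := CfsgLib.Forms.mem_simBil.1 (diagGL_mem_perm v c π hvv)
  ext i j
  rw [diagonal_transpose, mul_diagonal, diagonal_mul, Matrix.smul_apply, hD, Matrix.of_apply]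
  by_cases h : π i = j
  · subst h
    simp [← hvv i]
  · simp [h]

end CfsgLib.Classical.Elusive.SLUnit
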