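/-
The index of the unitary similitudes in the special linear group.
-/
import Cfsg.Agent.Lib.Classical.Elusive.SLUnitBasic
import Cfsg.Agent.Lib.Classical.Elusive.SLFormSemisimple
import Cfsg.Agent.Lib.Classical.GLOrder
import Cfsg.Agent.Lib.Classical.HermOrder

set_option autoImplicit false

namespace CfsgLib.Classical.Elusive.SLUnit

open Matrix CfsgLib.Classical.Elusive.SLForm

variable {F : Type*} [Field F] [Fintype F] {p : ℕ} [Fact p.Prime] [CharP F p] {n r q₀ : ℕ} [Fact r.Prime]

/-- When `r` can divide the index. -/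
theorem exists_neg_power (hn : 1 ≤ n) {σ : F →+* F} (hσ : ∀ a, σ a = a ^ q₀) (hF : Fintype.card F = q₀ ^ 2)
    (hne : σ ≠ RingHom.id F) (hinv : ∀ a, σ (σ a) = a) {A : Matrix (Fin n) (Fin n) F} (hAh : Aᵀ = A.map σ)
    (hA : A.det ≠ 0) (hr2 : r ≠ 2) (hrp : r ≠ p)
    (hΩ : r ∣ (Cfsg.Geo.similarityGroup (hForm σ A)).relIndex (Cfsg.Geo.specialLinear (Fin n) F)) :
    ∃ j, 1 ≤ j ∧ j ≤ n ∧ (-(q₀ : ZMod r)) ^ j = -1 := by
  classical
  by_contra hc
  push Not at hc
  set q := Fintype.card F with hqdef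
  set H := Cfsg.Geo.similarityGroup (hForm σ A)
  set S := Cfsg.Geo.specialLinear (Fin n) F
  have hq2 := CfsgLib.Classical.two_le_q hF
  have hS : Nat.card S = Nat.card (SpecialLinearGroup (Fin n) F) := CfsgLib.Classical.card_ker_det
  have hmul : H.relIndex S * Nat.card (H.subgroupOf S) = Nat.card S := Subgroup.index_mul_card _
  have hrel0 : H.relIndex S ≠ 0 := fun h => by rw [h, zero_mul] at hmul; exact Nat.card_pos.ne hmul
  -- `SU` embeds
  obtain ⟨W, hW⟩ := exists_congr_one hne hinv hAh hA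
  let φ : Cfsg.SU n F q₀ →* GL (Fin n) F :=
    { toFun := fun g => W * SpecialLinearGroup.toGL g.1 * W⁻¹
      map_one' := by simp
      map_mul' := fun g h => by simp [mul_assoc] }
  have hφS : ∀ g, φ g ∈ S := fun g => by
    show GeneralLinearGroup.det (W * SpecialLinearGroup.toGL g.1 * W⁻¹) = 1
    rw [map_mul, map_mul, show GeneralLinearGroup.det (SpecialLinearGroup.toGL g.1) = 1 from Units.ext g.1.2,
      mul_one, map_inv, mul_inv_cancel]
  have hφH : ∀ g, φ g ∈ H := fun g => by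
    refine ⟨1, fun u v => ?_⟩
    rw [Units.val_one, one_mul]
    have hh : ∀ a b : Fin n → F, hForm σ A ((W : Matrix (Fin n) (Fin n) F) *ᵥ a) ((W : Matrix (Fin n) (Fin n) F) *ᵥ b) =
        Cfsg.hermForm n F q₀ a b := fun a b => by
      rw [hForm_mulVec, hW]
      simp [hForm, Cfsg.hermForm, dotProduct, hσ]
    have hg : ∀ a b : Fin n → F, Cfsg.hermForm n F q₀ ((g.1 : Matrix (Fin n) (Fin n) F) *ᵥ a) ((g.1 : Matrix (Fin n) (Fin n) F) *ᵥ b) =
        Cfsg.hermForm n F q₀ a b := fun a b => g.2 a b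
    have hWu : ∀ a : Fin n → F, (W : Matrix (Fin n) (Fin n) F) *ᵥ (((W⁻¹ : GL (Fin n) F) : Matrix (Fin n) (Fin n) F) *ᵥ a) = a :=
      fun a => by rw [mulVec_mulVec, ← Units.val_mul, mul_inv_cancel, Units.val_one, one_mulVec]
    show hForm σ A (((W * SpecialLinearGroup.toGL g.1 * W⁻¹ : GL (Fin n) F) : Matrix (Fin n) (Fin n) F) *ᵥ u)
      (((W * SpecialLinearGroup.toGL g.1 * W⁻¹ : GL (Fin n) F) : Matrix (Fin n) (Fin n) F) *ᵥ v) = _
    rw [Units.val_mul, Units.val_mul, ← mulVec_mulVec, ← mulVec_mulVec, ← mulVec_mulVec, ← mulVec_mulVec]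
    show hForm σ A (W.1 *ᵥ ((g.1 : Matrix (Fin n) (Fin n) F) *ᵥ _)) (W.1 *ᵥ ((g.1 : Matrix (Fin n) (Fin n) F) *ᵥ _)) = _
    rw [hh, hg, ← hh, hWu, hWu]
  let ψ : Cfsg.SU n F q₀ →* H.subgroupOf S :=
    (φ.codRestrict S hφS).codRestrict (H.subgroupOf S) fun g => hφH g
  have hψ : Function.Injective ψ := fun g h e => by
    have e1 : φ g = φ h := congrArg (fun t : H.subgroupOf S => (t.1 : GL (Fin n) F)) e
    have e2 := mul_left_cancel (mul_right_cancel e1)
    exact Subtype.ext (SpecialLinearGroup.toGL_injective e2)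
  have hdvd : Nat.card (Cfsg.SU n F q₀) ∣ Nat.card (H.subgroupOf S) := Subgroup.card_dvd_of_injective ψ hψ
  -- the valuations
  have hr2' : padicValNat r 2 = 0 := padicValNat.eq_zero_of_not_dvd fun h =>
    hr2 ((Nat.prime_dvd_prime_iff_eq Fact.out Nat.prime_two).1 h)
  have hqne : ∀ k, k ≠ 0 → 2 ≤ q₀ ^ k := fun k hk => hq2.trans (Nat.le_self_pow hk q₀)
  have hrq0 : ¬ r ∣ q₀ := fun h => not_dvd_card_q (F := F) hrp (by rw [← hqdef, hF]; exact dvd_pow h two_ne_zero)
  have hvq : ∀ k, padicValNat r (q₀ ^ k) = 0 := fun k =>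
    padicValNat.eq_zero_of_not_dvd fun h => hrq0 ((Fact.out : r.Prime).dvd_of_dvd_pow h)
  let a : ℕ → ℕ := fun i => if Even i then q₀ ^ (i + 1) + 1 else q₀ ^ (i + 1) - 1
  have ha0 : ∀ i, a i ≠ 0 := fun i => by
    have := hqne (i + 1) (by omega)
    simp only [a]; split_ifs <;> omega
  have hsplit : ∀ i, i < n → padicValNat r (q ^ (i + 1) - 1) = padicValNat r (a i) := by
    intro i hi
    have h1 : q ^ (i + 1) - 1 = (q₀ ^ (i + 1) + 1) * (q₀ ^ (i + 1) - 1) := by
      rw [hF, show (q₀ ^ 2) ^ (i + 1) = (q₀ ^ (i + 1)) ^ 2 by ring]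
      simpa using Nat.sq_sub_sq (q₀ ^ (i + 1)) 1
    have h2 := hqne (i + 1) (by omega)
    rw [h1, padicValNat.mul (by omega) (by omega)]
    simp only [a]
    have hcj := hc (i + 1) (by omega) (by omega)
    rcases Nat.even_or_odd i with he | ho
    · rw [if_pos he]
      have : padicValNat r (q₀ ^ (i + 1) - 1) = 0 := padicValNat.eq_zero_of_not_dvd fun h => hcj (by
        rw [← ZMod.natCast_eq_zero_iff, Nat.cast_sub (by omega), Nat.cast_one, sub_eq_zero, Nat.cast_pow] at h
        rw [Odd.neg_pow he.add_one, h])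
      omega
    · rw [if_neg (Nat.not_even_iff_odd.2 ho)]
      have : padicValNat r (q₀ ^ (i + 1) + 1) = 0 := padicValNat.eq_zero_of_not_dvd fun h => hcj (by
        rw [← ZMod.natCast_eq_zero_iff, Nat.cast_add, Nat.cast_one, Nat.cast_pow] at h
        rw [Even.neg_pow (Nat.even_add_one.2 (Nat.not_even_iff_odd.2 ho)), eq_neg_of_add_eq_zero_left h])
      omega
  have hprodA : ∀ m, padicValNat r (∏ i ∈ Finset.range m, a i) = ∑ i ∈ Finset.range m, padicValNat r (a i) := by
    intro m
    induction m with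
    | zero => simp
    | succ m ih =>
      rw [Finset.prod_range_succ, Finset.sum_range_succ,
        padicValNat.mul (Finset.prod_ne_zero_iff.2 fun i _ => ha0 i) (ha0 m), ih]
  have hpne : ∀ m, ∏ i ∈ Finset.range m, a i ≠ 0 := fun m => Finset.prod_ne_zero_iff.2 fun i _ => ha0 i
  have hSU : padicValNat r (q₀ + 1) + padicValNat r (Nat.card (Cfsg.SU n F q₀)) =
      ∑ i ∈ Finset.range n, padicValNat r (a i) := by
    rw [← padicValNat.mul (by omega) Nat.card_pos.ne', CfsgLib.Classical.card_su hF hn,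
      CfsgLib.Classical.unitaryOrder, padicValNat.mul (pow_ne_zero _ (by omega)) (hpne n), hvq, zero_add, hprodA]
  have hSL : padicValNat r (q - 1) + padicValNat r (Nat.card (SpecialLinearGroup (Fin n) F)) =
      ∑ i ∈ Finset.range n, padicValNat r (q ^ (i + 1) - 1) := by
    have hq1 : 1 < q := Fintype.one_lt_card
    have h := congrArg (padicValNat r) (CfsgLib.Classical.card_SL_mul (F := F) (q := q) rfl n hn)
    rw [padicValNat.mul (by omega) Nat.card_pos.ne'] at h
    rw [h, Fin.prod_univ_eq_prod_range (fun i => q ^ n - q ^ i)]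
    have hfac : ∀ i, i < n → q ^ n - q ^ i = q ^ i * (q ^ (n - i) - 1) := fun i hi => by
      rw [Nat.mul_sub, mul_one, ← pow_add, Nat.add_sub_cancel' hi.le]
    have hrq : ¬ r ∣ q := not_dvd_card_q (F := F) hrp
    have hprod : ∀ m, m ≤ n → padicValNat r (∏ i ∈ Finset.range m, (q ^ n - q ^ i)) =
        ∑ i ∈ Finset.range m, padicValNat r (q ^ (n - i) - 1) := by
      intro m hm
      induction m with
      | zero => simp
      | succ m ih =>
        have hne : ∀ i, i < n → q ^ n - q ^ i ≠ 0 := fun i hi => by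
          have := Nat.pow_lt_pow_right hq1 hi; omega
        rw [Finset.prod_range_succ, Finset.sum_range_succ,
          padicValNat.mul (Finset.prod_ne_zero_iff.2 fun i hi => hne i (by
            have := Finset.mem_range.1 hi; omega)) (hne m (by omega)), ih (by omega), hfac m (by omega),
          padicValNat.mul (pow_ne_zero _ (by omega)) (by
            have := Nat.one_lt_pow (show n - m ≠ 0 by omega) hq1; omega),
          padicValNat.eq_zero_of_not_dvd (fun h' => hrq ((Fact.out : r.Prime).dvd_of_dvd_pow h')),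
          zero_add]
    rw [hprod n le_rfl, ← Finset.sum_range_reflect]
    refine Finset.sum_congr rfl fun j hj => ?_
    rw [show n - (n - 1 - j) = j + 1 by have := Finset.mem_range.1 hj; omega]
  have hsum : ∑ i ∈ Finset.range n, padicValNat r (q ^ (i + 1) - 1) = ∑ i ∈ Finset.range n, padicValNat r (a i) :=
    Finset.sum_congr rfl fun i hi => hsplit i (Finset.mem_range.1 hi)
  have hq1' : padicValNat r (q - 1) = padicValNat r (q₀ + 1) := by
    have h := hsplit 0 hn
    simpa [a] using h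
  have h3 : padicValNat r (Nat.card (Cfsg.SU n F q₀)) ≤ padicValNat r (Nat.card (H.subgroupOf S)) := by
    obtain ⟨k, hk⟩ := hdvd
    rw [hk, padicValNat.mul Nat.card_pos.ne' (fun h => by rw [h, mul_zero] at hk; exact Nat.card_pos.ne' hk)]
    omega
  have h4 : 1 ≤ padicValNat r (H.relIndex S) := one_le_padicValNat_of_dvd hrel0 hΩ
  have h5 := congrArg (padicValNat r) hmul
  rw [padicValNat.mul hrel0 Nat.card_pos.ne', hS] at h5
  omega

end CfsgLib.Classical.Elusive.SLUnit
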