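/-
Elements of prime order of the special linear group preserving no hermitian form up to a scalar.
-/
import Cfsg.Agent.Lib.Classical.Elusive.SLUnitBasic
import Cfsg.Agent.Lib.Classical.Elusive.SLFormSemisimple
import Mathlib.FieldTheory.KummerPolynomial

set_option autoImplicit false

namespace CfsgLib.Classical.Elusive.SLUnit

open Matrix CfsgLib.Classical.Elusive.SLForm Polynomial

variable {F : Type*} [Field F] {n : ℕ} {σ : F →+* F}

theorem map_pow_matrix (σ : F →+* F) (M : Matrix (Fin n) (Fin n) F) (k : ℕ) :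
    (M ^ k).map σ = M.map σ ^ k := map_pow σ.mapMatrix M k

/-- Powers of a similitude. -/
theorem form_pow {B : Matrix (Fin n) (Fin n) F} {M : Matrix (Fin n) (Fin n) F} {c : F}
    (h : Mᵀ * B * M.map σ = c • B) (k : ℕ) : (M ^ k)ᵀ * B * (M ^ k).map σ = c ^ k • B := by
  induction k with
  | zero => simp [Matrix.map_one σ (map_zero σ) (map_one σ)]
  | succ k ih =>
    rw [pow_succ M, transpose_mul, Matrix.map_mul,
      show Mᵀ * (M ^ k)ᵀ * B * ((M ^ k).map σ * M.map σ) = Mᵀ * ((M ^ k)ᵀ * B * (M ^ k).map σ) * M.map σ by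
        simp only [Matrix.mul_assoc],
      ih, Matrix.mul_smul, Matrix.smul_mul, h, smul_smul, ← pow_succ]

variable (hinv : ∀ a, σ (σ a) = a) {A : Matrix (Fin n) (Fin n) F} (hAh : Aᵀ = A.map σ) (hA : A.det ≠ 0)
include hinv hAh hA

theorem not_ufixes_diag (hn : 1 ≤ n) [DecidableEq F] {r : ℕ} {v : Fin n → Fˣ} (h : DiagWitness r v)
    (hfix : ∀ i, σ (v i : F) = v i) : ¬ UFixes σ A (diagGL v) := by
  intro hf
  obtain ⟨c, B, hc, -, hB, hx⟩ := preserved hinv hn hAh hA hf
  rw [diagGL_val, diagonal_map (map_zero σ)] at hx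
  simp only [Function.comp_def, hfix] at hx
  exact h.2.2.2 c B hc hB hx

/-- Square roots of non-square scalars are not similitudes. -/
theorem not_ufixes_nonsquare [Fintype F] (hn : 1 ≤ n) {q₀ : ℕ} (hσ : ∀ a, σ a = a ^ q₀)
    (hF : Fintype.card F = q₀ ^ 2) (h2 : ringChar F ≠ 2) {x : GL (Fin n) F} {z : F} (hz : ¬ IsSquare z)
    (hx : (x : Matrix (Fin n) (Fin n) F) ^ 2 = z • 1) : ¬ UFixes σ A x := by
  intro hf
  obtain ⟨c, B, hc, hcσ, hB, hform⟩ := preserved hinv hn hAh hA hf
  have hz0 : z ≠ 0 := fun h => hz (h ▸ IsSquare.zero)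
  haveI : Nonempty (Fin n) := ⟨⟨0, hn⟩⟩
  have hB0 : B ≠ 0 := fun h => hB (by simp [h])
  have h := form_pow hform 2
  rw [hx, transpose_smul, transpose_one, Matrix.map_smul' σ _ _ (map_mul σ), Matrix.map_one σ (map_zero σ) (map_one σ),
    Matrix.smul_mul, Matrix.one_mul, Matrix.mul_smul, Matrix.mul_one, smul_smul, hσ] at h
  have hzc : z ^ q₀ * z = c ^ 2 := smul_left_injective F hB0 h
  have hq2 := CfsgLib.Classical.two_le_q hF
  have hc1 : c ^ (q₀ - 1) = 1 := by
    rw [hσ] at hcσ
    refine mul_right_cancel₀ hc ?_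
    rw [← pow_succ, Nat.sub_add_cancel (by omega : 1 ≤ q₀), hcσ, one_mul]
  have hodd : Odd (Fintype.card F) := Nat.odd_iff.2 (FiniteField.odd_card_of_char_ne_two h2)
  have hodd0 : Odd q₀ := by rw [hF, Nat.odd_pow_iff two_ne_zero] at hodd; exact hodd
  obtain ⟨m, hm⟩ := hodd0
  refine hz ((FiniteField.isSquare_iff h2 hz0).2 ?_)
  have he : Fintype.card F / 2 = (q₀ + 1) * m := by
    rw [hF, hm]
    have : (2 * m + 1) ^ 2 = 2 * ((2 * m + 1 + 1) * m) + 1 := by ring
    omega
  rw [he, pow_mul, pow_succ, hzc, ← pow_mul, ← hc1]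
  congr 1
  omega

variable [Fintype F] {p : ℕ} [Fact p.Prime] [CharP F p] {r : ℕ} [Fact r.Prime]

/-- A block whose eigenvalues are not closed under `a ↦ a ^ (-q₀)`. -/
theorem bad_unit_semisimple {q₀ : ℕ} (hσ : ∀ a, σ a = a ^ q₀) (hF : Fintype.card F = q₀ ^ 2) (hrp : r ≠ p)
    (hr1 : ¬ r ∣ Fintype.card F - 1) (heven : Even (orderOf (-(q₀ : ZMod r))))
    (hin : orderOf ((Fintype.card F : ℕ) : ZMod r) ≤ n) :
    ∃ x : GL (Fin n) F, x ∈ Cfsg.Geo.specialLinear (Fin n) F ∧ x ^ r = 1 ∧
      (∀ z : F, (x : Matrix (Fin n) (Fin n) F) ≠ z • 1) ∧ ¬ UFixes σ A x := by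
  classical
  obtain ⟨P, x, hirr, hdeg, hdvd, hP1, hxr, hxdet, hann, hker, -⟩ := exists_elt (n := n) hrp hr1 1 (by simpa using hin)
  set i := orderOf ((Fintype.card F : ℕ) : ZMod r) with hi
  have hi0 : 0 < i := by
    have := hirr.natDegree_pos
    omega
  set f := linOf x with hf
  haveI : Fact (Irreducible P) := ⟨hirr⟩
  have hP0 : P ≠ 0 := hirr.ne_zero
  set L := AdjoinRoot P
  set α : L := AdjoinRoot.root P
  have hα : aeval α P = 0 := by rw [AdjoinRoot.aeval_eq, AdjoinRoot.mk_self]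
  have hαr : α ^ r = 1 := by
    have := aeval_eq_zero_of_dvd_aeval_eq_zero hdvd hα
    rw [map_sub, map_pow, aeval_X, map_one, sub_eq_zero] at this
    exact this
  have hα1 : α ≠ 1 := fun h => hP1 (by
    have h' := hα
    rw [h, show (1 : L) = algebraMap F L 1 from (map_one _).symm, aeval_algebraMap_apply, map_eq_zero] at h'
    simpa using h')
  have hαo : orderOf α = r := orderOf_eq_prime hαr hα1
  have hfin : IsOfFinOrder α := isOfFinOrder_iff_pow_eq_one.2 ⟨r, (Fact.out : r.Prime).pos, hαr⟩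
  haveI : CharP L p := charP_of_injective_algebraMap (algebraMap F L).injective p
  haveI : ExpChar L p := ExpChar.prime Fact.out
  -- `σ` on `L`
  obtain ⟨e, he⟩ : ∃ e : ℕ, q₀ = p ^ e := by
    obtain ⟨k, hp, hk⟩ := FiniteField.card F p
    rw [hF] at hk
    obtain ⟨e, -, he⟩ := (Nat.dvd_prime_pow hp).1 (hk ▸ dvd_pow_self q₀ two_ne_zero : q₀ ∣ p ^ (k : ℕ))
    exact ⟨e, he⟩
  set Pσ : F[X] := P.map σ with hPσ
  have hfrob : ∀ (b : L) (Q : F[X]), (aeval b Q) ^ q₀ = aeval (b ^ q₀) (Q.map σ) := by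
    intro b Q
    have hτ : ∀ a : L, iterateFrobenius L p e a = a ^ q₀ := fun a => by rw [iterateFrobenius_def, he]
    induction Q using Polynomial.induction_on with
    | C c => simp [Polynomial.map_C, hσ]
    | add Q Q' hQ hQ' => rw [Polynomial.map_add, map_add, map_add, ← hτ, map_add, hτ, hτ, hQ, hQ']
    | monomial m c _ =>
      simp [Polynomial.map_mul, Polynomial.map_pow, mul_pow, hσ, ← pow_mul, mul_comm (m + 1) q₀]
  have hroot0 : ∀ j : ℕ, aeval (α ^ (Fintype.card F ^ j)) P = 0 := by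
    intro j
    induction j with
    | zero => simpa using hα
    | succ j ih =>
      have h := congrArg (FiniteField.frobeniusAlgHom F L) ih
      rw [← aeval_algHom_apply, map_zero, FiniteField.coe_frobeniusAlgHom] at h
      rw [pow_succ, pow_mul]
      exact h
  have hroot : ∀ j : ℕ, aeval (α ^ (Fintype.card F ^ j * q₀)) Pσ = 0 := fun j => by
    rw [pow_mul, hPσ, ← hfrob, hroot0, zero_pow (by have := CfsgLib.Classical.two_le_q hF; omega)]
  have hq0r : (q₀ : ZMod r) ≠ 0 := fun h => cast_card_ne_zero (F := F) hrp (by rw [hF, Nat.cast_pow, h, zero_pow two_ne_zero])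
  have hinj : Function.Injective fun j : Fin i => α ^ (Fintype.card F ^ (j : ℕ) * q₀) := by
    intro a b h
    rw [hfin.pow_eq_pow_iff_modEq, hαo, ← ZMod.natCast_eq_natCast_iff,
      Nat.cast_mul, Nat.cast_mul, Nat.cast_pow, Nat.cast_pow] at h
    exact Fin.ext (pow_injOn_Iio_orderOf a.2 b.2 (mul_right_cancel₀ hq0r h))
  have hPσ0 : Pσ ≠ 0 := (Polynomial.map_ne_zero_iff σ.injective).2 hP0
  have hall : ∀ β : L, aeval β Pσ = 0 → ∃ j : Fin i, α ^ (Fintype.card F ^ (j : ℕ) * q₀) = β := by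
    intro β hβ
    by_contra hc
    push Not at hc
    have hsub : insert β (Finset.univ.image fun j : Fin i => α ^ (Fintype.card F ^ (j : ℕ) * q₀)) ⊆ (Pσ.aroots L).toFinset := by
      intro z hz
      rw [Multiset.mem_toFinset, mem_aroots]
      refine ⟨hPσ0, ?_⟩
      rcases Finset.mem_insert.1 hz with rfl | hz
      · exact hβ
      · obtain ⟨j, -, rfl⟩ := Finset.mem_image.1 hz; exact hroot j
    have h1 := (Finset.card_le_card hsub).trans ((Multiset.toFinset_card_le _).trans (Polynomial.card_roots' _))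
    rw [Finset.card_insert_of_notMem (fun h => by obtain ⟨j, -, hj⟩ := Finset.mem_image.1 h; exact hc j hj),
      Finset.card_image_of_injective _ hinj, Finset.card_univ, Fintype.card_fin, natDegree_map, hPσ,
      natDegree_map, hdeg] at h1
    omega
  set R : F[X] := Pσ.comp (X ^ (r - 1)) with hR
  have hcop : IsCoprime (P * (X - C (1 : F))) R := by
    refine IsCoprime.mul_left ?_ ?_
    · refine hirr.coprime_iff_not_dvd.2 fun h => ?_
      have := aeval_eq_zero_of_dvd_aeval_eq_zero h hα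
      rw [hR, aeval_comp, map_pow, aeval_X] at this
      obtain ⟨j, hj⟩ := hall _ this
      rw [hfin.pow_eq_pow_iff_modEq, hαo, ← ZMod.natCast_eq_natCast_iff,
        Nat.cast_mul, Nat.cast_pow, Nat.cast_sub (Fact.out : r.Prime).one_le, ZMod.natCast_self, zero_sub,
        Nat.cast_one, hF, Nat.cast_pow, ← pow_mul, ← pow_succ] at hj
      have h2 : (-(q₀ : ZMod r)) ^ (2 * (j : ℕ) + 1) = 1 := by
        rw [Odd.neg_pow ⟨j, rfl⟩, hj, neg_neg]
      exact (Nat.not_even_iff_odd.2 ⟨j, rfl⟩) (even_iff_two_dvd.2 (heven.two_dvd.trans (orderOf_dvd_of_pow_eq_one h2)))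
    · refine (irreducible_X_sub_C (1 : F)).coprime_iff_not_dvd.2 fun h => hP1 ?_
      have := dvd_iff_isRoot.1 h
      rw [IsRoot, hR, eval_comp, eval_pow, eval_X, one_pow, hPσ, ← map_one σ, eval_map_apply] at this
      exact (map_eq_zero σ).1 this
  obtain ⟨v, hv, hv0⟩ : ∃ v ∈ LinearMap.ker (aeval f P), v ≠ 0 := by
    apply (Submodule.ne_bot_iff _).1
    intro hb
    rw [hb, finrank_bot, one_mul] at hker
    omega
  refine ⟨x, hxdet, hxr, fun z hz => ?_, fun hfx => ?_⟩
  · have hfz : f = algebraMap F (Module.End F (Fin n → F)) z := by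
      rw [hf]
      show Matrix.toLinAlgEquiv' _ = _
      rw [hz, map_smul, map_one, Algebra.algebraMap_eq_smul_one]
    rw [LinearMap.mem_ker, hfz, aeval_algebraMap_apply, Module.algebraMap_end_apply, smul_eq_zero] at hv
    have hPz : P.eval z = 0 := by simpa [coe_aeval_eq_eval] using hv.resolve_right hv0
    have hd1' := natDegree_eq_of_degree_eq_some (degree_eq_one_of_irreducible_of_root hirr (x := z) hPz)
    rw [hdeg] at hd1'
    exact hr1 (by
      have := (dvd_pow_sub_one_iff (F := F) (r := r) 1).2 (dvd_of_eq hd1')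
      rwa [pow_one] at this)
  · have hn : 1 ≤ n := le_trans hi0 hin
    haveI : Nonempty (Fin n) := ⟨⟨0, hn⟩⟩
    obtain ⟨c, B, hc, -, hB, h⟩ := preserved hinv hn hAh hA hfx
    set M := (x : Matrix (Fin n) (Fin n) F) with hMdef
    have hMr : M ^ r = 1 := by rw [hMdef, ← Units.val_pow_eq_pow_val, hxr, Units.val_one]
    have hB0 : B ≠ 0 := fun h0 => hB (by simp [h0])
    have hc1 : c = 1 := by
      have h1 := form_pow h r
      rw [hMr, transpose_one, Matrix.map_one σ (map_zero σ) (map_one σ), Matrix.one_mul, Matrix.mul_one] at h1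
      have hcr : c ^ r = 1 := smul_left_injective F hB0 (h1.symm.trans (one_smul F B).symm)
      refine orderOf_eq_one_iff.1 (Nat.dvd_one.1 ?_)
      have hcop : Nat.Coprime r (Fintype.card F - 1) := (Nat.Prime.coprime_iff_not_dvd Fact.out).2 hr1
      rw [← hcop.gcd_eq_one]
      refine Nat.dvd_gcd (orderOf_dvd_of_pow_eq_one hcr) ?_
      exact orderOf_dvd_of_pow_eq_one (FiniteField.pow_card_sub_one_eq_one c hc)
    rw [hc1, one_smul] at h
    have hsim : B * M.map σ = (M ^ (r - 1))ᵀ * B := by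
      calc B * M.map σ = (M * M ^ (r - 1))ᵀ * (B * M.map σ) := by
            rw [← pow_succ', Nat.sub_add_cancel (Fact.out : r.Prime).one_le, hMr, transpose_one, Matrix.one_mul]
        _ = (M ^ (r - 1))ᵀ * (Mᵀ * B * M.map σ) := by rw [transpose_mul]; simp only [Matrix.mul_assoc]
        _ = _ := by rw [h]
    have hpoly : ∀ Q : F[X], B * aeval (M.map σ) Q = (aeval (M ^ (r - 1)) Q)ᵀ * B := by
      intro Q
      induction Q using Polynomial.induction_on with
      | C c => simp [Algebra.algebraMap_eq_smul_one]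
      | add Q Q' hQ hQ' => simp [Matrix.mul_add, Matrix.add_mul, hQ, hQ', transpose_add]
      | monomial m a ih =>
        rw [show C a * X ^ (m + 1) = C a * X ^ m * X by ring, map_mul (aeval (M.map σ)) _ X,
          mul_comm (C a * X ^ m) X, map_mul (aeval (M ^ (r - 1))) X, aeval_X, aeval_X,
          ← Matrix.mul_assoc, ih, Matrix.mul_assoc, hsim, ← Matrix.mul_assoc, transpose_mul]
    have hmapσ : ∀ Q : F[X], aeval (M.map σ) (Q.map σ) = (aeval M Q).map σ := by
      intro Q
      induction Q using Polynomial.induction_on with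
      | C c =>
        rw [Polynomial.map_C, aeval_C, aeval_C, Matrix.algebraMap_eq_diagonal, Matrix.algebraMap_eq_diagonal,
          Matrix.diagonal_map (map_zero σ)]
        rfl
      | add Q Q' hQ hQ' => rw [Polynomial.map_add, map_add, map_add, hQ, hQ', Matrix.map_add σ (map_add σ)]
      | monomial m a ih =>
        rw [show C a * X ^ (m + 1) = C a * X ^ m * X by ring, Polynomial.map_mul, Polynomial.map_X,
          map_mul (aeval (M.map σ)) _ X, map_mul (aeval M) _ X, aeval_X, aeval_X, ih, Matrix.map_mul]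
    have hfM : ∀ Q : F[X], aeval f Q = Matrix.toLinAlgEquiv' (aeval M Q) := fun Q => by
      rw [hf, ← Polynomial.aeval_algHom_apply]
    rw [LinearMap.mem_ker, hfM, Matrix.toLinAlgEquiv'_apply] at hv
    have hdet0 : (aeval M P).det = 0 := Matrix.exists_mulVec_eq_zero_iff.1 ⟨v, hv0, hv⟩
    have h1 := congrArg Matrix.det (hpoly Pσ)
    rw [hPσ, hmapσ, det_mul, det_mul, det_transpose, ← RingHom.mapMatrix_apply, ← RingHom.map_det, hdet0, map_zero,
      mul_zero, eq_comm, mul_eq_zero] at h1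
    obtain ⟨w, hw0, hw⟩ := Matrix.exists_mulVec_eq_zero_iff.2 (h1.resolve_right hB)
    obtain ⟨a, b, hab⟩ := hcop
    refine hw0 ?_
    have hR0 : aeval M R *ᵥ w = 0 := by rw [hR, aeval_comp, map_pow, aeval_X]; exact hw
    have hP0' : aeval M (P * (X - C (1 : F))) *ᵥ w = 0 := by
      rw [← Matrix.toLinAlgEquiv'_apply, ← hfM, hann, LinearMap.zero_apply]
    have h2 : aeval M (a * (P * (X - C (1 : F))) + b * R) *ᵥ w = 0 := by
      rw [map_add, map_mul (aeval M) a, map_mul (aeval M) b, add_mulVec, ← mulVec_mulVec, ← mulVec_mulVec, hR0, hP0',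
        mulVec_zero, mulVec_zero, add_zero]
    rwa [hab, map_one, one_mulVec] at h2

end CfsgLib.Classical.Elusive.SLUnit
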