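/-
Elements of prime order of symplectic groups in characteristic two preserving a quadratic form of given type.
-/
import Cfsg.Agent.Lib.Classical.Elusive.FixPoint
import Cfsg.Prelude.Def_ClassicalGeometry

set_option autoImplicit false

namespace CfsgLib.Classical.Elusive

open Matrix Cfsg

universe u

variable {F : Type u} [Field F] [Fintype F] [CharP F 2] {d : ℕ}

/-- Values of `w + w²`. -/
def asHom : F →+ F :=
  AddMonoidHom.mk' (fun w => w + w * w) fun a b => by
    rw [CharTwo.add_mul_self]; abel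

/-- The subgroup of values of `w + w²`. -/
noncomputable def AS (F : Type u) [Field F] [CharP F 2] : AddSubgroup F := asHom.range

omit [Fintype F] in
theorem mem_AS {c : F} : c ∈ AS F ↔ ∃ w, w + w * w = c := Iff.rfl

omit [Fintype F] in
theorem mem_AS_add_sq (x : F) : x + x * x ∈ AS F := ⟨x, rfl⟩

theorem index_AS : (AS F).index = 2 := by
  classical
  have hk : Nat.card (asHom (F := F)).ker = 2 := by
    rw [Nat.card_eq_two_iff]
    refine ⟨⟨0, map_zero _⟩, ⟨1, ?_⟩, ?_, ?_⟩
    · show (1 : F) + 1 * 1 = 0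
      rw [mul_one]; exact CharTwo.add_self_eq_zero _
    · simp [Subtype.ext_iff]
    · refine Set.eq_univ_of_forall fun w => ?_
      have hw : (w : F) + w * w = 0 := w.2
      rcases mul_eq_zero.mp (show (w : F) * (1 + w) = 0 by linear_combination hw) with h | h
      · exact Or.inl (Subtype.ext h)
      · exact Or.inr (Subtype.ext (CharTwo.add_eq_zero.mp h).symm)
  have h1 := AddSubgroup.card_mul_index (asHom (F := F)).ker
  rw [AddSubgroup.index_ker, hk] at h1
  have h2 := AddSubgroup.card_mul_index (AS F)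
  have hpos : 0 < Nat.card (AS F) := Nat.card_pos
  rw [show AS F = (asHom (F := F)).range from rfl] at h2 hpos ⊢
  rw [← h1, mul_comm 2] at h2
  exact Nat.eq_of_mul_eq_mul_left hpos h2

theorem add_mem_AS {a b : F} : a + b ∈ AS F ↔ (a ∈ AS F ↔ b ∈ AS F) :=
  AddSubgroup.add_mem_iff_of_index_two index_AS

theorem exists_sqrt (c : F) : ∃ r : F, r * r = c := by
  obtain ⟨r, hr⟩ := FiniteField.isSquare_of_char_two (ringChar.eq F 2) c
  exact ⟨r, hr.symm⟩

theorem exists_not_mem_AS : ∃ t : F, t ∉ AS F := by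
  by_contra hc
  push Not at hc
  have h := index_AS (F := F)
  rw [show AS F = ⊤ from eq_top_iff.mpr fun x _ => hc x, AddSubgroup.index_top] at h
  omega

theorem eq_zero_of_scaled {c : F} (h : ∀ s : F, s * s * c ∈ AS F) : c = 0 := by
  by_contra hc
  obtain ⟨t, ht⟩ := exists_not_mem_AS (F := F)
  obtain ⟨s, hs⟩ := exists_sqrt (t / c)
  exact ht (by have := h s; rwa [hs, div_mul_cancel₀ _ hc] at this)

omit [Fintype F] in
theorem quad_add_of (Q : QuadraticForm F (Fin d ⊕ Fin d → F)) (u v : Fin d ⊕ Fin d → F) :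
    Q (u + v) = Q u + Q v + QuadraticMap.polar Q u v := quad_add Q u v

/-- The standard alternating form as a bilinear form. -/
noncomputable def fB : LinearMap.BilinForm F (Fin d ⊕ Fin d → F) := QuadraticMap.polarBilin (qPlus d F)

omit [Fintype F] in
theorem fB_eq (u v : Fin d ⊕ Fin d → F) : fB u v = sympForm d F u v := by
  show QuadraticMap.polar (qPlus d F) u v = _
  simp only [QuadraticMap.polar, coe_qPlus, Cfsg.quadFormPlus, sympForm, Matrix.J, fromBlocks_mulVec,
    dotProduct, Fintype.sum_sum_type, Pi.add_apply, Sum.elim_inl, Sum.elim_inr, zero_mulVec,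
    neg_mulVec, one_mulVec, zero_add, add_zero, Function.comp_apply, Pi.neg_apply]
  rw [← Finset.sum_sub_distrib, ← Finset.sum_sub_distrib, ← Finset.sum_add_distrib]
  refine Finset.sum_congr rfl fun i _ => ?_
  linear_combination (u (Sum.inl i) * v (Sum.inr i)) * (CharTwo.two_eq_zero (R := F))

omit [Fintype F] in
theorem fB_nondeg : (fB : LinearMap.BilinForm F (Fin d ⊕ Fin d → F)).Nondegenerate :=
  PolarNondeg.nondegenerate (polarNondeg_qPlus d)

omit [Fintype F] in
theorem fB_comm (u v : Fin d ⊕ Fin d → F) : fB u v = fB v u := QuadraticMap.polar_comm _ _ _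

omit [Fintype F] in
theorem fB_self (v : Fin d ⊕ Fin d → F) : fB v v = 0 := by
  show QuadraticMap.polar (qPlus d F) v v = 0
  rw [quad_polar_self, CharTwo.two_eq_zero, zero_mul]

/-- Quadratic forms with polar form the standard alternating form. -/
def Pol (Q : QuadraticForm F (Fin d ⊕ Fin d → F)) : Prop := ∀ u v, QuadraticMap.polar Q u v = fB u v

omit [Fintype F] in
theorem Pol.add (Q : QuadraticForm F (Fin d ⊕ Fin d → F)) (hQ : Pol Q) (u v : Fin d ⊕ Fin d → F) :
    Q (u + v) = Q u + Q v + fB u v := by rw [quad_add, hQ]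

/-- `Q + f(a, ·)²`. -/
noncomputable def shift (Q : QuadraticForm F (Fin d ⊕ Fin d → F)) (a : Fin d ⊕ Fin d → F) :
    QuadraticForm F (Fin d ⊕ Fin d → F) :=
  Q + QuadraticMap.linMulLin (fB a) (fB a)

omit [Fintype F] in
theorem shift_apply (Q : QuadraticForm F (Fin d ⊕ Fin d → F)) (a v : Fin d ⊕ Fin d → F) :
    shift Q a v = Q v + fB a v * fB a v := rfl

omit [Fintype F] in
theorem pol_shift {Q : QuadraticForm F (Fin d ⊕ Fin d → F)} (hQ : Pol Q) (a : Fin d ⊕ Fin d → F) :
    Pol (shift Q a) := fun u v => by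
  simp only [QuadraticMap.polar, shift_apply, map_add, CharTwo.add_mul_self, hQ.add]
  ring

omit [Fintype F] in
theorem shift_shift (Q : QuadraticForm F (Fin d ⊕ Fin d → F)) (a b v : Fin d ⊕ Fin d → F) :
    shift (shift Q a) b v = shift Q (a + b) v := by
  simp only [shift_apply, map_add, LinearMap.add_apply, CharTwo.add_mul_self]
  ring

theorem exists_shift {Q Q' : QuadraticForm F (Fin d ⊕ Fin d → F)} (hQ : Pol Q) (hQ' : Pol Q') :
    ∃ a, ∀ v, Q' v = shift Q a v := by
  choose s hs using exists_sqrt (F := F)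
  have hinj : ∀ {x y : F}, x * x = y * y → x = y := fun {x y} h => CharTwo.add_eq_zero.mp
    (mul_self_eq_zero.mp (by rw [CharTwo.add_mul_self, h, CharTwo.add_self_eq_zero]))
  let ℓ : (Fin d ⊕ Fin d → F) →ₗ[F] F :=
    { toFun := fun v => s (Q' v + Q v)
      map_add' := fun u v => hinj (by
        rw [hs, CharTwo.add_mul_self, hs, hs, hQ.add, hQ'.add]
        linear_combination CharTwo.add_self_eq_zero (fB u v))
      map_smul' := fun c v => hinj (by
        rw [hs, quad_smul, quad_smul]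
        simp only [RingHom.id_apply, smul_eq_mul]
        rw [mul_mul_mul_comm, hs]; ring) }
  refine ⟨(LinearMap.BilinForm.toDual fB fB_nondeg).symm ℓ, fun v => ?_⟩
  rw [shift_apply, LinearMap.BilinForm.apply_toDual_symm_apply]
  show _ = Q v + s (Q' v + Q v) * s (Q' v + Q v)
  rw [hs]
  linear_combination -CharTwo.add_self_eq_zero (Q v)

omit [Fintype F] in
theorem shift_inj {Q : QuadraticForm F (Fin d ⊕ Fin d → F)} {a b : Fin d ⊕ Fin d → F}
    (h : ∀ v, shift Q a v = shift Q b v) : a = b := by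
  have hinj : ∀ {x y : F}, x * x = y * y → x = y := fun {x y} h => CharTwo.add_eq_zero.mp
    (mul_self_eq_zero.mp (by rw [CharTwo.add_mul_self, h, CharTwo.add_self_eq_zero]))
  rw [← sub_eq_zero]
  refine fB_nondeg.1 _ fun v => ?_
  have := h v
  simp only [shift_apply, add_right_inj] at this
  rw [map_sub, LinearMap.sub_apply, hinj this, sub_self]

omit [Fintype F] [CharP F 2] in
/-- The matrix of a linear automorphism. -/
noncomputable def glOf {ι : Type} [Fintype ι] [DecidableEq ι] (e : (ι → F) ≃ₗ[F] (ι → F)) : GL ι F where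
  val := LinearMap.toMatrix' e.toLinearMap
  inv := LinearMap.toMatrix' e.symm.toLinearMap
  val_inv := by rw [← LinearMap.toMatrix'_comp]; simp
  inv_val := by rw [← LinearMap.toMatrix'_comp]; simp

omit [Fintype F] [CharP F 2] in
theorem glOf_mulVec {ι : Type} [Fintype ι] [DecidableEq ι] (e : (ι → F) ≃ₗ[F] (ι → F)) (v : ι → F) :
    (glOf e : Matrix ι ι F) *ᵥ v = e v := LinearMap.toMatrix'_mulVec _ _

omit [Fintype F] in
theorem mem_spGL_iff {x : GL (Fin d ⊕ Fin d) F} : x ∈ spGL d F ↔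
    ∀ u v, fB ((x : Matrix (Fin d ⊕ Fin d) (Fin d ⊕ Fin d) F) *ᵥ u)
      ((x : Matrix (Fin d ⊕ Fin d) (Fin d ⊕ Fin d) F) *ᵥ v) = fB u v := by
  simp only [fB_eq]
  rfl

/-- A transvection moves a form to its shift. -/
theorem exists_move {Q : QuadraticForm F (Fin d ⊕ Fin d → F)} (hQ : Pol Q) {b : Fin d ⊕ Fin d → F}
    (hb : Q b ∈ AS F) : ∃ T ∈ spGL d F, ∀ v,
      Q ((T : Matrix (Fin d ⊕ Fin d) (Fin d ⊕ Fin d) F) *ᵥ v) = shift Q b v := by
  obtain ⟨s, hs⟩ : ∃ s, s + s * s * Q b = 1 := by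
    obtain ⟨w, hw⟩ := mem_AS.mp hb
    rcases eq_or_ne (Q b) 0 with h0 | h0
    · exact ⟨1, by simp [h0]⟩
    · refine ⟨w / Q b, ?_⟩
      field_simp
      linear_combination hw
  let T : (Fin d ⊕ Fin d → F) →ₗ[F] (Fin d ⊕ Fin d → F) :=
    LinearMap.id + (s • fB b).smulRight b
  have hT : ∀ v, T v = v + (s * fB b v) • b := fun v => rfl
  have hTT : ∀ v, T (T v) = v := fun v => by
    rw [hT, hT, map_add, map_smul, fB_self, smul_eq_mul, mul_zero, add_zero, add_assoc, ← add_smul,
      CharTwo.add_self_eq_zero, zero_smul, add_zero]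
  refine ⟨glOf (LinearEquiv.ofInvolutive T hTT), mem_spGL_iff.mpr fun u v => ?_, fun v => ?_⟩
  · rw [glOf_mulVec, glOf_mulVec]
    show fB (T u) (T v) = _
    simp only [hT, map_add, map_smul, LinearMap.add_apply, LinearMap.smul_apply, fB_self, smul_eq_mul,
      fB_comm u b]
    linear_combination (s * fB b v * fB b u) * (CharTwo.two_eq_zero (R := F))
  · rw [glOf_mulVec]
    show Q (T v) = _
    rw [hT, hQ.add, quad_smul, map_smul, smul_eq_mul, fB_comm v b, shift_apply]
    linear_combination (fB b v * fB b v) * hs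

theorem shift_shift_mem {Q : QuadraticForm F (Fin d ⊕ Fin d → F)} (hQ : Pol Q) (a k : Fin d ⊕ Fin d → F) :
    shift Q a (a + k) ∈ AS F ↔ (Q a ∈ AS F ↔ Q k ∈ AS F) := by
  rw [shift_apply, hQ.add, map_add, fB_self, zero_add,
    show Q a + Q k + fB a k + fB a k * fB a k = (Q a + Q k) + (fB a k + fB a k * fB a k) by ring,
    AddSubgroup.add_mem_cancel_right _ (mem_AS_add_sq _), add_mem_AS]

/-- Forms in different classes do not both have singular halves. -/
theorem not_both {Q : QuadraticForm F (Fin d ⊕ Fin d → F)} (hQ : Pol Q) {b : Fin d ⊕ Fin d → F}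
    (hb : Q b ∉ AS F) {U W : Submodule F (Fin d ⊕ Fin d → F)} (hU : Module.finrank F U = d)
    (hU0 : ∀ u ∈ U, Q u = 0) (hW : Module.finrank F W = d) (hW0 : ∀ w ∈ W, shift Q b w = 0) : False := by
  classical
  set B : LinearMap.BilinForm F (Fin d ⊕ Fin d → F) := fB
  have hfr : Module.finrank F (Fin d ⊕ Fin d → F) = 2 * d := by
    rw [Module.finrank_pi, Fintype.card_sum, Fintype.card_fin]; omega
  have hiso : ∀ {R : Submodule F (Fin d ⊕ Fin d → F)} (Q' : QuadraticForm F (Fin d ⊕ Fin d → F)), Pol Q' →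
      (∀ u ∈ R, Q' u = 0) → ∀ u ∈ R, ∀ v ∈ R, fB u v = 0 := fun {R} Q' hQ' h u hu v hv => by
    rw [← hQ' u v]
    simp [QuadraticMap.polar, h _ (add_mem hu hv), h _ hu, h _ hv]
  have hUiso := hiso Q hQ hU0
  have hWiso := hiso _ (pol_shift hQ b) hW0
  have hWperp : B.orthogonal W = W := (Submodule.eq_of_le_of_finrank_eq
    (show W ≤ B.orthogonal W from fun u hu w hw => hWiso w hw u hu)
    (by rw [LinearMap.BilinForm.finrank_orthogonal fB_nondeg, hfr, hW]; omega)).symm
  have hUperp : B.orthogonal U = U := (Submodule.eq_of_le_of_finrank_eq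
    (show U ≤ B.orthogonal U from fun u hu w hw => hUiso w hw u hu)
    (by rw [LinearMap.BilinForm.finrank_orthogonal fB_nondeg, hfr, hU]; omega)).symm
  have hbW : b ∉ W := fun h => by
    have := hW0 b h
    rw [shift_apply, fB_self, mul_zero, add_zero] at this
    exact hb (this ▸ zero_mem _)
  obtain ⟨w', hw', hbw⟩ : ∃ w ∈ W, fB b w ≠ 0 := by
    by_contra hc
    push Not at hc
    exact hbW (hWperp ▸ fun w hw => (fB_comm w b).trans (hc w hw))
  set w1 := (fB b w')⁻¹ • w' with hw1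
  have hw1W : w1 ∈ W := W.smul_mem _ hw'
  have hbw1 : fB b w1 = 1 := by rw [hw1, map_smul, smul_eq_mul, inv_mul_cancel₀ hbw]
  have hQw : ∀ w ∈ W, Q w = fB b w * fB b w := fun w hw =>
    CharTwo.add_eq_zero.mp ((shift_apply Q b w).symm.trans (hW0 w hw))
  set W0 := W ⊓ LinearMap.ker (fB b)
  have hW0d : Module.finrank F W0 + 1 = d := by
    have hsup : W0 ⊔ Submodule.span F {w1} = W := by
      refine le_antisymm (sup_le inf_le_left ((Submodule.span_singleton_le_iff_mem _ _).mpr hw1W)) fun w hw => ?_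
      rw [show w = (w - fB b w • w1) + fB b w • w1 by abel]
      refine Submodule.add_mem_sup ⟨sub_mem hw (W.smul_mem _ hw1W), ?_⟩
        (Submodule.smul_mem _ _ (Submodule.mem_span_singleton_self _))
      show fB b _ = 0
      rw [map_sub, map_smul, hbw1, smul_eq_mul, mul_one, sub_self]
    have hw10 : w1 ≠ 0 := fun h => by simp [h] at hbw1
    have hdis : W0 ⊓ Submodule.span F {w1} = ⊥ := by
      refine (Submodule.disjoint_span_singleton.2 fun h => ?_).eq_bot
      have h' : fB b w1 = 0 := h.2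
      rw [hbw1] at h'
      exact absurd h' one_ne_zero
    have := Submodule.finrank_sup_add_finrank_inf_eq W0 (Submodule.span F {w1})
    rw [hsup, hdis, finrank_bot, finrank_span_singleton hw10, hW] at this
    omega
  have hW0perp : B.orthogonal W0 = W ⊔ Submodule.span F {b} := by
    refine (Submodule.eq_of_le_of_finrank_eq ?_ ?_).symm
    · refine sup_le (fun u hu w hw => hWiso w hw.1 u hu) ((Submodule.span_singleton_le_iff_mem _ _).mpr ?_)
      exact fun w hw => (fB_comm w b).trans hw.2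
    · have hb0 : b ≠ 0 := fun h => hb (by rw [h, map_zero]; exact zero_mem _)
      have hdis : W ⊓ Submodule.span F {b} = ⊥ :=
        (Submodule.disjoint_span_singleton.2 fun h => absurd h hbW).eq_bot
      have := Submodule.finrank_sup_add_finrank_inf_eq W (Submodule.span F {b})
      rw [hdis, finrank_bot, finrank_span_singleton hb0, hW, add_zero] at this
      rw [this, LinearMap.BilinForm.finrank_orthogonal fB_nondeg, hfr]
      omega
  have hle : U ⊓ B.orthogonal W0 ≤ U ⊓ W0 := by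
    rintro u ⟨huU, huX⟩
    refine ⟨huU, ?_⟩
    rw [SetLike.mem_coe, hW0perp, Submodule.mem_sup] at huX
    obtain ⟨w, hw, y, hy, rfl⟩ := huX
    obtain ⟨s, rfl⟩ := Submodule.mem_span_singleton.mp hy
    have hz : Q (w + s • b) = 0 := hU0 _ huU
    rw [hQ.add, quad_smul, map_smul, smul_eq_mul, hQw w hw, fB_comm w b] at hz
    set t := fB b w
    rcases eq_or_ne s 0 with rfl | hs
    · rw [zero_smul, add_zero]
      simp only [zero_mul, add_zero, mul_self_eq_zero] at hz
      exact ⟨hw, hz⟩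
    · refine absurd (mem_AS.mpr ⟨t / s, ?_⟩) hb
      field_simp
      linear_combination hz - (s * s * Q b) * (CharTwo.two_eq_zero (R := F))
  have h1 := Submodule.finrank_mono hle
  have hperp : B.orthogonal (U ⊔ W0) = U ⊓ B.orthogonal W0 := by
    refine le_antisymm (le_inf ?_ (LinearMap.BilinForm.orthogonal_le le_sup_right)) ?_
    · exact le_trans (LinearMap.BilinForm.orthogonal_le le_sup_left) hUperp.le
    · rintro x ⟨hxU, hxW⟩ n hn
      obtain ⟨y, hy, z, hz, rfl⟩ := Submodule.mem_sup.mp hn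
      show fB (y + z) x = 0
      rw [map_add, LinearMap.add_apply, hUiso y hy x hxU, hxW z hz, add_zero]
  have h2 := Submodule.finrank_sup_add_finrank_inf_eq U W0
  have h3 := LinearMap.BilinForm.finrank_orthogonal (B := B) fB_nondeg (U ⊔ W0)
  rw [hperp, hfr] at h3
  have h4 := Submodule.finrank_le (U ⊔ W0)
  omega

/-- `x` preserves `Q`. -/
def Pres (x : GL (Fin d ⊕ Fin d) F) (Q : QuadraticForm F (Fin d ⊕ Fin d → F)) : Prop :=
  ∀ v, Q ((x : Matrix (Fin d ⊕ Fin d) (Fin d ⊕ Fin d) F) *ᵥ v) = Q v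

omit [Fintype F] [CharP F 2] in
theorem Pres.conj {x T : GL (Fin d ⊕ Fin d) F} {Q Q' : QuadraticForm F (Fin d ⊕ Fin d → F)}
    (hx : Pres x Q') (hT : ∀ v, Q ((T : Matrix (Fin d ⊕ Fin d) (Fin d ⊕ Fin d) F) *ᵥ v) = Q' v) :
    Pres (T * x * T⁻¹) Q := fun v => by
  rw [Units.val_mul, Units.val_mul, ← mulVec_mulVec, ← mulVec_mulVec, hT, hx, ← hT, mulVec_mulVec,
    ← Units.val_mul, mul_inv_cancel, Units.val_one, one_mulVec]

/-- Involutions preserve a conjugate of `Q`, unless `Q` is of minus type in dimension divisible by four. -/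
theorem exists_conj_of_involution {Q : QuadraticForm F (Fin d ⊕ Fin d → F)} (hQ : Pol Q)
    (hbad : (∃ U : Submodule F (Fin d ⊕ Fin d → F), Module.finrank F U = d ∧ ∀ u ∈ U, Q u = 0) ∨ Odd d)
    {x : GL (Fin d ⊕ Fin d) F} (hx : x ∈ spGL d F) (hx2 : x * x = 1) :
    ∃ g ∈ spGL d F, Pres (g⁻¹ * x * g) Q := by
  classical
  set B : LinearMap.BilinForm F (Fin d ⊕ Fin d → F) := fB
  set X := Matrix.toLin' (x : Matrix (Fin d ⊕ Fin d) (Fin d ⊕ Fin d) F) with hX
  have hXX : ∀ v, X (X v) = v := fun v => by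
    rw [hX, Matrix.toLin'_apply, Matrix.toLin'_apply, mulVec_mulVec, ← Units.val_mul, hx2, Units.val_one,
      one_mulVec]
  have hXf : ∀ u v, fB (X u) (X v) = fB u v := mem_spGL_iff.mp hx
  have hfr : Module.finrank F (Fin d ⊕ Fin d → F) = 2 * d := by
    rw [Module.finrank_pi, Fintype.card_sum, Fintype.card_fin]; omega
  set L := X + LinearMap.id with hL
  have hLx : ∀ v, L v = X v + v := fun v => rfl
  have hLker : ∀ v, v ∈ LinearMap.ker L ↔ X v = v := fun v => by
    rw [LinearMap.mem_ker, hLx]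
    constructor
    · intro h
      funext i
      exact CharTwo.add_eq_zero.mp (congrFun h i)
    · intro h
      rw [h]; funext i; exact CharTwo.add_self_eq_zero _
  have hLperp : B.orthogonal (LinearMap.ker L) = LinearMap.range L := by
    refine (Submodule.eq_of_le_of_finrank_eq ?_ ?_).symm
    · rintro _ ⟨v, rfl⟩ k hk
      show fB k (L v) = 0
      rw [hLx, map_add]
      nth_rw 1 [← (hLker k).mp hk]
      rw [hXf]; exact CharTwo.add_self_eq_zero _
    · rw [LinearMap.BilinForm.finrank_orthogonal fB_nondeg]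
      have := LinearMap.finrank_range_add_finrank_ker L
      omega
  -- a preserved form
  have hpolX : Pol (Q.comp X) := fun u v => by
    simp only [QuadraticMap.polar, QuadraticMap.comp_apply, map_add, hQ.add, hXf]
    ring
  obtain ⟨u, hu⟩ := exists_shift hQ hpolX
  have huR : u ∈ LinearMap.range L := by
    rw [← hLperp]
    intro k hk
    have h := hu k
    rw [QuadraticMap.comp_apply, (hLker k).mp hk, shift_apply, left_eq_add, mul_self_eq_zero] at h
    exact (fB_comm k u).trans h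
  obtain ⟨a, ha⟩ := huR
  have hflip : ∀ a v, fB a (X v) = fB (X a) v := fun a v => by
    conv_lhs => rw [← hXf, hXX]
  have hpres : ∀ k ∈ LinearMap.ker L, Pres x (shift Q (a + k)) := fun k hk v => by
    show shift Q (a + k) (X v) = _
    have h := hu v
    rw [QuadraticMap.comp_apply, ← ha, hLx, shift_apply, map_add, LinearMap.add_apply,
      CharTwo.add_mul_self] at h
    rw [shift_apply, shift_apply, h, hflip, map_add X, (hLker k).mp hk, map_add, LinearMap.add_apply,
      map_add, LinearMap.add_apply, CharTwo.add_mul_self, CharTwo.add_mul_self]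
    linear_combination (fB (X a) v * fB (X a) v) * (CharTwo.two_eq_zero (R := F))
  obtain ⟨b, hb⟩ : ∃ b, ∀ v, Q v = shift (shift Q a) b v := exists_shift (pol_shift hQ a) hQ
  -- it is enough to find a preserved form in the class of `Q`
  suffices H : ∃ k ∈ LinearMap.ker L, shift Q (a + k) (b + k) ∈ AS F by
    obtain ⟨k, hk, hmem⟩ := H
    obtain ⟨T, hT, hTv⟩ := exists_move (pol_shift hQ (a + k)) hmem
    refine ⟨T, hT, ?_⟩
    have hQe : ∀ v, Q v = shift (shift Q (a + k)) (b + k) v := fun v => by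
      rw [hb v, shift_shift, shift_shift]
      congr 2
      rw [add_add_add_comm, show k + k = 0 from funext fun i => CharTwo.add_self_eq_zero _, add_zero]
    have := (hpres k hk).conj (T := T⁻¹) (Q := Q) fun v => by
      rw [hQe, ← hTv, mulVec_mulVec, ← Units.val_mul, mul_inv_cancel, Units.val_one, one_mulVec]
    rwa [inv_inv] at this
  have hkey : ∀ k, shift Q (a + k) (b + k) ∈ AS F ↔ (shift Q a b ∈ AS F ↔ shift Q a k ∈ AS F) := fun k => by
    rw [← shift_shift, add_comm b k, shift_shift_mem (pol_shift hQ a)]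
    exact iff_comm
  by_cases hb0 : shift Q a b ∈ AS F
  · exact ⟨0, zero_mem _, (hkey 0).mpr (iff_of_true hb0 (by rw [map_zero]; exact zero_mem _))⟩
  by_contra hno
  push Not at hno
  set Q₀ := shift Q a
  have hQ₀ : Pol Q₀ := pol_shift hQ a
  have hU : ∀ k ∈ LinearMap.ker L, Q₀ k = 0 := fun k hk => eq_zero_of_scaled fun s => by
    rw [← quad_smul]
    by_contra hs
    exact hno _ (Submodule.smul_mem _ s hk) ((hkey _).mpr (iff_of_false hb0 hs))
  have hiso : ∀ u ∈ LinearMap.ker L, ∀ v ∈ LinearMap.ker L, fB u v = 0 := fun u hu v hv => by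
    rw [← hQ₀ u v]
    simp [QuadraticMap.polar, hU _ (add_mem hu hv), hU _ hu, hU _ hv]
  have hle1 : LinearMap.ker L ≤ LinearMap.range L := hLperp ▸ fun u hu k hk => hiso k hk u hu
  have hle2 : LinearMap.range L ≤ LinearMap.ker L := by
    rintro _ ⟨v, rfl⟩
    rw [hLker, hLx, map_add, hXX, add_comm]
  have hUd : Module.finrank F (LinearMap.ker L) = d := by
    have h1 := LinearMap.finrank_range_add_finrank_ker L
    rw [le_antisymm hle2 hle1] at h1
    omega
  rcases hbad with ⟨W, hW, hW0⟩ | hodd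
  · exact not_both hQ₀ hb0 hUd hU hW fun w hw => (hb w).symm.trans (hW0 w hw)
  -- an alternating form on a complement of the fixed space
  obtain ⟨C, hC⟩ := Submodule.exists_isCompl (LinearMap.ker L)
  let Bc : LinearMap.BilinForm F C := (B.compLeft L).restrict C
  have hBc : ∀ v w : C, Bc v w = fB (L v) w := fun v w => rfl
  have halt : Bc.IsAlt := fun v => by
    rw [hBc]
    have hX' : Q₀ (X v) = Q₀ v := by
      have := hpres 0 (zero_mem _) (v : Fin d ⊕ Fin d → F)
      rwa [add_zero] at this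
    have e : X v = L v + v := by
      rw [hLx, add_assoc, show (v : Fin d ⊕ Fin d → F) + v = 0 from funext fun i => CharTwo.add_self_eq_zero _,
        add_zero]
    rw [e, hQ₀.add, hU _ (hle2 ⟨_, rfl⟩), zero_add, add_eq_left] at hX'
    exact hX'
  have hnd : ∀ v : C, (∀ w, Bc v w = 0) → v = 0 := fun v hv => by
    have hLv : L v = 0 := fB_nondeg.1 _ fun w => by
      obtain ⟨k, c, rfl⟩ : ∃ (k : LinearMap.ker L) (c : C), (k : Fin d ⊕ Fin d → F) + c = w := by
        have : w ∈ LinearMap.ker L ⊔ C := by rw [hC.sup_eq_top]; exact Submodule.mem_top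
        obtain ⟨k, hk, c, hc, rfl⟩ := Submodule.mem_sup.mp this
        exact ⟨⟨k, hk⟩, ⟨c, hc⟩, rfl⟩
      rw [map_add, ← hBc, hv, hiso _ (hle2 ⟨_, rfl⟩) _ k.2, add_zero]
    exact Subtype.ext (Submodule.disjoint_def.mp hC.disjoint _ hLv v.2)
  obtain ⟨m, hm, -⟩ := exists_symp_equiv Bc halt hnd
  have hCd := Submodule.finrank_add_eq_of_isCompl hC
  rw [Nat.odd_iff] at hodd
  omega

omit [Fintype F] in
theorem unique_form {Q Q' : QuadraticForm F (Fin d ⊕ Fin d → F)} {g : GL (Fin d ⊕ Fin d) F}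
    (hg : g ∈ spGL d F) (hfp : ∀ v, (g : Matrix (Fin d ⊕ Fin d) (Fin d ⊕ Fin d) F) *ᵥ v = v → v = 0)
    {a : Fin d ⊕ Fin d → F} (ha : ∀ v, Q' v = shift Q a v) (h : Pres g Q) (h' : Pres g Q') : a = 0 := by
  have hinj : ∀ {x y : F}, x * x = y * y → x = y := fun {x y} h => CharTwo.add_eq_zero.mp
    (mul_self_eq_zero.mp (by rw [CharTwo.add_mul_self, h, CharTwo.add_self_eq_zero]))
  refine hfp a (sub_eq_zero.mp (fB_nondeg.1 _ fun w => ?_))
  have hw : ∀ v, fB a ((g : Matrix (Fin d ⊕ Fin d) (Fin d ⊕ Fin d) F) *ᵥ v) = fB a v := fun v => by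
    have e := h' v
    rw [ha, ha, shift_apply, shift_apply, h v, add_right_inj] at e
    exact hinj e
  have hsurj : ∃ v, (g : Matrix (Fin d ⊕ Fin d) (Fin d ⊕ Fin d) F) *ᵥ v = w :=
    ⟨((g⁻¹ : GL (Fin d ⊕ Fin d) F) : Matrix (Fin d ⊕ Fin d) (Fin d ⊕ Fin d) F) *ᵥ w, by
      rw [mulVec_mulVec, ← Units.val_mul, mul_inv_cancel, Units.val_one, one_mulVec]⟩
  obtain ⟨v, rfl⟩ := hsurj
  rw [map_sub, LinearMap.sub_apply, mem_spGL_iff.mp hg, hw, sub_self]

/-- Transport of a fixed-point-free element to the standard alternating form. -/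
theorem exists_transport {ι : Type} [Fintype ι] [DecidableEq ι] {Q₀ : QuadraticForm F (ι → F)}
    (hQ₀ : PolarNondeg Q₀) (hι : Fintype.card ι = 2 * d) (g₀ : qAut Q₀) {r : ℕ} (hr : g₀ ^ r = 1)
    (hne : g₀ ≠ 1) (hfp : ∀ v, g₀.1 v = v → v = 0) :
    ∃ (e : (Fin d ⊕ Fin d → F) ≃ₗ[F] (ι → F)) (g : GL (Fin d ⊕ Fin d) F),
      Pol (Q₀.comp e.toLinearMap) ∧ g ∈ spGL d F ∧ g ^ r = 1 ∧ g ≠ 1 ∧
      Pres g (Q₀.comp e.toLinearMap) ∧
      ∀ v, (g : Matrix (Fin d ⊕ Fin d) (Fin d ⊕ Fin d) F) *ᵥ v = v → v = 0 := by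
  obtain ⟨m, hm, e, he⟩ := exists_symp_equiv (QuadraticMap.polarBilin Q₀)
    (fun v => by
      show QuadraticMap.polar Q₀ v v = 0
      rw [quad_polar_self, CharTwo.two_eq_zero, zero_mul]) hQ₀
  obtain rfl : m = d := by
    rw [Module.finrank_pi] at hm; omega
  have hpol : Pol (Q₀.comp e.toLinearMap) := fun u v => by
    rw [fB_eq, ← he]
    simp [QuadraticMap.polar]
  let g₁ := e.trans (g₀.1.trans e.symm)
  have hg₁ : ∀ v, g₁ v = e.symm (g₀.1 (e v)) := fun v => rfl
  have hQg : ∀ v, (Q₀.comp e.toLinearMap) (g₁ v) = (Q₀.comp e.toLinearMap) v := fun v => by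
    simp [hg₁, qAut_map]
  have hpow : ∀ n v, (((glOf g₁) ^ n : GL (Fin m ⊕ Fin m) F) : Matrix (Fin m ⊕ Fin m) (Fin m ⊕ Fin m) F) *ᵥ v =
      e.symm ((g₀ ^ n).1 (e v)) := by
    intro n
    induction n with
    | zero => intro v; simp
    | succ n ih =>
      intro v
      rw [pow_succ', pow_succ', Units.val_mul, ← mulVec_mulVec, ih, glOf_mulVec, hg₁, e.apply_symm_apply,
        qAut_mul_apply]
  have hfp' : ∀ v, (glOf g₁ : Matrix (Fin m ⊕ Fin m) (Fin m ⊕ Fin m) F) *ᵥ v = v → v = 0 := fun v hv => by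
    rw [glOf_mulVec, hg₁, LinearEquiv.symm_apply_eq] at hv
    simpa using hfp _ hv
  refine ⟨e, glOf g₁, hpol, mem_spGL_iff.mpr fun u v => ?_, ?_, fun h => hne (qAut_ext fun w => ?_),
    fun v => by rw [glOf_mulVec, hQg], hfp'⟩
  · rw [glOf_mulVec, glOf_mulVec, ← hpol, ← hpol]
    simp only [QuadraticMap.polar, ← map_add, hQg]
  · refine Units.ext (Matrix.toLin'.injective (LinearMap.ext fun v => ?_))
    rw [Matrix.toLin'_apply, Matrix.toLin'_apply, hpow, hr]
    simp
  · have h1 := glOf_mulVec g₁ (e.symm w)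
    rw [h, Units.val_one, one_mulVec, hg₁, e.apply_symm_apply] at h1
    show g₀.1 w = w
    exact (e.symm.injective h1).symm

theorem exists_aniso : ∃ t : F, BinAniso (1 : F) t := by
  obtain ⟨t, ht⟩ := exists_not_mem_AS (F := F)
  refine ⟨t, fun z₁ z₂ h => ?_⟩
  rcases eq_or_ne z₂ 0 with rfl | h2
  · simp at h; exact ⟨h, rfl⟩
  · refine absurd (mem_AS.mpr ⟨z₁ / z₂, ?_⟩) ht
    field_simp
    linear_combination h - (t * z₂ ^ 2) * (CharTwo.two_eq_zero (R := F))

/-- Singular halves and zero counts. -/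
theorem type_cases {M : ℕ} {Q : QuadraticForm F (Fin (M + 1) ⊕ Fin (M + 1) → F)} (hQ : Pol Q) :
    ((∃ U : Submodule F (Fin (M + 1) ⊕ Fin (M + 1) → F), Module.finrank F U = M + 1 ∧ ∀ u ∈ U, Q u = 0) ∧
      (zeros Q : ℤ) = (Fintype.card F : ℤ) ^ (2 * M + 1) + (Fintype.card F : ℤ) ^ (M + 1) -
        (Fintype.card F : ℤ) ^ M) ∨
    ((¬ ∃ U : Submodule F (Fin (M + 1) ⊕ Fin (M + 1) → F), Module.finrank F U = M + 1 ∧ ∀ u ∈ U, Q u = 0) ∧
      (zeros Q : ℤ) = (Fintype.card F : ℤ) ^ (2 * M + 1) + (Fintype.card F : ℤ) ^ M -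
        (Fintype.card F : ℤ) ^ (M + 1)) := by
  have hnd : PolarNondeg Q := fun v hv => fB_nondeg.1 v fun w => (hQ v w).symm.trans (hv w)
  have hz : ∀ {J : Type} (Q' : QuadraticForm F (J → F)), CfsgLib.POAut.Similar Q Q' → zeros Q = zeros Q' :=
    fun {J} Q' ⟨c, e, hc, he⟩ => Nat.card_congr (e.toEquiv.subtypeEquiv fun v => by
      show Q v = 0 ↔ Q' (e v) = 0
      rw [he, mul_eq_zero, or_iff_right hc])
  rcases CfsgLib.POAut.similar_even M Q hnd (by simp; omega) with hp | ⟨a, b, hab, hm⟩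
  · refine Or.inl ⟨?_, by rw [hz _ hp, zeros_plus]⟩
    obtain ⟨c, e, hc, he⟩ := hp.trans (CfsgLib.POAut.Similar.of_isometry (plusLin (M + 1) F) (qPlus_plusLin (M + 1)))
    refine ⟨(LinearMap.range (CfsgLib.POAut.xLin (F := F) (M + 1))).map e.symm.toLinearMap, ?_, ?_⟩
    · rw [LinearEquiv.finrank_map_eq]
      exact (CfsgLib.POAut.maxS_xLin (F := F) (M + 1)).1
    · rintro _ ⟨w, hw, rfl⟩
      have := (CfsgLib.POAut.maxS_xLin (F := F) (M + 1)).2 w hw
      have h' := he (e.symm w)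
      rw [e.apply_symm_apply, this] at h'
      exact (mul_eq_zero.mp h'.symm).resolve_left hc
  · refine Or.inr ⟨?_, by rw [hz _ hm, zeros_minus hab]⟩
    rintro ⟨U, hU, hU0⟩
    obtain ⟨c, e, hc, he⟩ := hm
    refine CfsgLib.POAut.qExt_no_max hab (U.map e.toLinearMap) ⟨by rw [LinearEquiv.finrank_map_eq, hU], ?_⟩
    rintro _ ⟨w, hw, rfl⟩
    show qExt M (qBin a b) (e w) = 0
    rw [he, hU0 w hw, mul_zero]

theorem card_fibre (Q : QuadraticForm F (Fin d ⊕ Fin d → F)) (S : Set F) (hS0 : (0 : F) ∉ S) :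
    Nat.card {v // Q v ∈ S} = Nat.card S * Nat.card {v // Q v = 1} := by
  choose s hs using exists_sqrt (F := F)
  rw [← Nat.card_prod]
  symm
  have hsne : ∀ c : S, s c.1 ≠ 0 := fun c h => hS0 (by
    have := hs c.1
    rw [h, zero_mul] at this
    exact this ▸ c.2)
  refine Nat.card_eq_of_bijective (fun p => ⟨s p.1.1 • p.2.1, by
    rw [quad_smul, p.2.2, mul_one, hs]; exact p.1.2⟩) ⟨?_, ?_⟩
  · rintro ⟨c, v⟩ ⟨c', v'⟩ h
    simp only [Subtype.mk.injEq] at h
    have hc : c = c' := Subtype.ext (by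
      have h' := congrArg Q h
      rwa [quad_smul, quad_smul, v.2, v'.2, mul_one, mul_one, hs, hs] at h')
    subst hc
    exact Prod.ext rfl (Subtype.ext (smul_right_injective _ (hsne c) h))
  · rintro ⟨v, hv⟩
    refine ⟨(⟨Q v, hv⟩, ⟨(s (Q v))⁻¹ • v, ?_⟩), Subtype.ext ?_⟩
    · rw [quad_smul, ← mul_inv, hs, inv_mul_cancel₀ fun h : Q v = 0 => hS0 (h ▸ hv)]
    · show s (Q v) • (s (Q v))⁻¹ • v = v
      rw [smul_smul, mul_inv_cancel₀ (hsne ⟨Q v, hv⟩), one_smul]

theorem two_mul_card_class {M : ℕ} {Q : QuadraticForm F (Fin (M + 1) ⊕ Fin (M + 1) → F)} {ε : ℤ}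
    (hz : (zeros Q : ℤ) = (Fintype.card F : ℤ) ^ (2 * M + 1) +
      ε * ((Fintype.card F : ℤ) ^ (M + 1) - (Fintype.card F : ℤ) ^ M)) :
    2 * (Nat.card {v // Q v ∈ AS F} : ℤ) =
      (Fintype.card F : ℤ) ^ (M + 1) * ((Fintype.card F : ℤ) ^ (M + 1) + ε) := by
  classical
  set q := Fintype.card F
  set m := Nat.card {v // Q v = 1}
  have hh : 2 * Nat.card (AS F) = q := by
    have := AddSubgroup.card_mul_index (AS F)
    rw [index_AS, Nat.card_eq_fintype_card (α := F)] at this
    omega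
  have h1 : Nat.card {v // Q v ∈ AS F} = zeros Q + (Nat.card (AS F) - 1) * m := by
    have hS : Nat.card ({c : F | c ∈ AS F ∧ c ≠ 0} : Set F) = Nat.card (AS F) - 1 := by
      show Nat.card (((AS F : Set F) \ {0} : Set F)) = Nat.card (AS F : Set F) - 1
      rw [Nat.card_coe_set_eq, Nat.card_coe_set_eq,
        Set.ncard_sdiff_singleton_of_mem (show (0 : F) ∈ (AS F : Set F) from zero_mem _)]
    rw [← hS, ← card_fibre Q _ (fun h => h.2 rfl), zeros, ← Nat.card_sum]
    refine Nat.card_congr ((Equiv.sumCompl fun v : {v // Q v ∈ AS F} => Q v.1 = 0).symm.trans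
      (Equiv.sumCongr ?_ ?_))
    · exact (Equiv.subtypeSubtypeEquivSubtypeInter (fun v => Q v ∈ AS F) fun v => Q v = 0).trans
        (Equiv.subtypeEquivRight fun v => ⟨fun h => h.2, fun h => ⟨by rw [h]; exact zero_mem _, h⟩⟩)
    · exact (Equiv.subtypeSubtypeEquivSubtypeInter (fun v => Q v ∈ AS F) fun v => ¬ Q v = 0)
  have h2 : q ^ (2 * (M + 1)) = zeros Q + (q - 1) * m := by
    have hS : Nat.card ({0}ᶜ : Set F) = q - 1 := by
      rw [Nat.card_coe_set_eq, Set.ncard_compl, Set.ncard_singleton, Nat.card_eq_fintype_card]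
    rw [← hS, ← card_fibre Q _ (by simp), zeros, ← Nat.card_sum,
      Nat.card_congr (show {v // Q v = 0} ⊕ {v // Q v ∈ ({0}ᶜ : Set F)} ≃ _ from
        Equiv.sumCompl fun v => Q v = 0), Nat.card_fun, Nat.card_eq_fintype_card, Nat.card_eq_fintype_card,
      Fintype.card_sum, Fintype.card_fin, ← two_mul]
  have hAS : 1 ≤ Nat.card (AS F) := Nat.card_pos
  have hq : 1 ≤ q := by omega
  rw [h1]
  zify [hAS, hq] at h2 hh ⊢
  have hq0 : (q : ℤ) ≠ 0 := by omega
  have hq1 : (q : ℤ) - 1 ≠ 0 := by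
    have := Fintype.one_lt_card (α := F); omega
  have hm : (m : ℤ) = (q : ℤ) ^ M * ((q : ℤ) ^ (M + 1) - ε) := by
    refine mul_left_cancel₀ hq1 ?_
    linear_combination -h2 - hz
  linear_combination 2 * hz + ((m : ℤ)) * hh + ((q : ℤ) - 2) * hm

omit [Fintype F] [CharP F 2] in
theorem finrank_map_inj {V W : Type*} [AddCommGroup V] [Module F V] [AddCommGroup W] [Module F W]
    (f : V →ₗ[F] W) (hf : Function.Injective f) (U : Submodule F V) :
    Module.finrank F (U.map f) = Module.finrank F U :=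
  (Submodule.equivMapOfInjective f hf U).finrank_eq.symm

/-- The main criterion. -/
theorem conj_iff {M : ℕ} {Q : QuadraticForm F (Fin (M + 1) ⊕ Fin (M + 1) → F)} (hQ : Pol Q) {r : ℕ}
    [Fact r.Prime] {H : Subgroup (GL (Fin (M + 1) ⊕ Fin (M + 1)) F)}
    (hH : ∀ g ∈ spGL (M + 1) F, g ∈ H ↔ Pres g Q) (hdvd : r ∣ H.relIndex (spGL (M + 1) F)) :
    (∀ x ∈ spGL (M + 1) F, x ^ r = 1 → x ≠ 1 → ∃ g ∈ spGL (M + 1) F, g⁻¹ * x * g ∈ H) ↔
      (r = 2 ∧ ((∃ U : Submodule F (Fin (M + 1) ⊕ Fin (M + 1) → F), Module.finrank F U = M + 1 ∧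
        ∀ u ∈ U, Q u = 0) ∨ Odd (M + 1))) := by
  classical
  haveI : Fact (Nat.Prime 2) := ⟨Nat.prime_two⟩
  set q := Fintype.card F with hq
  -- pushing a preserved form through a conjugation
  have hmove : ∀ (x g : GL (Fin (M + 1) ⊕ Fin (M + 1)) F), x ∈ spGL (M + 1) F → g ∈ spGL (M + 1) F →
      g⁻¹ * x * g ∈ H → ∃ Q' : QuadraticForm F (Fin (M + 1) ⊕ Fin (M + 1) → F), Pol Q' ∧ Pres x Q' ∧
        ∀ v, Q' ((g : Matrix (Fin (M + 1) ⊕ Fin (M + 1)) (Fin (M + 1) ⊕ Fin (M + 1)) F) *ᵥ v) = Q v := by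
    intro x g hx hg h
    have hgm := mem_spGL_iff.mp (inv_mem hg)
    refine ⟨Q.comp (Matrix.toLin' ((g⁻¹ : GL (Fin (M + 1) ⊕ Fin (M + 1)) F) : Matrix (Fin (M + 1) ⊕ Fin (M + 1)) (Fin (M + 1) ⊕ Fin (M + 1)) F)), fun u v => ?_, fun v => ?_, fun v => ?_⟩
    · simp only [QuadraticMap.polar, QuadraticMap.comp_apply, map_add, Matrix.toLin'_apply, hQ.add, hgm]
      ring
    · have h' := (hH _ (mul_mem (mul_mem (inv_mem hg) hx) hg)).mp h (((g⁻¹ : GL (Fin (M + 1) ⊕ Fin (M + 1)) F) : Matrix (Fin (M + 1) ⊕ Fin (M + 1)) (Fin (M + 1) ⊕ Fin (M + 1)) F) *ᵥ v)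
      rw [Units.val_mul, Units.val_mul, mulVec_mulVec, mul_assoc, ← Units.val_mul g g⁻¹, mul_inv_cancel,
        Units.val_one, mul_one, ← mulVec_mulVec] at h'
      simpa [QuadraticMap.comp_apply, Matrix.toLin'_apply] using h'
    · rw [QuadraticMap.comp_apply, Matrix.toLin'_apply, mulVec_mulVec, ← Units.val_mul, inv_mul_cancel,
        Units.val_one, one_mulVec]
  constructor
  · intro h
    rcases eq_or_ne r 2 with rfl | hr
    · refine ⟨rfl, ?_⟩
      by_contra hc
      rw [not_or, Nat.not_odd_iff_even] at hc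
      obtain ⟨hno, he⟩ := hc
      obtain ⟨c, hc⟩ := he
      -- the witness
      let N : (Fin (M + 1) → F) →ₗ[F] (Fin (M + 1) → F) := LinearMap.funLeft F F Fin.rev
      have hN : ∀ v : Fin (M + 1) → F, ∑ i, N v i * v i = 0 := fun v => by
        simp only [N, LinearMap.funLeft_apply]
        refine Finset.sum_involution (fun i _ => Fin.rev i) ?_ ?_ (fun _ _ => Finset.mem_univ _)
          (fun i _ => Fin.rev_rev i)
        · intro i _
          rw [Fin.rev_rev, mul_comm (v i)]
          exact CharTwo.add_self_eq_zero _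
        · intro i _ _ h
          rw [Fin.ext_iff, Fin.val_rev] at h
          omega
      let T : (Fin (M + 1) ⊕ Fin (M + 1) → F) →ₗ[F] (Fin (M + 1) ⊕ Fin (M + 1) → F) :=
        LinearMap.pi (Sum.elim (fun i => LinearMap.proj (Sum.inl i) +
          (LinearMap.proj i).comp (N.comp (LinearMap.funLeft F F Sum.inr)))
          (fun i => LinearMap.proj (Sum.inr i)))
      have hTl : ∀ v i, T v (Sum.inl i) = v (Sum.inl i) + N (v ∘ Sum.inr) i := fun v i => rfl
      have hTr : ∀ v i, T v (Sum.inr i) = v (Sum.inr i) := fun v i => rfl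
      have hTT : ∀ v, T (T v) = v := fun v => by
        funext j
        rcases j with i | i
        · rw [hTl, hTl, show T v ∘ Sum.inr = v ∘ Sum.inr from funext fun j => hTr v j, add_assoc,
            CharTwo.add_self_eq_zero (N (v ∘ Sum.inr) i), add_zero]
        · rw [hTr, hTr]
      have hTQ : ∀ v, qPlus (M + 1) F (T v) = qPlus (M + 1) F v := fun v => by
        simp only [coe_qPlus, Cfsg.quadFormPlus, hTl, hTr, add_mul, Finset.sum_add_distrib]
        rw [show ∑ i, N (v ∘ Sum.inr) i * v (Sum.inr i) = 0 from hN (v ∘ Sum.inr), add_zero]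
      set x := glOf (LinearEquiv.ofInvolutive T hTT)
      have hxv : ∀ v, (x : Matrix (Fin (M + 1) ⊕ Fin (M + 1)) (Fin (M + 1) ⊕ Fin (M + 1)) F) *ᵥ v = T v := fun v => glOf_mulVec _ v
      have hpolp : Pol (qPlus (M + 1) F) := fun u v => rfl
      have hx : x ∈ spGL (M + 1) F := mem_spGL_iff.mpr fun u v => by
        rw [hxv, hxv, ← hpolp, ← hpolp]
        simp only [QuadraticMap.polar, ← map_add, hTQ]
      have hx2 : x ^ 2 = 1 := Units.ext (Matrix.ext_of_mulVec_single fun i => by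
        rw [sq, Units.val_mul, ← mulVec_mulVec, hxv, hxv, hTT, Units.val_one, one_mulVec])
      obtain ⟨g, hg, hgH⟩ := h x hx hx2 (fun hx1 => by
        have := congrFun (hxv (Pi.single (Sum.inr (Fin.rev (0 : Fin (M + 1)))) 1)) (Sum.inl 0)
        rw [hx1, Units.val_one, one_mulVec, hTl] at this
        simp [N, LinearMap.funLeft_apply] at this)
      obtain ⟨Q', hQ', hpres, hQg⟩ := hmove x g hx hg hgH
      obtain ⟨a, ha⟩ := exists_shift hpolp hQ'
      have har : a ∘ Sum.inr = 0 := by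
        have h1 : ∀ v, fB a (T v) = fB a v := fun v => by
          have e := hpres v
          rw [hxv, ha, ha, shift_apply, shift_apply, hTQ, add_right_inj] at e
          exact CharTwo.add_eq_zero.mp (mul_self_eq_zero.mp (by
            rw [CharTwo.add_mul_self, e, CharTwo.add_self_eq_zero]))
        funext i
        have h2 := h1 (Pi.single (Sum.inr (Fin.rev i)) 1)
        rw [← sub_eq_zero, ← map_sub, fB_eq] at h2
        have e : T (Pi.single (Sum.inr (Fin.rev i)) 1) - Pi.single (Sum.inr (Fin.rev i)) 1 =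
            Pi.single (Sum.inl i) 1 := by
          funext j
          rcases j with j | j
          · rw [Pi.sub_apply, hTl]
            rcases eq_or_ne j i with rfl | hji
            · simp [N, LinearMap.funLeft_apply]
            · simp [N, LinearMap.funLeft_apply, hji]
          · rw [Pi.sub_apply, hTr, sub_self]; simp
        rw [e] at h2
        simpa [Cfsg.sympForm, Matrix.J, fromBlocks_mulVec, dotProduct, Fintype.sum_sum_type,
          Pi.single_apply, Function.comp_def, neg_mulVec, one_mulVec, Matrix.one_apply] using h2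
      refine hno ⟨(LinearMap.range (CfsgLib.POAut.xLin (F := F) (M + 1))).map
        (Matrix.toLin' ((g⁻¹ : GL (Fin (M + 1) ⊕ Fin (M + 1)) F) : Matrix (Fin (M + 1) ⊕ Fin (M + 1)) (Fin (M + 1) ⊕ Fin (M + 1)) F)), ?_, ?_⟩
      · rw [finrank_map_inj _ ?_]
        · exact (CfsgLib.POAut.maxS_xLin (F := F) (M + 1)).1
        · intro u v huv
          have := congrArg ((g : Matrix (Fin (M + 1) ⊕ Fin (M + 1)) (Fin (M + 1) ⊕ Fin (M + 1)) F) *ᵥ ·) huv
          simpa [Matrix.toLin'_apply, mulVec_mulVec, ← Units.val_mul] using this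
      · rintro _ ⟨w, hw, rfl⟩
        have e := hQg (Matrix.toLin' ((g⁻¹ : GL (Fin (M + 1) ⊕ Fin (M + 1)) F) : Matrix (Fin (M + 1) ⊕ Fin (M + 1)) (Fin (M + 1) ⊕ Fin (M + 1)) F) w)
        rw [Matrix.toLin'_apply, mulVec_mulVec, ← Units.val_mul, mul_inv_cancel, Units.val_one, one_mulVec, ha,
          shift_apply, (CfsgLib.POAut.maxS_xLin (F := F) (M + 1)).2 w hw, zero_add] at e
        rw [Matrix.toLin'_apply, ← e]
        obtain ⟨y, rfl⟩ := hw
        have : fB a (CfsgLib.POAut.xLin (M + 1) y) = 0 := by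
          rw [fB_eq]
          have hr' : ∀ i, a (Sum.inr i) = 0 := fun i => congrFun har i
          simp [Cfsg.sympForm, Matrix.J, fromBlocks_mulVec, dotProduct, Fintype.sum_sum_type, hr',
            CfsgLib.POAut.xLin, Function.comp_def, neg_mulVec, one_mulVec]
        rw [this, zero_mul]
    · exfalso
      have hr' := (Fact.out : r.Prime).odd_of_ne_two hr
      -- the index of `H`
      have hφ : ∀ g : spGL (M + 1) F, ∃ a, ∀ v,
          Q (((g⁻¹ : spGL (M + 1) F).1 : Matrix (Fin (M + 1) ⊕ Fin (M + 1)) (Fin (M + 1) ⊕ Fin (M + 1)) F) *ᵥ v) = shift Q a v := fun g => by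
        have hgm := mem_spGL_iff.mp (inv_mem g.2)
        obtain ⟨a, ha⟩ := exists_shift (Q' := Q.comp (Matrix.toLin' ((g⁻¹ : spGL (M + 1) F).1 : Matrix (Fin (M + 1) ⊕ Fin (M + 1)) (Fin (M + 1) ⊕ Fin (M + 1)) F))) hQ
          fun u v => by
            simp only [QuadraticMap.polar, QuadraticMap.comp_apply, map_add, Matrix.toLin'_apply, hQ.add]
            rw [show (((g⁻¹ : spGL (M + 1) F)).1 : Matrix (Fin (M + 1) ⊕ Fin (M + 1)) (Fin (M + 1) ⊕ Fin (M + 1)) F) = ((g.1⁻¹ : GL (Fin (M + 1) ⊕ Fin (M + 1)) F) : Matrix (Fin (M + 1) ⊕ Fin (M + 1)) (Fin (M + 1) ⊕ Fin (M + 1)) F) from rfl, hgm]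
            ring
        exact ⟨a, fun v => by rw [← ha v]; rfl⟩
      choose φ hφ using hφ
      set H' := H.subgroupOf (spGL (M + 1) F)
      have heq : ∀ g h : spGL (M + 1) F, (g⁻¹ * h ∈ H' ↔ φ g = φ h) := by
        intro g h
        rw [Subgroup.mem_subgroupOf, hH _ (g⁻¹ * h).2]
        constructor
        · intro hp
          refine shift_inj (Q := Q) fun v => ?_
          rw [← hφ, ← hφ]
          have := hp (((h⁻¹ : spGL (M + 1) F).1 : Matrix (Fin (M + 1) ⊕ Fin (M + 1)) (Fin (M + 1) ⊕ Fin (M + 1)) F) *ᵥ v)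
          rw [mulVec_mulVec, ← Units.val_mul, ← Subgroup.coe_mul, mul_inv_cancel_right] at this
          exact this
        · intro he v
          have h1 := hφ g (((h.1 : GL (Fin (M + 1) ⊕ Fin (M + 1)) F) : Matrix (Fin (M + 1) ⊕ Fin (M + 1)) (Fin (M + 1) ⊕ Fin (M + 1)) F) *ᵥ v)
          rw [he, ← hφ h] at h1
          rw [mulVec_mulVec, mulVec_mulVec, ← Units.val_mul, ← Units.val_mul, ← Subgroup.coe_mul,
            ← Subgroup.coe_mul, inv_mul_cancel, OneMemClass.coe_one, Units.val_one, one_mulVec] at h1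
          exact h1
      have hidx : H.relIndex (spGL (M + 1) F) = Nat.card (Set.range φ) := by
        show Nat.card (spGL (M + 1) F ⧸ H') = _
        refine Nat.card_eq_of_bijective (Quotient.lift (fun g => (⟨φ g, g, rfl⟩ : Set.range φ))
          fun g h hgh => Subtype.ext ((heq g h).mp (QuotientGroup.leftRel_apply.mp hgh))) ⟨?_, ?_⟩
        · intro x y
          refine Quotient.inductionOn₂ x y fun g h hgh => Quotient.sound
            (QuotientGroup.leftRel_apply.mpr ((heq g h).mpr (congrArg Subtype.val hgh)))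
        · rintro ⟨_, g, rfl⟩
          exact ⟨⟦g⟧, rfl⟩
      -- the range is the class of `Q`
      have hrange : ∀ ε : ℤ, ε * ε = 1 → (zeros Q : ℤ) = (q : ℤ) ^ (2 * M + 1) +
          ε * ((q : ℤ) ^ (M + 1) - (q : ℤ) ^ M) →
          2 * (H.relIndex (spGL (M + 1) F) : ℤ) = (q : ℤ) ^ (M + 1) * ((q : ℤ) ^ (M + 1) + ε) := by
        intro ε hε hz
        have hcl := two_mul_card_class hz
        rw [← hcl, hidx, show Set.range φ = {v | Q v ∈ AS F} from ?_]
        · rfl
        ext a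
        constructor
        · rintro ⟨g, rfl⟩
          by_contra hn
          -- otherwise both classes would have the same size
          have hiso : Nat.card {v // shift Q (φ g) v ∈ AS F} = Nat.card {v // Q v ∈ AS F} := by
            refine Nat.card_congr (Equiv.subtypeEquiv
              ⟨fun v => ((g⁻¹ : spGL (M + 1) F).1 : Matrix (Fin (M + 1) ⊕ Fin (M + 1)) (Fin (M + 1) ⊕ Fin (M + 1)) F) *ᵥ v,
                fun v => ((g : spGL (M + 1) F).1 : Matrix (Fin (M + 1) ⊕ Fin (M + 1)) (Fin (M + 1) ⊕ Fin (M + 1)) F) *ᵥ v, fun v => ?_, fun v => ?_⟩ fun v => ?_)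
            · simp only [mulVec_mulVec, ← Units.val_mul, ← Subgroup.coe_mul, mul_inv_cancel,
                OneMemClass.coe_one, Units.val_one, one_mulVec]
            · simp only [mulVec_mulVec, ← Units.val_mul, ← Subgroup.coe_mul, inv_mul_cancel,
                OneMemClass.coe_one, Units.val_one, one_mulVec]
            · rw [← hφ]; rfl
          have hcompl : Nat.card {v // shift Q (φ g) v ∈ AS F} = Nat.card {v // ¬ Q v ∈ AS F} := by
            refine Nat.card_congr (Equiv.subtypeEquiv (Equiv.addLeft (φ g)) fun v => ?_).symm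
            show _ ↔ shift Q (φ g) (φ g + v) ∈ AS F
            rw [shift_shift_mem hQ]
            exact ⟨fun h => iff_of_false hn h, fun h h' => hn (h.mpr h')⟩
          have hsum : Nat.card {v // Q v ∈ AS F} + Nat.card {v // ¬ Q v ∈ AS F} = q ^ (2 * (M + 1)) := by
            rw [← Nat.card_sum, Nat.card_congr (Equiv.sumCompl _), Nat.card_fun, Nat.card_eq_fintype_card,
              Nat.card_eq_fintype_card, Fintype.card_sum, Fintype.card_fin, ← two_mul]
          rw [← hcompl, hiso] at hsum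
          zify at hsum
          have hq1 : (q : ℤ) ^ (M + 1) ≠ 0 := pow_ne_zero _ (by
            have := Fintype.card_pos (α := F); omega)
          have : (q : ℤ) ^ (M + 1) * ε = 0 := by linear_combination -hcl + hsum
          rcases mul_eq_zero.mp this with h0 | h0
          · exact hq1 h0
          · simp [h0] at hε
        · intro ha
          obtain ⟨T, hT, hTv⟩ := exists_move hQ ha
          refine ⟨⟨T, hT⟩⁻¹, shift_inj (Q := Q) fun v => ?_⟩
          rw [← hφ, inv_inv, hTv]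
      have hrp : Prime (r : ℤ) := Nat.prime_iff_prime_int.mp Fact.out
      have hrq : ∀ n, ¬ (r : ℤ) ∣ (q : ℤ) ^ n := fun n h => by
        have hq' := Int.natCast_dvd_natCast.mp (hrp.dvd_of_dvd_pow h)
        obtain ⟨k, hk, hcard⟩ := FiniteField.card F 2
        rw [hq, hcard] at hq'
        exact hr ((Nat.prime_dvd_prime_iff_eq Fact.out hk).mp ((Fact.out : r.Prime).dvd_of_dvd_pow hq'))
      have hdiv : ∀ ε : ℤ, ε * ε = 1 → (zeros Q : ℤ) = (q : ℤ) ^ (2 * M + 1) +
          ε * ((q : ℤ) ^ (M + 1) - (q : ℤ) ^ M) → (r : ℤ) ∣ (q : ℤ) ^ (M + 1) + ε := fun ε hε hz =>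
        (hrp.dvd_or_dvd (hrange ε hε hz ▸ dvd_mul_of_dvd_right (Int.natCast_dvd_natCast.mpr hdvd) 2)).resolve_left
          (hrq _)
      rcases type_cases hQ with ⟨⟨U, hU, hU0⟩, hz⟩ | ⟨hno, hz⟩
      · have h3 : r ∣ q ^ (M + 1) + 1 := by
          have := hdiv 1 (one_mul 1) (by rw [hz]; ring)
          exact_mod_cast this
        obtain ⟨t, ht⟩ := exists_aniso (F := F)
        obtain ⟨g₀, hg0, hg01, hfp⟩ := witness_minus_odd ht hr h3
        obtain ⟨e, g, hpol, hg, hgr, hg1, hpres, hgfp⟩ := exists_transport (d := M + 1)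
          (polarNondeg_qExt (polarNondeg_qBin ht) M) (by simp; omega) g₀ hg0 hg01 hfp
        obtain ⟨T, hT, hTH⟩ := h g hg hgr hg1
        obtain ⟨Q', hQ', hpres', hQT⟩ := hmove g T hg hT hTH
        obtain ⟨a, ha⟩ := exists_shift hpol hQ'
        obtain rfl := unique_form hg hgfp ha hpres hpres'
        refine CfsgLib.POAut.qExt_no_max ht
          (U.map (e.toLinearMap.comp (Matrix.toLin' (T : Matrix (Fin (M + 1) ⊕ Fin (M + 1)) (Fin (M + 1) ⊕ Fin (M + 1)) F)))) ⟨?_, ?_⟩
        · refine (finrank_map_inj (e.toLinearMap.comp (Matrix.toLin' (T : Matrix (Fin (M + 1) ⊕ Fin (M + 1)) (Fin (M + 1) ⊕ Fin (M + 1)) F)))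
            (e.injective.comp fun u v huv => ?_) _).trans hU
          have := congrArg (((T⁻¹ : GL (Fin (M + 1) ⊕ Fin (M + 1)) F) : Matrix (Fin (M + 1) ⊕ Fin (M + 1)) (Fin (M + 1) ⊕ Fin (M + 1)) F) *ᵥ ·) huv
          simpa [Matrix.toLin'_apply, mulVec_mulVec, ← Units.val_mul] using this
        · rintro _ ⟨w, hw, rfl⟩
          have := hQT w
          rw [ha, shift_apply, hU0 w hw] at this
          simpa [QuadraticMap.comp_apply, Matrix.toLin'_apply] using this
      · have h2' := hdiv (-1) (by norm_num) (by rw [hz]; ring)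
        rw [← sub_eq_add_neg] at h2'
        have h3 : r ∣ q ^ (M + 1) - 1 := by
          rw [← Int.natCast_dvd_natCast, Nat.cast_sub (Nat.one_le_pow _ _ Fintype.card_pos)]
          exact_mod_cast h2'
        obtain ⟨g₀, hg0, hg01, hfp⟩ := witness_plus_odd (F := F) 2 h3
        obtain ⟨e, g, hpol, hg, hgr, hg1, hpres, hgfp⟩ := exists_transport (d := M + 1)
          (polarNondeg_qPlus (M + 1)) (by simp; omega) g₀ hg0 hg01 hfp
        obtain ⟨T, hT, hTH⟩ := h g hg hgr hg1
        obtain ⟨Q', hQ', hpres', hQT⟩ := hmove g T hg hT hTH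
        obtain ⟨a, ha⟩ := exists_shift hpol hQ'
        obtain rfl := unique_form hg hgfp ha hpres hpres'
        refine hno ⟨(LinearMap.range (CfsgLib.POAut.xLin (F := F) (M + 1))).map
          ((Matrix.toLin' ((T⁻¹ : GL (Fin (M + 1) ⊕ Fin (M + 1)) F) : Matrix (Fin (M + 1) ⊕ Fin (M + 1)) (Fin (M + 1) ⊕ Fin (M + 1)) F)).comp e.symm.toLinearMap), ?_, ?_⟩
        · rw [finrank_map_inj _ ?_]
          · exact (CfsgLib.POAut.maxS_xLin (F := F) (M + 1)).1
          · intro u v huv
            have := congrArg ((T : Matrix (Fin (M + 1) ⊕ Fin (M + 1)) (Fin (M + 1) ⊕ Fin (M + 1)) F) *ᵥ ·) huv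
            simpa [Matrix.toLin'_apply, mulVec_mulVec, ← Units.val_mul] using this
        · rintro _ ⟨w, hw, rfl⟩
          rw [← hQT, ha, shift_apply, LinearMap.comp_apply, Matrix.toLin'_apply, mulVec_mulVec, ← Units.val_mul,
            mul_inv_cancel, Units.val_one, one_mulVec, LinearEquiv.coe_coe, QuadraticMap.comp_apply]
          simpa using (CfsgLib.POAut.maxS_xLin (F := F) (M + 1)).2 w hw
  · rintro ⟨rfl, hbad⟩ x hx hx2 -
    obtain ⟨g, hg, hp⟩ := exists_conj_of_involution hQ hbad hx (by rw [← sq, hx2])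
    exact ⟨g, hg, (hH _ (mul_mem (mul_mem (inv_mem hg) hx) hg)).mpr hp⟩

end CfsgLib.Classical.Elusive
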